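import Mathlib
import Cfsg.Agent.Lib.Helper35.M24V

/-!
# S5006: the explicit elements of order 11, 15, 21, 23 of `M24`

`r11, r15, r21, r23 ∈ M24` with their tables (`Rep`) and packed codes (`pk`).
-/

set_option autoImplicit false

namespace Cfsg.Agent.Lib.Helper35.M24BlkElts

open Cfsg Cfsg.Agent.Lib.Helper7.GolayBase Cfsg.Agent.Lib.Helper7.GolayPerm
  Cfsg.Agent.Lib.Helper35.PermTab Cfsg.Agent.Lib.Helper35.M24P Cfsg.Agent.Lib.Helper35.M24D
  Cfsg.Agent.Lib.Helper35.M24V

theorem rep_of_pk {g : Equiv.Perm GolayPt} {t : List Nat} (ht : t.length = 24)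
    (hb : ∀ a ∈ t, a < 32) (h : pk g = pkT t) : Rep g t := by
  have : tab g = t := pkT_injective _ _ (by rw [tab_length, ht]) (tab_lt32 g) hb h
  rw [← this]
  exact rep_tab g

/-- The packed code of `r11` and of its inverse, and their tables. -/
def c11 : Nat := 10790454575856717397122283679732412877296633073003663368
def c11' : Nat := 2557798136345455337655168059515699229223028631725299728568
def t11 : List Nat := [1, 2, 3, 16, 5, 19, 13, 18, 4, 6, 22, 7, 12, 23, 8, 9, 17, 15, 10, 20, 11, 21, 14, 0]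
def t11' : List Nat := [23, 0, 1, 2, 8, 4, 9, 11, 14, 15, 18, 20, 12, 6, 22, 17, 3, 16, 7, 5, 19, 21, 10, 13]

theorem ex11 : ∃ g : Equiv.Perm GolayPt, g ∈ M24 ∧ pk g = c11 ∧ pk g⁻¹ = c11' :=
  vP_sound (by decide +kernel)

/-- An element of order 11 of `M24`. -/
noncomputable def r11 : Equiv.Perm GolayPt := ex11.choose

theorem r11_mem : r11 ∈ M24 := ex11.choose_spec.1
theorem pk_r11 : pk r11 = c11 := ex11.choose_spec.2.1
theorem pk_r11_inv : pk r11⁻¹ = c11' := ex11.choose_spec.2.2
theorem rep_r11 : Rep r11 t11 :=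
  rep_of_pk (by decide) (by decide) (pk_r11.trans (by decide +kernel))
theorem rep_r11_inv : Rep r11⁻¹ t11' :=
  rep_of_pk (by decide) (by decide) (pk_r11_inv.trans (by decide +kernel))

/-- The packed code of `r15` and of its inverse, and their tables. -/
def c15 : Nat := 2956207948803396271346459717137238704639555762576898959488
def c15' : Nat := 1770035378620509852204296864746750832895855732672174248088
def t15 : List Nat := [16, 21, 4, 20, 11, 7, 22, 14, 2, 23, 1, 3, 13, 6, 5, 19, 10, 17, 12, 0, 9, 8, 18, 15]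
def t15' : List Nat := [19, 10, 8, 11, 2, 14, 13, 5, 21, 20, 16, 4, 18, 12, 7, 23, 0, 17, 22, 15, 3, 1, 6, 9]

theorem ex15 : ∃ g : Equiv.Perm GolayPt, g ∈ M24 ∧ pk g = c15 ∧ pk g⁻¹ = c15' :=
  vP_sound (by decide +kernel)

/-- An element of order 15 of `M24`. -/
noncomputable def r15 : Equiv.Perm GolayPt := ex15.choose

theorem r15_mem : r15 ∈ M24 := ex15.choose_spec.1
theorem pk_r15 : pk r15 = c15 := ex15.choose_spec.2.1
theorem pk_r15_inv : pk r15⁻¹ = c15' := ex15.choose_spec.2.2
theorem rep_r15 : Rep r15 t15 :=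
  rep_of_pk (by decide) (by decide) (pk_r15.trans (by decide +kernel))
theorem rep_r15_inv : Rep r15⁻¹ t15' :=
  rep_of_pk (by decide) (by decide) (pk_r15_inv.trans (by decide +kernel))

/-- The packed code of `r21` and of its inverse, and their tables. -/
def c21 : Nat := 1775408255571543939906847760882165242419901639516085581968
def c21' : Nat := 2553909887692894848950223247981458002104737554047312609368
def t21 : List Nat := [18, 15, 21, 12, 3, 22, 14, 20, 1, 11, 5, 0, 6, 23, 16, 19, 10, 7, 8, 2, 17, 4, 13, 9]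
def t21' : List Nat := [11, 8, 19, 4, 21, 10, 12, 17, 18, 23, 16, 9, 3, 22, 6, 1, 14, 20, 0, 15, 7, 2, 5, 13]

theorem ex21 : ∃ g : Equiv.Perm GolayPt, g ∈ M24 ∧ pk g = c21 ∧ pk g⁻¹ = c21' :=
  vP_sound (by decide +kernel)

/-- An element of order 21 of `M24`. -/
noncomputable def r21 : Equiv.Perm GolayPt := ex21.choose

theorem r21_mem : r21 ∈ M24 := ex21.choose_spec.1
theorem pk_r21 : pk r21 = c21 := ex21.choose_spec.2.1
theorem pk_r21_inv : pk r21⁻¹ = c21' := ex21.choose_spec.2.2
theorem rep_r21 : Rep r21 t21 :=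
  rep_of_pk (by decide) (by decide) (pk_r21.trans (by decide +kernel))
theorem rep_r21_inv : Rep r21⁻¹ t21' :=
  rep_of_pk (by decide) (by decide) (pk_r21_inv.trans (by decide +kernel))

/-- The packed code of `r23` and of its inverse, and their tables. -/
def c23 : Nat := 14600682194872520111829323924407978754425724201275494408
def c23' : Nat := 1184634218637606005807699153353825545467312548552938881208
def t23 : List Nat := [1, 2, 3, 13, 15, 21, 23, 17, 4, 9, 22, 12, 10, 16, 18, 11, 8, 20, 7, 5, 6, 14, 19, 0]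
def t23' : List Nat := [23, 0, 1, 2, 8, 19, 20, 18, 16, 9, 12, 15, 11, 3, 21, 4, 13, 7, 14, 22, 17, 5, 10, 6]

theorem ex23 : ∃ g : Equiv.Perm GolayPt, g ∈ M24 ∧ pk g = c23 ∧ pk g⁻¹ = c23' :=
  vP_sound (by decide +kernel)

/-- An element of order 23 of `M24`. -/
noncomputable def r23 : Equiv.Perm GolayPt := ex23.choose

theorem r23_mem : r23 ∈ M24 := ex23.choose_spec.1
theorem pk_r23 : pk r23 = c23 := ex23.choose_spec.2.1
theorem pk_r23_inv : pk r23⁻¹ = c23' := ex23.choose_spec.2.2
theorem rep_r23 : Rep r23 t23 :=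
  rep_of_pk (by decide) (by decide) (pk_r23.trans (by decide +kernel))
theorem rep_r23_inv : Rep r23⁻¹ t23' :=
  rep_of_pk (by decide) (by decide) (pk_r23_inv.trans (by decide +kernel))

end Cfsg.Agent.Lib.Helper35.M24BlkElts
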