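-- 2x2 matrices of determinant one: diagonalisation, finite l-subgroups of SL2 over an algebraically closed field.
import Mathlib

set_option autoImplicit false

namespace Cfsg.Agent.Lib.Helper35.SL2

open Matrix

section Diag

variable {K : Type*} [Field K]

/-- Cayley-Hamilton for 2×2 matrices of determinant one. -/
theorem sq_eq (M : Matrix (Fin 2) (Fin 2) K) (hdet : M.det = 1) :
    M * M = M.trace • M - 1 := by
  rw [Matrix.det_fin_two] at hdet
  ext i j
  fin_cases i <;> fin_cases j <;>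
    simp [Matrix.mul_apply, Fin.sum_univ_two, Matrix.trace_fin_two] <;>
    first | ring1 | linear_combination hdet | linear_combination -hdet

/-- Diagonalisation of a 2×2 matrix of determinant one with distinct eigenvalues `μ`, `μ⁻¹`. -/
theorem exists_diag (M : Matrix (Fin 2) (Fin 2) K) (hdet : M.det = 1) (μ : K)
    (hμ : μ ^ 2 - M.trace * μ + 1 = 0) (hμ1 : μ ^ 2 ≠ 1) :
    ∃ B Binv : Matrix (Fin 2) (Fin 2) K, Binv * B = 1 ∧ B * Binv = 1 ∧
      Binv * M * B = Matrix.diagonal ![μ, μ⁻¹] := by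
  have hμ0 : μ ≠ 0 := by
    rintro rfl
    simp at hμ
  have hν : μ⁻¹ ^ 2 - M.trace * μ⁻¹ + 1 = 0 := by
    field_simp
    linear_combination hμ
  have hne : μ ≠ μ⁻¹ := by
    intro h
    apply hμ1
    field_simp at h
    linear_combination h
  have hdet' := hdet
  rw [Matrix.det_fin_two] at hdet'
  rw [Matrix.trace_fin_two] at hμ hν
  -- it suffices to find B with nonzero determinant and M * B = B * D
  suffices h : ∃ B : Matrix (Fin 2) (Fin 2) K, B.det ≠ 0 ∧ M * B = B * Matrix.diagonal ![μ, μ⁻¹] by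
    obtain ⟨B, hB, hMB⟩ := h
    have hu : IsUnit B.det := isUnit_iff_ne_zero.mpr hB
    refine ⟨B, B⁻¹, Matrix.nonsing_inv_mul B hu, Matrix.mul_nonsing_inv B hu, ?_⟩
    rw [Matrix.mul_assoc, hMB, ← Matrix.mul_assoc, Matrix.nonsing_inv_mul B hu, Matrix.one_mul]
  by_cases hb : M 0 1 = 0
  · by_cases hc : M 1 0 = 0
    · -- diagonal
      rw [hb, hc] at hdet'
      simp only [mul_zero, sub_zero] at hdet'
      have hroot : (μ - M 0 0) * (μ - M 1 1) = 0 := by linear_combination hμ + hdet'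
      rcases mul_eq_zero.mp hroot with h | h
      · refine ⟨1, by simp, ?_⟩
        have h00 : M 0 0 = μ := by linear_combination -h
        have h11 : M 1 1 = μ⁻¹ := by
          rw [h00] at hdet'
          exact eq_inv_of_mul_eq_one_right hdet'
        ext i j
        fin_cases i <;> fin_cases j <;> simp [hb, hc, h00, h11]
      · refine ⟨!![0, 1; 1, 0], by simp [Matrix.det_fin_two], ?_⟩
        have h11 : M 1 1 = μ := by linear_combination -h
        have h00 : M 0 0 = μ⁻¹ := by
          rw [h11] at hdet'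
          exact eq_inv_of_mul_eq_one_left hdet'
        ext i j
        fin_cases i <;> fin_cases j <;>
          simp [Matrix.mul_apply, Fin.sum_univ_two, hb, hc, h00, h11]
    · refine ⟨!![μ - M 1 1, μ⁻¹ - M 1 1; M 1 0, M 1 0], ?_, ?_⟩
      · rw [Matrix.det_fin_two_of]
        intro h
        have : M 1 0 * (μ - μ⁻¹) = 0 := by linear_combination h
        rcases mul_eq_zero.mp this with h | h
        · exact hc h
        · exact hne (by linear_combination h)
      · rw [hb] at hdet'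
        ext i j
        fin_cases i <;> fin_cases j <;>
          simp [Matrix.mul_apply, Fin.sum_univ_two, hb]
        · linear_combination -hμ - hdet'
        · linear_combination -hν - hdet'
        · ring
        · ring
  · refine ⟨!![M 0 1, M 0 1; μ - M 0 0, μ⁻¹ - M 0 0], ?_, ?_⟩
    · rw [Matrix.det_fin_two_of]
      intro h
      have : M 0 1 * (μ⁻¹ - μ) = 0 := by linear_combination h
      rcases mul_eq_zero.mp this with h | h
      · exact hb h
      · exact hne (by linear_combination -h)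
    · ext i j
      fin_cases i <;> fin_cases j <;>
        simp [Matrix.mul_apply, Fin.sum_univ_two]
      · ring
      · ring
      · linear_combination -hμ - hdet'
      · linear_combination -hν - hdet'


/-- A unipotent 2×2 matrix of finite order prime to the characteristic is trivial. -/
theorem eq_one_of_trace_two (M : Matrix (Fin 2) (Fin 2) K) (hdet : M.det = 1)
    (ht : M.trace = 2) (k : ℕ) (hk : (k : K) ≠ 0) (hMk : M ^ k = 1) : M = 1 := by
  have hsq := sq_eq M hdet
  rw [ht] at hsq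
  have hn : (M - 1) * (M - 1) = 0 := by
    rw [sub_mul, mul_sub, mul_sub, hsq, two_smul]
    simp only [Matrix.mul_one, Matrix.one_mul]
    abel
  have hpow : ∀ j : ℕ, M ^ j = 1 + j • (M - 1) := by
    intro j
    induction j with
    | zero => simp
    | succ j ih =>
      have hM : M ^ j * M = M ^ j * (1 + (M - 1)) := by
        congr 1
        abel
      rw [pow_succ, hM, ih, add_mul, mul_add, mul_add]
      simp only [smul_mul_assoc, hn, Matrix.mul_one, Matrix.one_mul, smul_zero, add_zero,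
        succ_nsmul]
      abel
  have h1 := hpow k
  rw [hMk] at h1
  have h2 : k • (M - 1) = 0 := by
    have := h1
    rw [left_eq_add] at this
    exact this
  have h3 : M - 1 = 0 := by
    ext i j
    have := congrFun (congrFun h2 i) j
    simp only [Matrix.smul_apply, nsmul_eq_mul, Matrix.zero_apply] at this ⊢
    rcases mul_eq_zero.mp this with h | h
    · exact absurd h hk
    · exact h
  exact sub_eq_zero.mp h3

/-- A 2×2 matrix of determinant one with `tr² = 4` and of finite order prime to the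
characteristic is `±1`. -/
theorem eq_one_or_neg_one (M : Matrix (Fin 2) (Fin 2) K) (hdet : M.det = 1)
    (ht : M.trace ^ 2 = 4) (k : ℕ) (hk : (k : K) ≠ 0) (hMk : M ^ k = 1) : M = 1 ∨ M = -1 := by
  have h : (M.trace - 2) * (M.trace + 2) = 0 := by linear_combination ht
  rcases mul_eq_zero.mp h with h | h
  · exact Or.inl (eq_one_of_trace_two M hdet (by linear_combination h) k hk hMk)
  · by_cases h2 : (2 : K) = 0
    · refine Or.inl (eq_one_of_trace_two M hdet ?_ k hk hMk)
      linear_combination h - 2 * h2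
    · right
      have hdet' : (-M).det = 1 := by
        rw [Matrix.det_neg, hdet]; simp
      have ht' : (-M).trace = 2 := by
        rw [Matrix.trace_neg]; linear_combination -h
      have hk' : ((2 * k : ℕ) : K) ≠ 0 := by
        push_cast
        exact mul_ne_zero h2 hk
      have hpow : (-M) ^ (2 * k) = 1 := by
        rw [pow_mul, neg_sq, ← pow_mul, mul_comm, pow_mul, hMk, one_pow]
      have := eq_one_of_trace_two (-M) hdet' ht' (2 * k) hk' hpow
      rw [← this, neg_neg]

/-- A matrix commuting with a diagonal matrix with distinct entries is diagonal. -/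
theorem offdiag_zero_of_comm {μ ν : K} (hne : μ ≠ ν) (N : Matrix (Fin 2) (Fin 2) K)
    (h : N * Matrix.diagonal ![μ, ν] = Matrix.diagonal ![μ, ν] * N) :
    N 0 1 = 0 ∧ N 1 0 = 0 := by
  have h01 := congrFun (congrFun h 0) 1
  have h10 := congrFun (congrFun h 1) 0
  simp [Matrix.mul_apply, Fin.sum_univ_two] at h01 h10
  constructor
  · have : N 0 1 * (ν - μ) = 0 := by linear_combination h01
    rcases mul_eq_zero.mp this with h | h
    · exact h
    · exact absurd (sub_eq_zero.mp h).symm hne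
  · have : N 1 0 * (μ - ν) = 0 := by linear_combination h10
    rcases mul_eq_zero.mp this with h | h
    · exact h
    · exact absurd (sub_eq_zero.mp h) hne

end Diag


section Cyclic

variable {K : Type*} [Field K] {Q : Type*} [Group Q]

/-- The representation `ρ` conjugated by the matrix `B`. -/
def conjRep (ρ : Q →* Matrix.SpecialLinearGroup (Fin 2) K) (B Binv : Matrix (Fin 2) (Fin 2) K)
    (q : Q) : Matrix (Fin 2) (Fin 2) K := Binv * (ρ q : Matrix (Fin 2) (Fin 2) K) * B

theorem conjRep_mul (ρ : Q →* Matrix.SpecialLinearGroup (Fin 2) K)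
    {B Binv : Matrix (Fin 2) (Fin 2) K} (hB : B * Binv = 1) (q q' : Q) :
    conjRep ρ B Binv (q * q') = conjRep ρ B Binv q * conjRep ρ B Binv q' := by
  unfold conjRep
  rw [map_mul, Matrix.SpecialLinearGroup.coe_mul]
  calc Binv * ((ρ q : Matrix (Fin 2) (Fin 2) K) * (ρ q' : Matrix (Fin 2) (Fin 2) K)) * B
      = Binv * (ρ q : Matrix (Fin 2) (Fin 2) K) * 1 * (ρ q' : Matrix (Fin 2) (Fin 2) K) * B := by
        simp only [Matrix.mul_one, Matrix.mul_assoc]
    _ = _ := by rw [← hB]; simp only [Matrix.mul_assoc]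

theorem conjRep_one (ρ : Q →* Matrix.SpecialLinearGroup (Fin 2) K)
    {B Binv : Matrix (Fin 2) (Fin 2) K} (hB' : Binv * B = 1) : conjRep ρ B Binv 1 = 1 := by
  unfold conjRep
  rw [map_one, Matrix.SpecialLinearGroup.coe_one, Matrix.mul_one, hB']

theorem conjRep_det (ρ : Q →* Matrix.SpecialLinearGroup (Fin 2) K)
    {B Binv : Matrix (Fin 2) (Fin 2) K} (hB' : Binv * B = 1) (q : Q) :
    (conjRep ρ B Binv q).det = 1 := by
  unfold conjRep
  have h := congrArg Matrix.det hB'
  rw [Matrix.det_mul, Matrix.det_one] at h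
  rw [Matrix.det_mul, Matrix.det_mul, (ρ q).2, mul_one, h]

theorem conjRep_eq_one (ρ : Q →* Matrix.SpecialLinearGroup (Fin 2) K)
    {B Binv : Matrix (Fin 2) (Fin 2) K} (hB : B * Binv = 1) {q : Q}
    (h : conjRep ρ B Binv q = 1) : ρ q = 1 := by
  apply Subtype.ext
  have h2 : B * conjRep ρ B Binv q * Binv = B * 1 * Binv := by rw [h]
  unfold conjRep at h2
  have h3 : B * (Binv * (ρ q : Matrix (Fin 2) (Fin 2) K) * B) * Binv =
      (B * Binv) * (ρ q : Matrix (Fin 2) (Fin 2) K) * (B * Binv) := by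
    simp only [Matrix.mul_assoc]
  rw [h3, hB, Matrix.one_mul, Matrix.mul_one, Matrix.mul_one, hB] at h2
  exact h2

/-- A finite group with a faithful representation in `SL₂(K)` and a central element with
distinct eigenvalues `μ ≠ μ⁻¹` is cyclic. -/
theorem isCyclic_of_central_diag [Finite Q] (ρ : Q →* Matrix.SpecialLinearGroup (Fin 2) K)
    (hρ : Function.Injective ρ) (ζ : Q) (hζ : ∀ q, q * ζ = ζ * q) (μ : K)
    (hμ : μ ^ 2 - (ρ ζ : Matrix (Fin 2) (Fin 2) K).trace * μ + 1 = 0) (hμ1 : μ ^ 2 ≠ 1) :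
    IsCyclic Q := by
  obtain ⟨B, Binv, hB', hB, hD⟩ := exists_diag (ρ ζ).1 (ρ ζ).2 μ hμ hμ1
  have hμ0 : μ ≠ 0 := by
    rintro rfl
    simp at hμ
  have hne : μ ≠ μ⁻¹ := by
    intro h
    apply hμ1
    field_simp at h
    linear_combination h
  have hdiag : ∀ q, conjRep ρ B Binv q 0 1 = 0 ∧ conjRep ρ B Binv q 1 0 = 0 := by
    intro q
    apply offdiag_zero_of_comm hne
    rw [← hD]
    show conjRep ρ B Binv q * conjRep ρ B Binv ζ = conjRep ρ B Binv ζ * conjRep ρ B Binv q
    rw [← conjRep_mul ρ hB, ← conjRep_mul ρ hB, hζ q]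
  let χ : Q →* K :=
    { toFun := fun q => conjRep ρ B Binv q 0 0
      map_one' := by rw [conjRep_one ρ hB']; simp
      map_mul' := fun q q' => by
        rw [conjRep_mul ρ hB, Matrix.mul_apply, Fin.sum_univ_two, (hdiag q).1, zero_mul,
          add_zero] }
  apply isCyclic_of_injective_ringHom χ
  intro q q' h
  have h1 : χ (q'⁻¹ * q) = 1 := by
    rw [map_mul, h, ← map_mul, inv_mul_cancel, map_one]
  have h2 : conjRep ρ B Binv (q'⁻¹ * q) = 1 := by
    have hd := conjRep_det ρ hB' (q'⁻¹ * q)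
    rw [Matrix.det_fin_two, (hdiag _).1, (hdiag _).2] at hd
    have h00 : conjRep ρ B Binv (q'⁻¹ * q) 0 0 = 1 := h1
    rw [h00] at hd
    ext i j
    fin_cases i <;> fin_cases j
    · simpa using h00
    · simpa using (hdiag _).1
    · simpa using (hdiag _).2
    · simp only [Fin.mk_one, Fin.isValue, Matrix.one_apply_eq]
      linear_combination hd
  have h3 := hρ ((conjRep_eq_one ρ hB h2).trans (map_one ρ).symm)
  calc q = q' * (q'⁻¹ * q) := by group
    _ = q' := by rw [h3, mul_one]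

open Polynomial in
/-- Over an algebraically closed field: a finite group with a faithful representation in
`SL₂(K)` and a central element with `tr² ≠ 4` is cyclic. -/
theorem isCyclic_of_central_trace [IsAlgClosed K] [Finite Q]
    (ρ : Q →* Matrix.SpecialLinearGroup (Fin 2) K) (hρ : Function.Injective ρ) (ζ : Q)
    (hζ : ∀ q, q * ζ = ζ * q) (ht : (ρ ζ : Matrix (Fin 2) (Fin 2) K).trace ^ 2 ≠ 4) :
    IsCyclic Q := by
  set t := (ρ ζ : Matrix (Fin 2) (Fin 2) K).trace with ht_def
  have hdeg : (C (1 : K) * X ^ 2 + C (-t) * X + C 1).degree ≠ 0 := by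
    rw [degree_quadratic one_ne_zero]
    decide
  obtain ⟨μ, hμ⟩ := IsAlgClosed.exists_root _ hdeg
  simp only [IsRoot.def, eval_add, eval_mul, eval_C, eval_pow, eval_X, one_mul] at hμ
  refine isCyclic_of_central_diag ρ hρ ζ hζ μ (by linear_combination hμ) ?_
  intro h1
  apply ht
  have h2 : t * μ = 2 := by linear_combination -hμ + h1
  have : t ^ 2 * μ ^ 2 = 4 := by linear_combination (t * μ + 2) * h2
  rw [h1, mul_one] at this
  exact this

/-- Over an algebraically closed field: a finite `l`-group, `l` odd and invertible in `K`, with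
a faithful representation in `SL₂(K)` is cyclic. -/
theorem isCyclic_of_odd_pgroup [IsAlgClosed K] [Finite Q]
    (ρ : Q →* Matrix.SpecialLinearGroup (Fin 2) K) (hρ : Function.Injective ρ) (l : ℕ)
    [Fact l.Prime] (hl2 : l ≠ 2) (hlK : (l : K) ≠ 0) (hQ : IsPGroup l Q) : IsCyclic Q := by
  rcases subsingleton_or_nontrivial Q with h | h
  · exact isCyclic_of_subsingleton
  · have hnt := hQ.center_nontrivial
    obtain ⟨ζ, hζ1⟩ := exists_ne (1 : Subgroup.center Q)
    refine isCyclic_of_central_trace ρ hρ ζ.1 (fun q => Subgroup.mem_center_iff.mp ζ.2 q) ?_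
    intro ht
    obtain ⟨j, hj⟩ := hQ ζ.1
    have hpow : (ρ ζ.1 : Matrix (Fin 2) (Fin 2) K) ^ (l ^ j) = 1 := by
      rw [← Matrix.SpecialLinearGroup.coe_pow, ← map_pow, hj, map_one]
      rfl
    have hcases := eq_one_or_neg_one _ (ρ ζ.1).2 ht (l ^ j)
      (by push_cast; exact pow_ne_zero _ hlK) hpow
    have hsq : ζ.1 ^ 2 = 1 := by
      apply hρ
      rw [map_pow, map_one]
      apply Subtype.ext
      rw [Matrix.SpecialLinearGroup.coe_pow, Matrix.SpecialLinearGroup.coe_one]
      rcases hcases with h1 | h1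
      · rw [h1, one_pow]
      · rw [h1, neg_sq, one_pow]
    have ho1 : orderOf ζ.1 ∣ 2 := orderOf_dvd_of_pow_eq_one hsq
    have ho2 : orderOf ζ.1 ∣ l ^ j := orderOf_dvd_of_pow_eq_one hj
    have hco : Nat.Coprime 2 (l ^ j) := by
      apply Nat.Coprime.pow_right
      rw [Nat.coprime_primes Nat.prime_two Fact.out]
      exact fun h => hl2 h.symm
    have ho : orderOf ζ.1 = 1 := Nat.eq_one_of_dvd_coprimes hco ho1 ho2
    exact hζ1 (Subtype.ext (orderOf_eq_one_iff.mp ho))

end Cyclic

section TwoGroup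

variable {K : Type*} [Field K] {Q : Type*} [Group Q]

open Polynomial in
theorem exists_diag_of_trace [IsAlgClosed K] (M : Matrix (Fin 2) (Fin 2) K) (hdet : M.det = 1)
    (ht : M.trace ^ 2 ≠ 4) :
    ∃ (μ : K) (B Binv : Matrix (Fin 2) (Fin 2) K), μ ≠ 0 ∧ μ ≠ μ⁻¹ ∧ Binv * B = 1 ∧
      B * Binv = 1 ∧ Binv * M * B = Matrix.diagonal ![μ, μ⁻¹] := by
  set t := M.trace with ht_def
  have hdeg : (C (1 : K) * X ^ 2 + C (-t) * X + C 1).degree ≠ 0 := by
    rw [degree_quadratic one_ne_zero]
    decide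
  obtain ⟨μ, hμ⟩ := IsAlgClosed.exists_root _ hdeg
  simp only [IsRoot.def, eval_add, eval_mul, eval_C, eval_pow, eval_X, one_mul] at hμ
  have hμ' : μ ^ 2 - t * μ + 1 = 0 := by linear_combination hμ
  have hμ1 : μ ^ 2 ≠ 1 := by
    intro h1
    apply ht
    have h2 : t * μ = 2 := by linear_combination -hμ + h1
    have : t ^ 2 * μ ^ 2 = 4 := by linear_combination (t * μ + 2) * h2
    rw [h1, mul_one] at this
    exact this
  have hμ0 : μ ≠ 0 := by
    rintro rfl
    simp at hμ'
  have hne : μ ≠ μ⁻¹ := by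
    intro h
    apply hμ1
    field_simp at h
    linear_combination h
  obtain ⟨B, Binv, h1, h2, h3⟩ := exists_diag M hdet μ hμ' hμ1
  exact ⟨μ, B, Binv, hμ0, hne, h1, h2, h3⟩

/-- In characteristic `≠ 2` the only involutions of `SL₂` are `±1`. -/
theorem eq_one_or_neg_one_of_sq (M : Matrix (Fin 2) (Fin 2) K) (hdet : M.det = 1)
    (h2 : (2 : K) ≠ 0) (hsq : M * M = 1) : M = 1 ∨ M = -1 := by
  have h := sq_eq M hdet
  rw [hsq] at h
  have h' : M.trace • M = (2 : K) • (1 : Matrix (Fin 2) (Fin 2) K) := by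
    rw [two_smul]
    calc M.trace • M = (M.trace • M - 1) + 1 := by abel
      _ = 1 + 1 := by rw [← h]
  have ht : M.trace ^ 2 = 4 := by
    have := congrArg Matrix.trace h'
    rw [Matrix.trace_smul, Matrix.trace_smul, Matrix.trace_one] at this
    simp only [smul_eq_mul, Fintype.card_fin, Nat.cast_ofNat] at this
    linear_combination this
  exact eq_one_or_neg_one M hdet ht 2 (by exact_mod_cast h2) (by rw [pow_two, hsq])

/-- Structure of finite 2-subgroups of `SL₂(K)`, `K` algebraically closed of characteristic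
`≠ 2`: cyclic or of generalized quaternion type. -/
theorem two_group_structure [IsAlgClosed K] [Finite Q]
    (ρ : Q →* Matrix.SpecialLinearGroup (Fin 2) K) (hρ : Function.Injective ρ)
    (h2 : (2 : K) ≠ 0) (hQ : IsPGroup 2 Q) :
    IsCyclic Q ∨ ∃ (g y : Q) (n : ℕ), (∀ q : Q, ∃ k : ℤ, q = g ^ k ∨ q = g ^ k * y) ∧
      y * g * y⁻¹ = g⁻¹ ∧ y * y = g ^ n ∧ ∀ k : ℤ, g ^ (2 * k) = 1 → (n : ℤ) ∣ k := by
  classical
  rcases subsingleton_or_nontrivial Q with hsub | hnt
  · exact Or.inl isCyclic_of_subsingleton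
  -- elements with tr² = 4 are ±1
  have hpm : ∀ q : Q, (ρ q : Matrix (Fin 2) (Fin 2) K).trace ^ 2 = 4 →
      (ρ q : Matrix (Fin 2) (Fin 2) K) = 1 ∨ (ρ q : Matrix (Fin 2) (Fin 2) K) = -1 := by
    intro q ht
    obtain ⟨j, hj⟩ := hQ q
    have hpow : (ρ q : Matrix (Fin 2) (Fin 2) K) ^ (2 ^ j) = 1 := by
      rw [← Matrix.SpecialLinearGroup.coe_pow, ← map_pow, hj, map_one]
      rfl
    exact eq_one_or_neg_one _ (ρ q).2 ht (2 ^ j) (by push_cast; exact pow_ne_zero _ h2) hpow
  have hone : ∀ q : Q, (ρ q : Matrix (Fin 2) (Fin 2) K) = 1 → q = 1 := by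
    intro q hq
    apply hρ
    rw [map_one]
    exact Subtype.ext hq
  by_cases hc : ∃ ζ ∈ Subgroup.center Q, (ρ ζ : Matrix (Fin 2) (Fin 2) K) ≠ 1 ∧
      (ρ ζ : Matrix (Fin 2) (Fin 2) K) ≠ -1
  · obtain ⟨ζ, hζ, h1, h2'⟩ := hc
    left
    refine isCyclic_of_central_trace ρ hρ ζ (fun q => Subgroup.mem_center_iff.mp hζ q) ?_
    intro ht
    rcases hpm ζ ht with h | h
    · exact h1 h
    · exact h2' h
  push Not at hc
  -- the centre is {1, ζ₀}
  have hcnt := hQ.center_nontrivial
  obtain ⟨ζ₀', hζ₀1⟩ := exists_ne (1 : Subgroup.center Q)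
  obtain ⟨ζ₀, hζ₀c⟩ := ζ₀'
  have hζ₀ne : ζ₀ ≠ 1 := fun h => hζ₀1 (Subtype.ext h)
  have hζ₀ : (ρ ζ₀ : Matrix (Fin 2) (Fin 2) K) = -1 := by
    by_contra h
    exact hζ₀ne (hone ζ₀ (by
      by_contra h'
      exact h (hc ζ₀ hζ₀c h')))
  have hneg : ∀ q : Q, (ρ q : Matrix (Fin 2) (Fin 2) K) = -1 → q = ζ₀ := by
    intro q hq
    apply hρ
    exact Subtype.ext (hq.trans hζ₀.symm)
  have hcen : ∀ ζ ∈ Subgroup.center Q, ζ = 1 ∨ ζ = ζ₀ := by
    intro ζ hζ
    by_cases h1 : (ρ ζ : Matrix (Fin 2) (Fin 2) K) = 1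
    · exact Or.inl (hone ζ h1)
    · exact Or.inr (hneg ζ (hc ζ hζ h1))
  have hζ₀comm : ∀ q, q * ζ₀ = ζ₀ * q := Subgroup.mem_center_iff.mp hζ₀c
  have hζ₀sq : ζ₀ * ζ₀ = 1 := by
    apply hone
    rw [map_mul, Matrix.SpecialLinearGroup.coe_mul, hζ₀]
    simp
  rcases subsingleton_or_nontrivial (Q ⧸ Subgroup.center Q) with hqs | hqn
  · left
    refine ⟨⟨ζ₀, fun q => ?_⟩⟩
    have hq : q ∈ Subgroup.center Q := by
      rw [← QuotientGroup.eq_one_iff]
      exact Subsingleton.elim _ _
    rcases hcen q hq with h | h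
    · rw [h]; exact Subgroup.one_mem (Subgroup.zpowers ζ₀)
    · rw [h]; exact Subgroup.mem_zpowers ζ₀
  -- a central element of the quotient
  have hQq : IsPGroup 2 (Q ⧸ Subgroup.center Q) := hQ.to_quotient _
  have hqc := hQq.center_nontrivial
  obtain ⟨xbar', hxbar1⟩ := exists_ne (1 : Subgroup.center (Q ⧸ Subgroup.center Q))
  obtain ⟨xbar, hxbarc⟩ := xbar'
  obtain ⟨x, rfl⟩ := QuotientGroup.mk_surjective xbar
  have hx1 : x ∉ Subgroup.center Q := by
    intro h
    apply hxbar1
    apply Subtype.ext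
    exact (QuotientGroup.eq_one_iff x).mpr h
  have hx2 : ∀ h : Q, h * x * h⁻¹ = x ∨ h * x * h⁻¹ = ζ₀ * x := by
    intro h
    have hm : (h * x * h⁻¹ * x⁻¹ : Q) ∈ Subgroup.center Q := by
      rw [← QuotientGroup.eq_one_iff]
      have := Subgroup.mem_center_iff.mp hxbarc (h : Q ⧸ Subgroup.center Q)
      simp only [QuotientGroup.mk_mul, QuotientGroup.mk_inv]
      rw [this]
      group
    rcases hcen _ hm with h' | h'
    · left
      calc h * x * h⁻¹ = (h * x * h⁻¹ * x⁻¹) * x := by group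
        _ = x := by rw [h', one_mul]
    · right
      calc h * x * h⁻¹ = (h * x * h⁻¹ * x⁻¹) * x := by group
        _ = ζ₀ * x := by rw [h']
  have hx3 : (ρ x : Matrix (Fin 2) (Fin 2) K).trace ^ 2 ≠ 4 := by
    intro ht
    rcases hpm x ht with h | h
    · exact hx1 (by rw [hone x h]; exact Subgroup.one_mem _)
    · exact hx1 (by rw [hneg x h]; exact hζ₀c)
  obtain ⟨μ, B, Binv, hμ0, hne, hB', hB, hD⟩ := exists_diag_of_trace (ρ x).1 (ρ x).2 hx3
  -- injectivity of the conjugated representation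
  have hNinj : ∀ a b : Q, conjRep ρ B Binv a = conjRep ρ B Binv b → a = b := by
    intro a b hab
    have h1 : conjRep ρ B Binv (a * b⁻¹) = 1 := by
      rw [conjRep_mul ρ hB, hab, ← conjRep_mul ρ hB, mul_inv_cancel, conjRep_one ρ hB']
    have h3 := hρ ((conjRep_eq_one ρ hB h1).trans (map_one ρ).symm)
    calc a = (a * b⁻¹) * b := by group
      _ = b := by rw [h3, one_mul]
  have hNx : conjRep ρ B Binv x = Matrix.diagonal ![μ, μ⁻¹] := hD
  have hNζ₀ : conjRep ρ B Binv ζ₀ = -1 := by
    unfold conjRep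
    rw [hζ₀, Matrix.mul_neg, Matrix.mul_one, Matrix.neg_mul, hB']
  -- the centralizer of x
  have hCdiag : ∀ c : Q, c * x = x * c →
      conjRep ρ B Binv c 0 1 = 0 ∧ conjRep ρ B Binv c 1 0 = 0 := by
    intro c hcx
    apply offdiag_zero_of_comm hne
    rw [← hNx, ← conjRep_mul ρ hB, ← conjRep_mul ρ hB, hcx]
  have hCcyc : IsCyclic (Subgroup.centralizer ({x} : Set Q)) := by
    refine isCyclic_of_central_trace (ρ.comp (Subgroup.centralizer ({x} : Set Q)).subtype)
      (hρ.comp Subtype.val_injective) ⟨x, Subgroup.mem_centralizer_iff.mpr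
        (fun h hh => by rw [Set.mem_singleton_iff.mp hh])⟩ ?_ hx3
    intro c
    apply Subtype.ext
    have := Subgroup.mem_centralizer_iff.mp c.2 x (Set.mem_singleton x)
    exact this.symm
  obtain ⟨g, hg⟩ := hCcyc.exists_generator
  -- an element outside the centralizer
  obtain ⟨y, hy⟩ : ∃ y : Q, y * x * y⁻¹ = ζ₀ * x := by
    by_contra hno
    push Not at hno
    apply hx1
    rw [Subgroup.mem_center_iff]
    intro h
    rcases hx2 h with h' | h'
    · calc h * x = (h * x * h⁻¹) * h := by group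
        _ = x * h := by rw [h']
    · exact absurd h' (hno h)
  have hyx : y * x = ζ₀ * x * y := by
    calc y * x = (y * x * y⁻¹) * y := by group
      _ = ζ₀ * x * y := by rw [hy]
  -- the matrix of y is antidiagonal
  have hNy : conjRep ρ B Binv y * Matrix.diagonal ![μ, μ⁻¹] =
      -(Matrix.diagonal ![μ, μ⁻¹] * conjRep ρ B Binv y) := by
    rw [← hNx, ← conjRep_mul ρ hB, hyx, conjRep_mul ρ hB, conjRep_mul ρ hB, hNζ₀]
    simp
  have hy00 : conjRep ρ B Binv y 0 0 = 0 := by
    have h00 := congrFun (congrFun hNy 0) 0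
    simp [Matrix.mul_apply, Fin.sum_univ_two] at h00
    have : (2 * μ) * conjRep ρ B Binv y 0 0 = 0 := by linear_combination h00
    rcases mul_eq_zero.mp this with h | h
    · exact absurd h (mul_ne_zero h2 hμ0)
    · exact h
  have hy11 : conjRep ρ B Binv y 1 1 = 0 := by
    have h11 := congrFun (congrFun hNy 1) 1
    simp [Matrix.mul_apply, Fin.sum_univ_two] at h11
    have : (2 * μ⁻¹) * conjRep ρ B Binv y 1 1 = 0 := by linear_combination h11
    rcases mul_eq_zero.mp this with h | h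
    · exact absurd h (mul_ne_zero h2 (inv_ne_zero hμ0))
    · exact h
  have hydet : conjRep ρ B Binv y 0 1 * conjRep ρ B Binv y 1 0 = -1 := by
    have hd := conjRep_det ρ hB' y
    rw [Matrix.det_fin_two, hy00, hy11] at hd
    linear_combination -hd
  -- y * y = ζ₀
  have hyy : y * y = ζ₀ := by
    apply hNinj
    rw [conjRep_mul ρ hB, hNζ₀]
    ext i j
    fin_cases i <;> fin_cases j <;>
      simp [Matrix.mul_apply, Fin.sum_univ_two, hy00, hy11]
    · exact hydet
    · rw [mul_comm]; exact hydet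
  -- y inverts g
  have hgx : (g : Q) * x = x * g :=
    (Subgroup.mem_centralizer_iff.mp g.2 x (Set.mem_singleton x)).symm
  have hginvx : (g : Q)⁻¹ * x = x * (g : Q)⁻¹ := by
    calc (g : Q)⁻¹ * x = (g : Q)⁻¹ * (x * g) * (g : Q)⁻¹ := by group
      _ = (g : Q)⁻¹ * (g * x) * (g : Q)⁻¹ := by rw [hgx]
      _ = x * (g : Q)⁻¹ := by group
  have hyg : y * (g : Q) = (g : Q)⁻¹ * y := by
    apply hNinj
    rw [conjRep_mul ρ hB, conjRep_mul ρ hB]
    have hgd := hCdiag g hgx
    have hgid := hCdiag _ hginvx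
    have hprod : conjRep ρ B Binv (g : Q)⁻¹ * conjRep ρ B Binv g = 1 := by
      rw [← conjRep_mul ρ hB, inv_mul_cancel, conjRep_one ρ hB']
    have hgdet := conjRep_det ρ hB' (g : Q)
    rw [Matrix.det_fin_two, hgd.1, hgd.2] at hgdet
    have p00 := congrFun (congrFun hprod 0) 0
    have p11 := congrFun (congrFun hprod 1) 1
    simp [Matrix.mul_apply, Fin.sum_univ_two, hgd.1, hgd.2, hgid.1, hgid.2] at p00 p11
    have e00 : conjRep ρ B Binv (g : Q)⁻¹ 0 0 = conjRep ρ B Binv g 1 1 := by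
      have hne0 : conjRep ρ B Binv g 0 0 ≠ 0 := by
        intro h0
        rw [h0] at p00
        simp at p00
      apply mul_right_cancel₀ hne0
      rw [p00]
      linear_combination -hgdet
    have e11 : conjRep ρ B Binv (g : Q)⁻¹ 1 1 = conjRep ρ B Binv g 0 0 := by
      have hne0 : conjRep ρ B Binv g 1 1 ≠ 0 := by
        intro h0
        rw [h0] at p11
        simp at p11
      apply mul_right_cancel₀ hne0
      rw [p11]
      linear_combination -hgdet
    ext i j
    fin_cases i <;> fin_cases j <;>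
      simp [Matrix.mul_apply, Fin.sum_univ_two, hy00, hy11, hgd.1, hgd.2, hgid.1, hgid.2,
        e00, e11]
    · ring
    · ring
  -- ζ₀ is a power of g
  have hζ₀C : ζ₀ ∈ Subgroup.centralizer ({x} : Set Q) :=
    Subgroup.mem_centralizer_iff.mpr (fun h hh => by
      rw [Set.mem_singleton_iff.mp hh]; exact hζ₀comm x)
  have hoζ : orderOf ζ₀ = 2 := by
    apply orderOf_eq_prime
    · rw [pow_two]; exact hζ₀sq
    · exact hζ₀ne
  have hdvd : 2 ∣ orderOf (g : Q) := by
    rw [← hoζ]
    have hmem : (⟨ζ₀, hζ₀C⟩ : Subgroup.centralizer ({x} : Set Q)) ∈ Subgroup.zpowers g := hg _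
    obtain ⟨k, hk⟩ := Subgroup.mem_zpowers_iff.mp hmem
    have hk' : (g : Q) ^ k = ζ₀ := by
      have := congrArg Subtype.val hk
      simpa using this
    rw [← hk']
    exact orderOf_dvd_of_mem_zpowers (Subgroup.zpow_mem_zpowers _ _)
  obtain ⟨n, hn⟩ := hdvd
  have hNpos : 0 < orderOf (g : Q) := orderOf_pos _
  have hnpos : 0 < n := by
    rcases Nat.eq_zero_or_pos n with h | h
    · rw [h] at hn; omega
    · exact h
  have hgn : (g : Q) ^ n = ζ₀ := by
    have hne1 : (g : Q) ^ n ≠ 1 := pow_ne_one_of_lt_orderOf hnpos.ne' (by omega)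
    have hsq1 : ((g : Q) ^ n) * ((g : Q) ^ n) = 1 := by
      rw [← pow_add, ← two_mul, ← hn, pow_orderOf_eq_one]
    have hmat : (ρ ((g : Q) ^ n) : Matrix (Fin 2) (Fin 2) K) *
        (ρ ((g : Q) ^ n) : Matrix (Fin 2) (Fin 2) K) = 1 := by
      rw [← Matrix.SpecialLinearGroup.coe_mul, ← map_mul, hsq1, map_one]
      rfl
    rcases eq_one_or_neg_one_of_sq _ (ρ ((g : Q) ^ n)).2 h2 hmat with h | h
    · exact absurd (hone _ h) hne1
    · exact hneg _ h
  refine Or.inr ⟨g, y, n, ?_, ?_, ?_, ?_⟩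
  · intro q
    by_cases hq : q * x = x * q
    · have hqC : q ∈ Subgroup.centralizer ({x} : Set Q) :=
        Subgroup.mem_centralizer_iff.mpr (fun h hh => by
          rw [Set.mem_singleton_iff.mp hh]; exact hq.symm)
      obtain ⟨k, hk⟩ := Subgroup.mem_zpowers_iff.mp (hg ⟨q, hqC⟩)
      refine ⟨k, Or.inl ?_⟩
      have := congrArg Subtype.val hk
      simpa using this.symm
    · have hq' : q * x * q⁻¹ = ζ₀ * x := by
        rcases hx2 q with h | h
        · exfalso
          apply hq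
          calc q * x = (q * x * q⁻¹) * q := by group
            _ = x * q := by rw [h]
        · exact h
      have hyinv : y⁻¹ * x * y = ζ₀ * x := by
        have e1 : y⁻¹ * (ζ₀ * x) * y = x := by rw [← hy]; group
        have e2 : y⁻¹ * (ζ₀ * x) * y = ζ₀ * (y⁻¹ * x * y) := by
          calc y⁻¹ * (ζ₀ * x) * y = (y⁻¹ * ζ₀) * x * y := by group
            _ = (ζ₀ * y⁻¹) * x * y := by rw [hζ₀comm y⁻¹]
            _ = ζ₀ * (y⁻¹ * x * y) := by group
        rw [e2] at e1
        calc y⁻¹ * x * y = (ζ₀ * ζ₀) * (y⁻¹ * x * y) := by rw [hζ₀sq, one_mul]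
          _ = ζ₀ * (ζ₀ * (y⁻¹ * x * y)) := by group
          _ = ζ₀ * x := by rw [e1]
      have hqy : (q * y⁻¹) * x = x * (q * y⁻¹) := by
        have e3 : (q * y⁻¹) * x * (q * y⁻¹)⁻¹ = x := by
          calc (q * y⁻¹) * x * (q * y⁻¹)⁻¹ = q * (y⁻¹ * x * y) * q⁻¹ := by group
            _ = q * (ζ₀ * x) * q⁻¹ := by rw [hyinv]
            _ = (q * ζ₀) * x * q⁻¹ := by group
            _ = (ζ₀ * q) * x * q⁻¹ := by rw [hζ₀comm q]
            _ = ζ₀ * (q * x * q⁻¹) := by group
            _ = ζ₀ * (ζ₀ * x) := by rw [hq']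
            _ = (ζ₀ * ζ₀) * x := by group
            _ = x := by rw [hζ₀sq, one_mul]
        calc (q * y⁻¹) * x = ((q * y⁻¹) * x * (q * y⁻¹)⁻¹) * (q * y⁻¹) := by group
          _ = x * (q * y⁻¹) := by rw [e3]
      have hqC : q * y⁻¹ ∈ Subgroup.centralizer ({x} : Set Q) :=
        Subgroup.mem_centralizer_iff.mpr (fun h hh => by
          rw [Set.mem_singleton_iff.mp hh]; exact hqy.symm)
      obtain ⟨k, hk⟩ := Subgroup.mem_zpowers_iff.mp (hg ⟨q * y⁻¹, hqC⟩)
      refine ⟨k, Or.inr ?_⟩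
      have h1 := congrArg Subtype.val hk
      have h2 : (g : Q) ^ k = q * y⁻¹ := by simpa using h1
      rw [h2]; group
  · calc y * (g : Q) * y⁻¹ = ((g : Q)⁻¹ * y) * y⁻¹ := by rw [hyg]
      _ = (g : Q)⁻¹ := by group
  · rw [hyy, hgn]
  · intro k hk
    have h1 := (orderOf_dvd_iff_zpow_eq_one).mpr hk
    rw [hn] at h1
    push_cast at h1
    exact (mul_dvd_mul_iff_left (by norm_num : (2 : ℤ) ≠ 0)).mp h1

end TwoGroup

end Cfsg.Agent.Lib.Helper35.SL2
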