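import Mathlib
import Cfsg.Agent.Lib.Helper57.FTStmt

/-!
# S3999 piece HALLN (call by helper57)

If `|Y| = n * m` with `n`, `m` coprime and every Sylow `p`-subgroup of `Y` is normal for the primes
`p ∣ n`, then `Y` has a normal subgroup of order `n` (the join of these Sylow subgroups).
-/

set_option autoImplicit false

universe u

namespace Cfsg.Agent.Lib.Helper35.FTHALLN

open Cfsg.Agent.Lib.Helper57.FTStmt
open scoped Pointwise

/-- order of the join of a normal subgroup and a subgroup of coprime order -/
theorem card_sup_of_coprime {Y : Type u} [Group Y] [Finite Y] (N P : Subgroup Y) [N.Normal]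
    (h : (Nat.card N).Coprime (Nat.card P)) : Nat.card ↥(N ⊔ P) = Nat.card N * Nat.card P := by
  apply Nat.le_antisymm
  · have h1 : Nat.card ↥(N ⊔ P) = Nat.card ((N : Set Y) * (P : Set Y) : Set Y) := by
      rw [← Subgroup.normal_mul N P]
      rfl
    rw [h1]
    exact Set.natCard_mul_le
  · apply Nat.le_of_dvd Nat.card_pos
    exact Nat.Coprime.mul_dvd_of_dvd_of_dvd h (Subgroup.card_dvd_of_le le_sup_left)
      (Subgroup.card_dvd_of_le le_sup_right)

theorem main : HallN.{u} := by
  intro Y _ _ n m hnm hcop hsyl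
  classical
  have hpos : 0 < n * m := by rw [← hnm]; exact Nat.card_pos
  have hn : n ≠ 0 := by rintro rfl; simp at hpos
  have hm : m ≠ 0 := by rintro rfl; simp at hpos
  have key : ∀ T : Finset ℕ, (∀ p ∈ T, p.Prime ∧ p ∣ n) →
      ∃ N : Subgroup Y, N.Normal ∧
        Nat.card N = ∏ p ∈ T, p ^ (Nat.card Y).factorization p := by
    intro T
    induction T using Finset.induction_on with
    | empty =>
      intro _
      exact ⟨⊥, inferInstance, by simp⟩
    | insert p T hpT ih =>
      intro hT
      obtain ⟨N, hN, hNc⟩ := ih (fun q hq => hT q (Finset.mem_insert_of_mem hq))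
      obtain ⟨hp, hpn⟩ := hT p (Finset.mem_insert_self p T)
      have : Fact p.Prime := ⟨hp⟩
      obtain ⟨P⟩ : Nonempty (Sylow p Y) := inferInstance
      have hPn : (P : Subgroup Y).Normal := hsyl p hpn P
      have hPc : Nat.card (P : Subgroup Y) = p ^ (Nat.card Y).factorization p :=
        Sylow.card_eq_multiplicity P
      have hco : (Nat.card N).Coprime (Nat.card (P : Subgroup Y)) := by
        rw [hNc, hPc]
        apply Nat.Coprime.prod_left
        intro q hq
        have hqp : q ≠ p := fun h => hpT (h ▸ hq)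
        exact Nat.Coprime.pow _ _
          ((Nat.coprime_primes (hT q (Finset.mem_insert_of_mem hq)).1 hp).mpr hqp)
      refine ⟨N ⊔ (P : Subgroup Y), inferInstance, ?_⟩
      rw [card_sup_of_coprime N (P : Subgroup Y) hco, Finset.prod_insert hpT, hNc, hPc, mul_comm]
  obtain ⟨N, hN, hNc⟩ := key n.primeFactors (fun p hp =>
    ⟨Nat.prime_of_mem_primeFactors hp, Nat.dvd_of_mem_primeFactors hp⟩)
  refine ⟨N, hN, ?_⟩
  rw [hNc]
  have h1 : ∏ p ∈ n.primeFactors, p ^ (Nat.card Y).factorization p
      = ∏ p ∈ n.primeFactors, p ^ n.factorization p := by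
    apply Finset.prod_congr rfl
    intro p hp
    have hpp := Nat.prime_of_mem_primeFactors hp
    have hpn := Nat.dvd_of_mem_primeFactors hp
    have hpm : ¬ p ∣ m := fun h =>
      hpp.one_lt.ne' (Nat.eq_one_of_dvd_coprimes hcop hpn h)
    rw [hnm, Nat.factorization_mul hn hm, Finsupp.add_apply,
      Nat.factorization_eq_zero_of_not_dvd hpm, add_zero]
  rw [h1, ← Nat.prod_factorization_eq_prod_primeFactors (fun p k => p ^ k)]
  exact Nat.prod_factorization_pow_eq_self hn

end Cfsg.Agent.Lib.Helper35.FTHALLN
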