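-- Fixed points of elements of M24 (helper35), on top of helper7's M24 library: seven points
-- in general position can be moved to the standard base, elements of order 5, 7, 11, 23 fix
-- exactly 4, 3, 2, 1 points, involutions fixing five points fix an octad and nothing outside,
-- no involution has exactly four fixed points, and the octad through five points is
-- characterised by the involutions fixing them.
import Cfsg.Agent.Lib.Helper7.M24Octad2
import Cfsg.Agent.Lib.Helper7.GolayCount
import Cfsg.Agent.Lib.Helper35.PermAut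

set_option autoImplicit false

namespace Cfsg.Agent.Lib.Helper35.M24Fix

open Cfsg Cfsg.Agent.Lib.Helper7.GolayBase Cfsg.Agent.Lib.Helper7.GolayCode
  Cfsg.Agent.Lib.Helper7.M24Mem Cfsg.Agent.Lib.Helper7.GolayRigid
  Cfsg.Agent.Lib.Helper7.GolayPerm Cfsg.Agent.Lib.Helper7.ChainGen
  Cfsg.Agent.Lib.Helper7.M24Data Cfsg.Agent.Lib.Helper7.M24Core
  Cfsg.Agent.Lib.Helper7.M24Main Cfsg.Agent.Lib.Helper7.M24Octad
  Cfsg.Agent.Lib.Helper7.M24Octad2 Cfsg.Agent.Lib.Helper35.PermAut
open scoped Pointwise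

/-- An element of `M24` mapping five points of an octad into the octad preserves the octad. -/
theorem apply_mem_octad {t : Equiv.Perm GolayPt} (ht : t ∈ M24) {o : Finset GolayPt}
    (ho : o ∈ octads) {s : Finset GolayPt} (hs : 5 ≤ s.card) (hso : s ⊆ o)
    (hts : ∀ z ∈ s, t z ∈ o) : ∀ z, z ∈ o ↔ t z ∈ o := by
  have h1 : t • o = o := by
    apply octad_unique (smul_mem_octads ht ho) ho
    have hsub : t • s ⊆ t • o ∩ o := by
      intro p hp
      obtain ⟨z, hz, rfl⟩ := Finset.mem_smul_finset.mp hp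
      exact Finset.mem_inter.mpr ⟨Finset.smul_mem_smul_finset (hso hz), hts z hz⟩
    have := Finset.card_le_card hsub
    rw [Finset.card_smul_finset] at this
    omega
  intro z
  constructor
  · intro hz
    have : t • z ∈ t • o := Finset.smul_mem_smul_finset hz
    rw [h1] at this
    exact this
  · intro hz
    rw [← h1] at hz
    exact (Finset.smul_mem_smul_finset_iff t).mp hz

/-- `g` maps points of `xs` onto the five base points. -/
def MapsToBase (g : Equiv.Perm GolayPt) (xs : Finset GolayPt) : Prop :=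
  ∀ f ∈ [3, 2, 1, 0, 23], ∃ z ∈ xs, g z = pt f

theorem exists_mapsToBase (s : Finset GolayPt) (hs : s.card = 5) :
    ∃ g ∈ M24, MapsToBase g s := by
  obtain ⟨g, hg, hmap⟩ := exists_map_base5 s.toList (Finset.nodup_toList s)
    (by rw [Finset.length_toList, hs])
  refine ⟨g, hg, ?_⟩
  have hlen : (s.toList).length = 5 := by rw [Finset.length_toList, hs]
  rw [hlen] at hmap
  intro f hf
  have : pt f ∈ (base5.take 5).map pt := by
    apply List.mem_map.mpr
    refine ⟨f, ?_, rfl⟩
    revert f; decide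
  rw [← hmap] at this
  obtain ⟨z, hz, hgz⟩ := List.mem_map.mp this
  exact ⟨z, Finset.mem_toList.mp hz, hgz⟩

theorem MapsToBase.mul_left {g : Equiv.Perm GolayPt} {xs : Finset GolayPt} (h : MapsToBase g xs)
    {k : Equiv.Perm GolayPt} (hk : k ∈ FixL [3, 2, 1, 0, 23]) : MapsToBase (k⁻¹ * g) xs := by
  intro f hf
  obtain ⟨z, hz, hgz⟩ := h f hf
  refine ⟨z, hz, ?_⟩
  show k⁻¹ (g z) = pt f
  rw [hgz, Equiv.Perm.inv_eq_iff_eq, hk f hf]

/-- If `g` maps `s` (five points of the octad `o`) onto the base points, then it maps `o` onto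
the base octad. -/
theorem MapsToBase.mem_O {g : Equiv.Perm GolayPt} (hg : g ∈ M24) {s : Finset GolayPt}
    (h : MapsToBase g s) {o : Finset GolayPt} (ho : o ∈ octads) (hso : s ⊆ o) :
    ∀ z, z ∈ o ↔ g z ∈ mk O := by
  have h1 : g • o = mk O := by
    apply octad_unique (smul_mem_octads hg ho) mk_O_mem
    have hsub : mk 8388623 ⊆ g • o ∩ mk O := by
      intro p hp
      rw [mem_mk] at hp
      have hp' : idx p ∈ [3, 2, 1, 0, 23] := by
        have key : ∀ i, i < 24 → (8388623 : Nat).testBit i = true → i ∈ [3, 2, 1, 0, 23] := by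
          decide +kernel
        exact key _ (idx_lt p) hp
      obtain ⟨z, hz, hgz⟩ := h _ hp'
      rw [pt_idx] at hgz
      rw [Finset.mem_inter]
      refine ⟨?_, ?_⟩
      · rw [← hgz]
        exact Finset.smul_mem_smul_finset (hso hz)
      · rw [mem_mk]
        have key : ∀ i, i ∈ [3, 2, 1, 0, 23] → O.testBit i = true := by decide +kernel
        exact key _ hp'
    have := Finset.card_le_card hsub
    rw [card_mk] at this
    have h5 : popc 8388623 = 5 := by decide +kernel
    omega
  intro z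
  rw [← h1]
  exact (Finset.smul_mem_smul_finset_iff g).symm

/-- Seven points in general position (five in an octad, a sixth in the octad, a seventh
outside) can be moved to the standard ones. -/
theorem exists_map_base7 (s : Finset GolayPt) (hs : s.card = 5) {o : Finset GolayPt}
    (ho : o ∈ octads) (hso : s ⊆ o) {y : GolayPt} (hyo : y ∈ o) (hys : y ∉ s) {x : GolayPt}
    (hxo : x ∉ o) : ∃ g ∈ M24, MapsToBase g s ∧ g y = pt 5 ∧ g x = pt 4 := by
  obtain ⟨g₁, hg₁, hm₁⟩ := exists_mapsToBase s hs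
  -- move y to pt 5
  have hy₁ : idx (g₁ y) ∈ T6 := by
    have h1 : g₁ y ∈ mk O := (hm₁.mem_O hg₁ ho hso y).mp hyo
    rw [mem_mk] at h1
    have h2 : idx (g₁ y) ∉ [3, 2, 1, 0, 23] := by
      intro hmem
      obtain ⟨z, hz, hgz⟩ := hm₁ _ hmem
      rw [pt_idx] at hgz
      exact hys (g₁.injective hgz ▸ hz)
    have key : ∀ i, i < 24 → O.testBit i = true → i ∉ [3, 2, 1, 0, 23] → i ∈ T6 := by
      decide +kernel
    exact key _ (idx_lt _) h1 h2
  obtain ⟨k, hk, hky⟩ := wit6 _ hy₁
  rw [pt_idx] at hky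
  have hg₂ : k⁻¹ * g₁ ∈ M24 := M24.mul_mem (M24.inv_mem (H_le_M24 hk.1)) hg₁
  have hm₂ : MapsToBase (k⁻¹ * g₁) s := hm₁.mul_left hk.2
  have hy₂ : (k⁻¹ * g₁) y = pt 5 := by
    show k⁻¹ (g₁ y) = pt 5
    rw [Equiv.Perm.inv_eq_iff_eq, hky]
  -- move x to pt 4
  have hx₂ : idx ((k⁻¹ * g₁) x) ∈ T7 := by
    have h1 : (k⁻¹ * g₁) x ∉ mk O := fun h => hxo ((hm₂.mem_O hg₂ ho hso x).mpr h)
    rw [mem_mk] at h1
    have key : ∀ i, i < 24 → ¬ (O.testBit i = true) → i ∈ T7 := by decide +kernel
    exact key _ (idx_lt _) h1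
  obtain ⟨k', hk', hkx⟩ := wit7 _ hx₂
  rw [pt_idx] at hkx
  have hk'5 : k' ∈ FixL [3, 2, 1, 0, 23] := fun f hf => hk'.2 f (List.mem_cons_of_mem _ hf)
  refine ⟨k'⁻¹ * (k⁻¹ * g₁), M24.mul_mem (M24.inv_mem (H_le_M24 hk'.1)) hg₂,
    hm₂.mul_left hk'5, ?_, ?_⟩
  · show k'⁻¹ ((k⁻¹ * g₁) y) = pt 5
    rw [hy₂, Equiv.Perm.inv_eq_iff_eq, hk'.2 5 (by decide)]
  · show k'⁻¹ ((k⁻¹ * g₁) x) = pt 4
    rw [Equiv.Perm.inv_eq_iff_eq, hkx]

/-- An element of `M24` fixing six points of an octad and a point outside it is trivial. -/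
theorem eq_one_of_fix_seven {t : Equiv.Perm GolayPt} (ht : t ∈ M24) (s : Finset GolayPt)
    (hs : s.card = 5) {o : Finset GolayPt} (ho : o ∈ octads) (hso : s ⊆ o)
    (hts : ∀ z ∈ s, t z = z) {y : GolayPt} (hyo : y ∈ o) (hys : y ∉ s) (hty : t y = y)
    {x : GolayPt} (hxo : x ∉ o) (htx : t x = x) : t = 1 := by
  obtain ⟨g, hg, hm, hgy, hgx⟩ := exists_map_base7 s hs ho hso hyo hys hxo
  have hmem : g * t * g⁻¹ ∈ M24 ⊓ FixL [4, 5, 3, 2, 1, 0, 23] := by
    refine ⟨M24.mul_mem (M24.mul_mem hg ht) (M24.inv_mem hg), ?_⟩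
    have hfix : ∀ z, t z = z → (g * t * g⁻¹) (g z) = g z := by
      intro z hz
      show g (t (g⁻¹ (g z))) = g z
      rw [Equiv.Perm.inv_eq_iff_eq.mpr rfl, hz]
    intro f hf
    simp only [List.mem_cons, List.not_mem_nil, or_false] at hf
    rcases hf with rfl | rfl | hf
    · rw [← hgx]; exact hfix x htx
    · rw [← hgy]; exact hfix y hty
    · obtain ⟨z, hz, hgz⟩ := hm f (by simp only [List.mem_cons, List.not_mem_nil, or_false]; exact hf)
      rw [← hgz]; exact hfix z (hts z hz)
  rw [rigid7, Subgroup.mem_bot] at hmem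
  have : t = g⁻¹ * (g * t * g⁻¹) * g := by group
  rw [this, hmem]
  group

/-- The fixed points of a permutation of the 24 points. -/
def fixedPts (t : Equiv.Perm GolayPt) : Finset GolayPt := Finset.univ.filter (fun z => t z = z)

theorem mem_fixedPts {t : Equiv.Perm GolayPt} {z : GolayPt} : z ∈ fixedPts t ↔ t z = z := by
  simp [fixedPts]

theorem card_golayPt : Fintype.card GolayPt = 24 := by decide

/-- An element of `M24` fixing five points has order dividing 48. -/
theorem pow_48_of_fix_five {t : Equiv.Perm GolayPt} (ht : t ∈ M24) (s : Finset GolayPt)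
    (hs : s.card = 5) (hts : ∀ z ∈ s, t z = z) : t ^ 48 = 1 := by
  obtain ⟨g, hg, hm⟩ := exists_mapsToBase s hs
  have hmem : g * t * g⁻¹ ∈ M24 ⊓ FixL [3, 2, 1, 0, 23] := by
    refine ⟨M24.mul_mem (M24.mul_mem hg ht) (M24.inv_mem hg), ?_⟩
    intro f hf
    obtain ⟨z, hz, hgz⟩ := hm f hf
    rw [← hgz]
    show g (t (g⁻¹ (g z))) = g z
    rw [Equiv.Perm.inv_eq_iff_eq.mpr rfl, hts z hz]
  have h1 : (⟨g * t * g⁻¹, hmem⟩ : ↥(M24 ⊓ FixL [3, 2, 1, 0, 23])) ^ 48 = 1 := by
    rw [← card5]
    exact pow_card_eq_one'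
  have h2 : (g * t * g⁻¹) ^ 48 = 1 := congrArg Subtype.val h1
  rw [conj_pow] at h2
  have : t ^ 48 = g⁻¹ * (g * t ^ 48 * g⁻¹) * g := by group
  rw [this, h2]
  group

/-- A nontrivial element of `M24` of prime order `p ≥ 5` fixes at most four points. -/
theorem card_fixedPts_le_four {t : Equiv.Perm GolayPt} (ht : t ∈ M24) {p : ℕ} (hp : p.Prime)
    (hp2 : p ≠ 2) (hp3 : p ≠ 3) (htp : orderOf t = p) : (fixedPts t).card ≤ 4 := by
  by_contra hcon
  obtain ⟨s, hsub, hs⟩ := Finset.exists_subset_card_eq (s := fixedPts t) (n := 5) (by omega)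
  have h48 := pow_48_of_fix_five ht s hs (fun z hz => mem_fixedPts.mp (hsub hz))
  have hdvd : p ∣ 48 := htp ▸ orderOf_dvd_of_pow_eq_one h48
  have h48' : (48 : ℕ) = 2 ^ 4 * 3 := by norm_num
  rw [h48'] at hdvd
  rcases (Nat.Prime.dvd_mul hp).mp hdvd with h | h
  · exact hp2 ((Nat.prime_dvd_prime_iff_eq hp Nat.prime_two).mp (hp.dvd_of_dvd_pow h))
  · exact hp3 ((Nat.prime_dvd_prime_iff_eq hp Nat.prime_three).mp h)

/-- Elements of order `p ∈ {5, 7, 11, 23}` of `M24` fix exactly `24 % p` points. -/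
theorem card_fixedPts_eq {t : Equiv.Perm GolayPt} (ht : t ∈ M24) {p : ℕ} (hp : p.Prime)
    (hp5 : 5 ≤ p) (htp : orderOf t = p) : (fixedPts t).card % p = 24 % p ∧ (fixedPts t).card ≤ 4 := by
  have : Fact p.Prime := ⟨hp⟩
  have h1 := card_fixed_modEq_univ t (p := p) (n := 1) (by rw [pow_one, ← htp, pow_orderOf_eq_one])
  rw [card_golayPt] at h1
  exact ⟨h1.symm, card_fixedPts_le_four ht hp (by omega) (by omega) htp⟩

theorem card_fixedPts_5 {t : Equiv.Perm GolayPt} (ht : t ∈ M24) (htp : orderOf t = 5) :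
    (fixedPts t).card = 4 := by
  have := card_fixedPts_eq ht Nat.prime_five (by norm_num) htp
  omega

theorem card_fixedPts_7 {t : Equiv.Perm GolayPt} (ht : t ∈ M24) (htp : orderOf t = 7) :
    (fixedPts t).card = 3 := by
  have := card_fixedPts_eq ht (by norm_num) (by norm_num) htp
  omega

theorem card_fixedPts_11 {t : Equiv.Perm GolayPt} (ht : t ∈ M24) (htp : orderOf t = 11) :
    (fixedPts t).card = 2 := by
  have := card_fixedPts_eq ht (by norm_num) (by norm_num) htp
  omega

theorem card_fixedPts_23 {t : Equiv.Perm GolayPt} (ht : t ∈ M24) (htp : orderOf t = 23) :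
    (fixedPts t).card = 1 := by
  have := card_fixedPts_eq ht (by norm_num) (by norm_num) htp
  omega

/-- An involution preserving a finset of odd cardinality has a fixed point in it. -/
theorem exists_fixed_of_odd {t : Equiv.Perm GolayPt} (ht2 : t * t = 1) (Y : Finset GolayPt)
    (hY : ∀ y ∈ Y, t y ∈ Y) (hodd : Y.card % 2 = 1) : ∃ y ∈ Y, t y = y := by
  have : Fact (Nat.Prime 2) := ⟨Nat.prime_two⟩
  have h1 := card_fixed_modEq t (p := 2) (n := 1) (by rw [pow_one, pow_two, ht2]) Y hY
  have h2 : (Y.filter (fun y => t y = y)).card % 2 = 1 := by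
    have : Y.card % 2 = (Y.filter (fun y => t y = y)).card % 2 := h1
    omega
  have h3 : (Y.filter (fun y => t y = y)).Nonempty := by
    rw [← Finset.card_pos]
    omega
  obtain ⟨y, hy⟩ := h3
  rw [Finset.mem_filter] at hy
  exact ⟨y, hy.1, hy.2⟩

theorem involution_apply {t : Equiv.Perm GolayPt} (ht2 : t * t = 1) (z : GolayPt) :
    t (t z) = z := by
  have := congrArg (fun f : Equiv.Perm GolayPt => f z) ht2
  exact this

/-- An involution of `M24` fixing five points and a point outside their octad is trivial. -/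
theorem inv_eq_one_of_fix {t : Equiv.Perm GolayPt} (ht : t ∈ M24) (ht2 : t * t = 1)
    (s : Finset GolayPt) (hs : s.card = 5) {o : Finset GolayPt} (ho : o ∈ octads) (hso : s ⊆ o)
    (hts : ∀ z ∈ s, t z = z) {x : GolayPt} (hxo : x ∉ o) (htx : t x = x) : t = 1 := by
  have hinv := apply_mem_octad ht ho (by omega) hso (fun z hz => by rw [hts z hz]; exact hso hz)
  have hY : ∀ y ∈ o \ s, t y ∈ o \ s := by
    intro y hy
    rw [Finset.mem_sdiff] at hy ⊢
    refine ⟨(hinv y).mp hy.1, fun h => hy.2 ?_⟩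
    have := hts _ h
    rw [involution_apply ht2] at this
    rw [this]; exact h
  have hcard : (o \ s).card % 2 = 1 := by
    rw [Finset.card_sdiff_of_subset hso, hs, ho.2]
  obtain ⟨y, hy, hty⟩ := exists_fixed_of_odd ht2 _ hY hcard
  rw [Finset.mem_sdiff] at hy
  exact eq_one_of_fix_seven ht s hs ho hso hts hy.1 hy.2 hty hxo htx

/-- Two octads meet in an even number of points. -/
theorem even_card_inter_octads {o o' : Finset GolayPt} (ho : o ∈ octads) (ho' : o' ∈ octads) :
    (o ∩ o').card % 2 = 0 := by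
  obtain ⟨c, hc, rfl⟩ := (mem_octads_iff o).mp ho
  obtain ⟨c', hc', rfl⟩ := (mem_octads_iff o').mp ho'
  rw [← mk_and, card_mk]
  have := Cfsg.Agent.Lib.Helper7.GolayCount.even_popc_and (mem_octadList.mp hc).1
    (mem_octadList.mp hc').1
  omega

theorem exists_notMem_of_card_lt (F : Finset GolayPt) (h : F.card < 24) : ∃ e, e ∉ F := by
  by_contra hcon
  push Not at hcon
  have : F = Finset.univ := Finset.eq_univ_iff_forall.mpr hcon
  rw [this, Finset.card_univ, card_golayPt] at h
  omega

/-- No involution of `M24` has exactly four fixed points. -/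
theorem no_inv_four {t : Equiv.Perm GolayPt} (ht : t ∈ M24) (ht2 : t * t = 1)
    (h4 : (fixedPts t).card = 4) : False := by
  have htt := involution_apply ht2
  obtain ⟨A, hAF, hA⟩ := Finset.exists_subset_card_eq (s := fixedPts t) (n := 3) (by omega)
  have hd : (fixedPts t \ A).card = 1 := by rw [Finset.card_sdiff_of_subset hAF, h4, hA]
  obtain ⟨d, hd⟩ := Finset.card_eq_one.mp hd
  have hFA : ∀ z, t z = z → z ∉ A → z = d := by
    intro z hz hzA
    have : z ∈ fixedPts t \ A := Finset.mem_sdiff.mpr ⟨mem_fixedPts.mpr hz, hzA⟩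
    rw [hd] at this
    exact Finset.mem_singleton.mp this
  have hAfix : ∀ z ∈ A, t z = z := fun z hz => mem_fixedPts.mp (hAF hz)
  have hdF : t d = d := by
    have : d ∈ fixedPts t \ A := by rw [hd]; exact Finset.mem_singleton_self d
    exact mem_fixedPts.mp (Finset.mem_sdiff.mp this).1
  have hdA : d ∉ A := by
    have : d ∈ fixedPts t \ A := by rw [hd]; exact Finset.mem_singleton_self d
    exact (Finset.mem_sdiff.mp this).2
  obtain ⟨e, he⟩ := exists_notMem_of_card_lt (fixedPts t) (by omega)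
  have hte : t e ≠ e := fun h => he (mem_fixedPts.mpr h)
  have hteF : t (t e) ≠ t e := by rw [htt]; exact fun h => hte h.symm
  have heA : e ∉ A := fun h => hte (hAfix e h)
  have hteA : t e ∉ A := fun h => hteF (hAfix _ h)
  -- first octad
  set T' : Finset GolayPt := insert e (insert (t e) A) with hT'
  have hT'card : T'.card = 5 := by
    rw [hT', Finset.card_insert_of_notMem, Finset.card_insert_of_notMem hteA, hA]
    rw [Finset.mem_insert]
    rintro (h | h)
    · exact hte h.symm
    · exact heA h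
  have hT'inv : ∀ z ∈ T', t z ∈ T' := by
    intro z hz
    rw [hT', Finset.mem_insert, Finset.mem_insert] at hz
    rcases hz with rfl | rfl | hz
    · rw [hT']; simp
    · rw [htt, hT']; simp
    · rw [hAfix z hz, hT']; simp [hz]
  obtain ⟨O', hO', hT'O'⟩ := exists_octad_of_five T' hT'card
  have hO'inv := apply_mem_octad ht hO' (by omega) hT'O' (fun z hz => hT'O' (hT'inv z hz))
  have hdO' : d ∈ O' := by
    have hY : ∀ y ∈ O' \ T', t y ∈ O' \ T' := by
      intro y hy
      rw [Finset.mem_sdiff] at hy ⊢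
      refine ⟨(hO'inv y).mp hy.1, fun h => hy.2 ?_⟩
      have := hT'inv _ h
      rwa [htt] at this
    have hcard : (O' \ T').card % 2 = 1 := by
      rw [Finset.card_sdiff_of_subset hT'O', hT'card, hO'.2]
    obtain ⟨y, hy, hty⟩ := exists_fixed_of_odd ht2 _ hY hcard
    rw [Finset.mem_sdiff] at hy
    have hyA : y ∉ A := fun h => hy.2 (by rw [hT']; simp [h])
    rw [← hFA y hty hyA]
    exact hy.1
  have heO' : e ∈ O' := hT'O' (by rw [hT']; simp)
  have hAO' : A ⊆ O' := fun z hz => hT'O' (by rw [hT']; simp [hz])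
  -- second octad
  obtain ⟨e', he'⟩ := exists_notMem_of_card_lt O' (by rw [hO'.2]; norm_num)
  have he'A : e' ∉ A := fun h => he' (hAO' h)
  have hee' : e ≠ e' := fun h => he' (h ▸ heO')
  set T'' : Finset GolayPt := insert e (insert e' A) with hT''
  have hT''card : T''.card = 5 := by
    rw [hT'', Finset.card_insert_of_notMem, Finset.card_insert_of_notMem he'A, hA]
    rw [Finset.mem_insert]
    rintro (h | h)
    · exact hee' h
    · exact heA h
  obtain ⟨O, hO, hT''O⟩ := exists_octad_of_five T'' hT''card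
  have heO : e ∈ O := hT''O (by rw [hT'']; simp)
  have he'O : e' ∈ O := hT''O (by rw [hT'']; simp)
  have hAO : A ⊆ O := fun z hz => hT''O (by rw [hT'']; simp [hz])
  have hdO : d ∉ O := by
    intro hdO
    have hsub : insert d (insert e A) ⊆ O ∩ O' := by
      intro z hz
      rw [Finset.mem_insert, Finset.mem_insert] at hz
      rw [Finset.mem_inter]
      rcases hz with rfl | rfl | hz
      · exact ⟨hdO, hdO'⟩
      · exact ⟨heO, heO'⟩
      · exact ⟨hAO hz, hAO' hz⟩
    have hc : (insert d (insert e A)).card = 5 := by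
      rw [Finset.card_insert_of_notMem, Finset.card_insert_of_notMem heA, hA]
      rw [Finset.mem_insert]
      rintro (h | h)
      · exact he (mem_fixedPts.mpr (h ▸ hdF))
      · exact hdA h
    have := Finset.card_le_card hsub
    rw [hc] at this
    have hOO' := octad_unique hO hO' this
    exact he' (hOO' ▸ he'O)
  -- the intersection with the image
  have htO : t • O ∈ octads := smul_mem_octads ht hO
  set Y : Finset GolayPt := O ∩ t • O with hYdef
  have hYeven : Y.card % 2 = 0 := even_card_inter_octads hO htO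
  have hmem_tO : ∀ z, z ∈ t • O ↔ t z ∈ O := by
    intro z
    rw [← Finset.inv_smul_mem_iff]
    have : t⁻¹ • z = t z := by
      show t⁻¹ z = t z
      rw [Equiv.Perm.inv_eq_iff_eq, htt]
    rw [this]
  have hYinv : ∀ y ∈ Y, t y ∈ Y := by
    intro y hy
    rw [hYdef, Finset.mem_inter, hmem_tO] at hy ⊢
    exact ⟨hy.2, by rw [htt]; exact hy.1⟩
  have hfilter : Y.filter (fun y => t y = y) = A := by
    ext y
    rw [Finset.mem_filter, hYdef, Finset.mem_inter, hmem_tO]
    constructor
    · rintro ⟨⟨hyO, -⟩, hty⟩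
      by_contra hyA
      exact hdO (hFA y hty hyA ▸ hyO)
    · intro hyA
      have hty := hAfix y hyA
      exact ⟨⟨hAO hyA, by rw [hty]; exact hAO hyA⟩, hty⟩
  have : Fact (Nat.Prime 2) := ⟨Nat.prime_two⟩
  have h1 := card_fixed_modEq t (p := 2) (n := 1) (by rw [pow_one, pow_two, ht2]) Y hYinv
  rw [hfilter, hA] at h1
  have : Y.card % 2 = 3 % 2 := h1
  omega

/-- No involution of `M24` commutes with an element of order 5 and fixes its fixed points. -/
theorem no_order_ten {g t : Equiv.Perm GolayPt} (hg : g ∈ M24) (ht : t ∈ M24)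
    (hg5 : orderOf g = 5) (ht1 : t ≠ 1) (ht2 : t * t = 1) (hcomm : g * t = t * g)
    (hfix : ∀ x, g x = x → t x = x) : False := by
  have hc : ∀ z, g (t z) = t (g z) := fun z =>
    congrArg (fun f : Equiv.Perm GolayPt => f z) hcomm
  have hFg := card_fixedPts_5 hg hg5
  have hsub : fixedPts g ⊆ fixedPts t := fun z hz => mem_fixedPts.mpr (hfix z (mem_fixedPts.mp hz))
  set Y := fixedPts t \ fixedPts g with hY
  have hYinv : ∀ y ∈ Y, g y ∈ Y := by
    intro y hy
    rw [hY, Finset.mem_sdiff, mem_fixedPts, mem_fixedPts] at hy ⊢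
    refine ⟨by rw [← hc, hy.1], fun h => hy.2 (g.injective h)⟩
  have : Fact (Nat.Prime 5) := ⟨Nat.prime_five⟩
  have h1 := card_fixed_modEq g (p := 5) (n := 1) (by rw [pow_one, ← hg5, pow_orderOf_eq_one])
    Y hYinv
  have hempty : Y.filter (fun y => g y = y) = ∅ := by
    rw [Finset.filter_eq_empty_iff]
    intro y hy
    rw [hY, Finset.mem_sdiff, mem_fixedPts, mem_fixedPts] at hy
    exact hy.2
  rw [hempty, Finset.card_empty] at h1
  have hYcard : Y.card = (fixedPts t).card - 4 := by
    rw [hY, Finset.card_sdiff_of_subset hsub, hFg]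
  have hle : 4 ≤ (fixedPts t).card := hFg ▸ Finset.card_le_card hsub
  have : Fact (Nat.Prime 2) := ⟨Nat.prime_two⟩
  have h2 := card_fixed_modEq_univ t (p := 2) (n := 1) (by rw [pow_one, pow_two, ht2])
  rw [card_golayPt] at h2
  have h2' : 24 % 2 = (fixedPts t).card % 2 := h2
  have h1' : Y.card % 5 = 0 % 5 := h1
  have hle24 : (fixedPts t).card ≤ 24 := by
    have := Finset.card_le_univ (fixedPts t)
    rwa [card_golayPt] at this
  have hcases : (fixedPts t).card = 4 ∨ (fixedPts t).card = 14 ∨ (fixedPts t).card = 24 := by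
    omega
  rcases hcases with h | h | h
  · exact no_inv_four ht ht2 h
  · obtain ⟨s, hs, hscard⟩ := Finset.exists_subset_card_eq (s := fixedPts t) (n := 5) (by omega)
    obtain ⟨o, ho, hso⟩ := exists_octad_of_five s hscard
    have hex : ∃ x ∈ fixedPts t, x ∉ o := by
      by_contra hcon
      push Not at hcon
      have := Finset.card_le_card (show fixedPts t ⊆ o from hcon)
      rw [h, ho.2] at this
      omega
    obtain ⟨x, hx, hxo⟩ := hex
    exact ht1 (inv_eq_one_of_fix ht ht2 s hscard ho hso (fun z hz => mem_fixedPts.mp (hs hz)) hxo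
      (mem_fixedPts.mp hx))
  · apply ht1
    have huniv : fixedPts t = Finset.univ := by
      apply Finset.eq_univ_of_card
      rw [h, card_golayPt]
    apply Equiv.ext
    intro z
    have : z ∈ fixedPts t := by rw [huniv]; exact Finset.mem_univ z
    exact mem_fixedPts.mp this

/-- Characterisation of the octad through five points by the involutions of `M24`. -/
theorem mem_octad_iff_exists_inv (s : Finset GolayPt) (hs : s.card = 5) {o : Finset GolayPt}
    (ho : o ∈ octads) (hso : s ⊆ o) (x : GolayPt) :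
    x ∈ o ↔ ∃ t ∈ M24, t ≠ 1 ∧ t * t = 1 ∧ (∀ z ∈ s, t z = z) ∧ t x = x := by
  constructor
  · intro hx
    obtain ⟨hcard, hsq⟩ := octad_fix ho
    have hne : (M24 ⊓ fixingSubgroup (Equiv.Perm GolayPt) (o : Set GolayPt)) ≠ ⊥ := by
      intro h
      rw [h, Subgroup.card_bot] at hcard
      omega
    obtain ⟨t, ht1⟩ := (Subgroup.ne_bot_iff_exists_ne_one).mp hne
    have ht1' : (t : Equiv.Perm GolayPt) ≠ 1 := fun h => ht1 (Subtype.ext h)
    have hfix := (mem_fixingSubgroup_iff (Equiv.Perm GolayPt)).mp t.2.2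
    exact ⟨t, t.2.1, ht1', hsq t t.2, fun z hz => hfix z (hso hz), hfix x hx⟩
  · rintro ⟨t, ht, ht1, ht2, hts, htx⟩
    by_contra hxo
    exact ht1 (inv_eq_one_of_fix ht ht2 s hs ho hso hts hxo htx)

end Cfsg.Agent.Lib.Helper35.M24Fix
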