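-- Automorphisms of M24 are inner (helper35): a subgroup of index 24 of M24 fixes a point
-- (orbit counting with elements of order 23, 11, 7, 5 and a group of order 40), M24 is
-- self-normalising in the symmetric group on the 24 points (octads are characterised by
-- involutions), hence every automorphism is conjugation by an element of M24.
import Cfsg.Agent.Lib.Helper35.M24Fix

set_option autoImplicit false

namespace Cfsg.Agent.Lib.Helper35.M24Aut

open Cfsg Cfsg.Agent.Lib.Helper7.GolayBase Cfsg.Agent.Lib.Helper7.GolayCode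
  Cfsg.Agent.Lib.Helper7.M24Mem Cfsg.Agent.Lib.Helper7.GolayRigid
  Cfsg.Agent.Lib.Helper7.M24Main Cfsg.Agent.Lib.Helper7.M24Octad
  Cfsg.Agent.Lib.Helper7.M24Octad2 Cfsg.Agent.Lib.Helper35.PermAut
  Cfsg.Agent.Lib.Helper35.M24Fix
open scoped Pointwise

/-- Cauchy's theorem inside a subgroup of the symmetric group. -/
theorem exists_order (K : Subgroup (Equiv.Perm GolayPt)) (p : ℕ) [Fact p.Prime]
    (h : p ∣ Nat.card K) : ∃ g ∈ K, orderOf g = p := by
  obtain ⟨x, hx⟩ := exists_prime_orderOf_dvd_card' (G := K) p h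
  exact ⟨x, x.2, by rw [← hx, Subgroup.orderOf_coe]⟩

/-- If `S` consists of fixed points of `g` and is as large as the fixed point set, every fixed
point lies in `S`. -/
theorem fixed_subset (g : Equiv.Perm GolayPt) (S : Finset GolayPt) (hS : ∀ z ∈ S, g z = z)
    (hcard : (fixedPts g).card ≤ S.card) : ∀ y, g y = y → y ∈ S := by
  have hsub : S ⊆ fixedPts g := fun z hz => mem_fixedPts.mpr (hS z hz)
  have := Finset.eq_of_subset_of_card_le hsub hcard
  intro y hy
  rw [this]
  exact mem_fixedPts.mpr hy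

theorem fixed_exists (g : Equiv.Perm GolayPt) (S : Finset GolayPt)
    (hcard : S.card < (fixedPts g).card) : ∃ c, c ∉ S ∧ g c = c := by
  obtain ⟨c, hc, hcS⟩ := Finset.exists_mem_notMem_of_card_lt_card hcard
  exact ⟨c, hcS, mem_fixedPts.mp hc⟩

theorem notMem_orb_of_fixed {K : Subgroup (Equiv.Perm GolayPt)} {a x : GolayPt}
    (hK : ∀ k ∈ K, k a = a) (hax : a ≠ x) : a ∉ orb K x := by
  intro h
  obtain ⟨k, hk, hkx⟩ := mem_orb.mp h
  exact hax (k.injective (by rw [hK k hk, hkx]))

theorem orb_card_le (K : Subgroup (Equiv.Perm GolayPt)) (x : GolayPt) : (orb K x).card ≤ 24 := by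
  have := Finset.card_le_univ (orb K x)
  rwa [card_golayPt] at this

theorem orb_card_pos (K : Subgroup (Equiv.Perm GolayPt)) (x : GolayPt) : 0 < (orb K x).card :=
  Finset.card_pos.mpr ⟨x, self_mem_orb K x⟩

/-- The orbit length modulo `p` when an element of order `p` of `K` has no fixed point in the
orbit. -/
theorem orb_card_mod_zero {K : Subgroup (Equiv.Perm GolayPt)} {x : GolayPt}
    {g : Equiv.Perm GolayPt} (hg : g ∈ K) {p : ℕ} [Fact p.Prime] (hgp : orderOf g = p)
    (hfix : ∀ y ∈ orb K x, g y ≠ y) : (orb K x).card % p = 0 := by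
  have h1 := card_fixed_modEq g (p := p) (n := 1) (by rw [pow_one, ← hgp, pow_orderOf_eq_one])
    (orb K x) (fun y hy => apply_mem_orb hy hg)
  have hempty : (orb K x).filter (fun y => g y = y) = ∅ := by
    rw [Finset.filter_eq_empty_iff]
    exact hfix
  rw [hempty, Finset.card_empty] at h1
  exact h1

/-- The orbit length modulo `p` when an element of order `p` of `K` fixes exactly the base
point of the orbit. -/
theorem orb_card_mod_one {K : Subgroup (Equiv.Perm GolayPt)} {x : GolayPt}
    {g : Equiv.Perm GolayPt} (hg : g ∈ K) {p : ℕ} [Fact p.Prime] (hgp : orderOf g = p)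
    (hx : g x = x) (hfix : ∀ y ∈ orb K x, g y = y → y = x) : (orb K x).card % p = 1 % p := by
  have h1 := card_fixed_modEq g (p := p) (n := 1) (by rw [pow_one, ← hgp, pow_orderOf_eq_one])
    (orb K x) (fun y hy => apply_mem_orb hy hg)
  have hsing : (orb K x).filter (fun y => g y = y) = {x} := by
    ext y
    rw [Finset.mem_filter, Finset.mem_singleton]
    constructor
    · rintro ⟨hy, hgy⟩
      exact hfix y hy hgy
    · rintro rfl
      exact ⟨self_mem_orb K y, hx⟩
  rw [hsing, Finset.card_singleton] at h1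
  exact h1

/-- Every subgroup of index 24 of `M24` fixes a point. -/
theorem index24_fix (H : Subgroup (Equiv.Perm GolayPt)) (hH : H ≤ M24)
    (hcard : Nat.card H = 10200960) : ∃ a, ∀ h ∈ H, h a = a := by
  have : Fact (Nat.Prime 23) := ⟨by norm_num⟩
  have : Fact (Nat.Prime 11) := ⟨by norm_num⟩
  have : Fact (Nat.Prime 7) := ⟨by norm_num⟩
  have : Fact (Nat.Prime 5) := ⟨by norm_num⟩
  -- Step 1: an element of order 23 and the orbit of its fixed point
  obtain ⟨g23, hg23H, hg23⟩ := exists_order H 23 (by rw [hcard]; norm_num)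
  have hF23 := card_fixedPts_23 (hH hg23H) hg23
  obtain ⟨a, ha⟩ := Finset.card_eq_one.mp hF23
  have hg23a : g23 a = a := mem_fixedPts.mp (by rw [ha]; exact Finset.mem_singleton_self a)
  have hfix23 : ∀ y, g23 y = y → y = a := by
    intro y hy
    have : y ∈ fixedPts g23 := mem_fixedPts.mpr hy
    rw [ha] at this
    exact Finset.mem_singleton.mp this
  have hmod1 := orb_card_mod_one (K := H) (x := a) hg23H hg23 hg23a (fun y _ hy => hfix23 y hy)
  have hle1 := orb_card_le H a
  have hpos1 := orb_card_pos H a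
  by_cases h1 : (orb H a).card = 1
  · refine ⟨a, fun h hh => ?_⟩
    obtain ⟨w, hw⟩ := Finset.card_eq_one.mp h1
    have e1 : a ∈ orb H a := self_mem_orb H a
    have e2 : h a ∈ orb H a := apply_mem_orb e1 hh
    rw [hw, Finset.mem_singleton] at e1 e2
    rw [e2, e1]
  exfalso
  have hn1 : (orb H a).card = 24 := by omega
  have hK1 := card_eq_mul_orb H a
  rw [hcard, hn1] at hK1
  set K1 := H ⊓ MulAction.stabilizer (Equiv.Perm GolayPt) a with hK1def
  have hK1card : Nat.card K1 = 425040 := by omega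
  have hK1a : ∀ k ∈ K1, k a = a := fun k hk => hk.2
  have hg23K1 : g23 ∈ K1 := ⟨hg23H, hg23a⟩
  -- Step 2: the stabiliser of a is transitive on the other points
  obtain ⟨b, hb⟩ := exists_notMem_of_card_lt {a} (by rw [Finset.card_singleton]; norm_num)
  have hba : b ≠ a := fun h => hb (by rw [h]; exact Finset.mem_singleton_self a)
  have ha2 : a ∉ orb K1 b := notMem_orb_of_fixed hK1a hba.symm
  have hmod2 := orb_card_mod_zero (K := K1) (x := b) hg23K1 hg23
    (fun y hy hgy => ha2 (hfix23 y hgy ▸ hy))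
  have hle2 := orb_card_le K1 b
  have hpos2 := orb_card_pos K1 b
  have hn2 : (orb K1 b).card = 23 := by omega
  have hK2 := card_eq_mul_orb K1 b
  rw [hK1card, hn2] at hK2
  set K2 := K1 ⊓ MulAction.stabilizer (Equiv.Perm GolayPt) b with hK2def
  have hK2card : Nat.card K2 = 18480 := by omega
  have hK2a : ∀ k ∈ K2, k a = a := fun k hk => hK1a k hk.1
  have hK2b : ∀ k ∈ K2, k b = b := fun k hk => hk.2
  have hK2M : K2 ≤ M24 := fun k hk => hH hk.1.1
  -- Step 3: elements of order 11 and 7
  obtain ⟨g11, hg11K, hg11⟩ := exists_order K2 11 (by rw [hK2card]; norm_num)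
  obtain ⟨g7, hg7K, hg7⟩ := exists_order K2 7 (by rw [hK2card]; norm_num)
  have hF11 := card_fixedPts_11 (hK2M hg11K) hg11
  have hF7 := card_fixedPts_7 (hK2M hg7K) hg7
  have hab : a ≠ b := hba.symm
  have hfix11 : ∀ y, g11 y = y → y ∈ ({a, b} : Finset GolayPt) :=
    fixed_subset g11 {a, b} (by
      intro z hz
      rw [Finset.mem_insert, Finset.mem_singleton] at hz
      rcases hz with rfl | rfl
      · exact hK2a _ hg11K
      · exact hK2b _ hg11K) (by rw [hF11, Finset.card_pair hab])
  obtain ⟨c, hcS, hg7c⟩ := fixed_exists g7 {a, b} (by rw [hF7, Finset.card_pair hab]; norm_num)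
  rw [Finset.mem_insert, Finset.mem_singleton, not_or] at hcS
  obtain ⟨hca, hcb⟩ := hcS
  have habc : ({a, b, c} : Finset GolayPt).card = 3 :=
    Finset.card_eq_three.mpr ⟨a, b, c, hab, fun h => hca h.symm, fun h => hcb h.symm, rfl⟩
  have hfix7 : ∀ y, g7 y = y → y ∈ ({a, b, c} : Finset GolayPt) :=
    fixed_subset g7 {a, b, c} (by
      intro z hz
      rw [Finset.mem_insert, Finset.mem_insert, Finset.mem_singleton] at hz
      rcases hz with rfl | rfl | rfl
      · exact hK2a _ hg7K
      · exact hK2b _ hg7K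
      · exact hg7c) (by rw [hF7, habc])
  have ha3 : a ∉ orb K2 c := notMem_orb_of_fixed hK2a (fun h => hca h.symm)
  have hb3 : b ∉ orb K2 c := notMem_orb_of_fixed hK2b (fun h => hcb h.symm)
  have hmod3a := orb_card_mod_zero (K := K2) (x := c) hg11K hg11 (fun y hy hgy => by
    have := hfix11 y hgy
    rw [Finset.mem_insert, Finset.mem_singleton] at this
    rcases this with rfl | rfl
    · exact ha3 hy
    · exact hb3 hy)
  have hmod3b := orb_card_mod_one (K := K2) (x := c) hg7K hg7 hg7c (fun y hy hgy => by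
    have := hfix7 y hgy
    rw [Finset.mem_insert, Finset.mem_insert, Finset.mem_singleton] at this
    rcases this with rfl | rfl | rfl
    · exact absurd hy ha3
    · exact absurd hy hb3
    · rfl)
  have hle3 := orb_card_le K2 c
  have hpos3 := orb_card_pos K2 c
  have hn3 : (orb K2 c).card = 22 := by omega
  have hK3 := card_eq_mul_orb K2 c
  rw [hK2card, hn3] at hK3
  set K3 := K2 ⊓ MulAction.stabilizer (Equiv.Perm GolayPt) c with hK3def
  have hK3card : Nat.card K3 = 840 := by omega
  have hK3a : ∀ k ∈ K3, k a = a := fun k hk => hK2a k hk.1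
  have hK3b : ∀ k ∈ K3, k b = b := fun k hk => hK2b k hk.1
  have hK3c : ∀ k ∈ K3, k c = c := fun k hk => hk.2
  have hK3M : K3 ≤ M24 := fun k hk => hK2M hk.1
  have hg7K3 : g7 ∈ K3 := ⟨hg7K, hg7c⟩
  -- Step 4: an element of order 5
  obtain ⟨g5, hg5K, hg5⟩ := exists_order K3 5 (by rw [hK3card]; norm_num)
  have hF5 := card_fixedPts_5 (hK3M hg5K) hg5
  obtain ⟨d, hdS, hg5d⟩ := fixed_exists g5 {a, b, c} (by rw [hF5, habc]; norm_num)
  rw [Finset.mem_insert, Finset.mem_insert, Finset.mem_singleton, not_or, not_or] at hdS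
  obtain ⟨hda, hdb, hdc⟩ := hdS
  have ha4 : a ∉ orb K3 d := notMem_orb_of_fixed hK3a (fun h => hda h.symm)
  have hb4 : b ∉ orb K3 d := notMem_orb_of_fixed hK3b (fun h => hdb h.symm)
  have hc4 : c ∉ orb K3 d := notMem_orb_of_fixed hK3c (fun h => hdc h.symm)
  have hbcd : ({b, c, d} : Finset GolayPt).card = 3 :=
    Finset.card_eq_three.mpr
      ⟨b, c, d, fun h => hcb h.symm, fun h => hdb h.symm, fun h => hdc h.symm, rfl⟩
  have habcd : ({a, b, c, d} : Finset GolayPt).card = 4 := by
    rw [Finset.card_insert_of_notMem, hbcd]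
    rw [Finset.mem_insert, Finset.mem_insert, Finset.mem_singleton]
    rintro (h | h | h)
    · exact hab h
    · exact hca h.symm
    · exact hda h.symm
  have hfix5 : ∀ y, g5 y = y → y ∈ ({a, b, c, d} : Finset GolayPt) :=
    fixed_subset g5 {a, b, c, d} (by
      intro z hz
      rw [Finset.mem_insert, Finset.mem_insert, Finset.mem_insert, Finset.mem_singleton] at hz
      rcases hz with rfl | rfl | rfl | rfl
      · exact hK3a _ hg5K
      · exact hK3b _ hg5K
      · exact hK3c _ hg5K
      · exact hg5d) (by rw [hF5, habcd])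
  have hmod4a := orb_card_mod_zero (K := K3) (x := d) hg7K3 hg7 (fun y hy hgy => by
    have := hfix7 y hgy
    rw [Finset.mem_insert, Finset.mem_insert, Finset.mem_singleton] at this
    rcases this with rfl | rfl | rfl
    · exact ha4 hy
    · exact hb4 hy
    · exact hc4 hy)
  have hmod4b := orb_card_mod_one (K := K3) (x := d) hg5K hg5 hg5d (fun y hy hgy => by
    have := hfix5 y hgy
    rw [Finset.mem_insert, Finset.mem_insert, Finset.mem_insert, Finset.mem_singleton] at this
    rcases this with rfl | rfl | rfl | rfl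
    · exact absurd hy ha4
    · exact absurd hy hb4
    · exact absurd hy hc4
    · rfl)
  have hle4 := orb_card_le K3 d
  have hpos4 := orb_card_pos K3 d
  have hn4 : (orb K3 d).card = 21 := by omega
  have hK4 := card_eq_mul_orb K3 d
  rw [hK3card, hn4] at hK4
  set K4 := K3 ⊓ MulAction.stabilizer (Equiv.Perm GolayPt) d with hK4def
  have hK4card : Nat.card K4 = 40 := by omega
  have hK4a : ∀ k ∈ K4, k a = a := fun k hk => hK3a k hk.1
  have hK4b : ∀ k ∈ K4, k b = b := fun k hk => hK3b k hk.1
  have hK4c : ∀ k ∈ K4, k c = c := fun k hk => hK3c k hk.1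
  have hK4d : ∀ k ∈ K4, k d = d := fun k hk => hk.2
  have hK4M : K4 ≤ M24 := fun k hk => hK3M hk.1
  -- Step 5: a group of order 40
  obtain ⟨g, t, hg5', ht2, hgt⟩ := exists_comm_of_card_forty hK4card
  have hgo : orderOf (g : Equiv.Perm GolayPt) = 5 := by rw [Subgroup.orderOf_coe]; exact hg5'
  have ht1 : (t : Equiv.Perm GolayPt) ≠ 1 := by
    intro h
    have : t = 1 := Subtype.ext h
    rw [this, orderOf_one] at ht2
    norm_num at ht2
  have htt : (t : Equiv.Perm GolayPt) * t = 1 := by
    have := pow_orderOf_eq_one t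
    rw [ht2, pow_two] at this
    exact congrArg Subtype.val this
  have hcomm : (g : Equiv.Perm GolayPt) * t = t * g := congrArg Subtype.val hgt
  have hFg := card_fixedPts_5 (hK4M g.2) hgo
  have hfixg : ∀ y, (g : Equiv.Perm GolayPt) y = y → y ∈ ({a, b, c, d} : Finset GolayPt) :=
    fixed_subset g {a, b, c, d} (by
      intro z hz
      rw [Finset.mem_insert, Finset.mem_insert, Finset.mem_insert, Finset.mem_singleton] at hz
      rcases hz with rfl | rfl | rfl | rfl
      · exact hK4a _ g.2
      · exact hK4b _ g.2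
      · exact hK4c _ g.2
      · exact hK4d _ g.2) (by rw [hFg, habcd])
  apply no_order_ten (hK4M g.2) (hK4M t.2) hgo ht1 htt hcomm
  intro x hx
  have := hfixg x hx
  rw [Finset.mem_insert, Finset.mem_insert, Finset.mem_insert, Finset.mem_singleton] at this
  rcases this with rfl | rfl | rfl | rfl
  · exact hK4a _ t.2
  · exact hK4b _ t.2
  · exact hK4c _ t.2
  · exact hK4d _ t.2

/-- `M24` is 2-transitive. -/
theorem exists_map_pair {a b a' b' : GolayPt} (hab : a ≠ b) (hab' : a' ≠ b') :
    ∃ g ∈ M24, g a = a' ∧ g b = b' := by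
  obtain ⟨g₁, hg₁, h₁⟩ := exists_map_base5 [a, b] (by simp [hab]) (by simp)
  obtain ⟨g₂, hg₂, h₂⟩ := exists_map_base5 [a', b'] (by simp [hab']) (by simp)
  simp only [List.map_cons, List.map_nil, List.length_cons, List.length_nil, base5, List.take,
    List.cons.injEq, and_true] at h₁ h₂
  refine ⟨g₂⁻¹ * g₁, M24.mul_mem (M24.inv_mem hg₂) hg₁, ?_, ?_⟩
  · show g₂⁻¹ (g₁ a) = a'
    rw [Equiv.Perm.inv_eq_iff_eq, h₁.1, h₂.1]
  · show g₂⁻¹ (g₁ b) = b'
    rw [Equiv.Perm.inv_eq_iff_eq, h₁.2, h₂.2]

/-- A permutation normalising `M24` lies in `M24`. -/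
theorem normalizer_le_M24 (π : Equiv.Perm GolayPt) (hπ : ∀ g ∈ M24, π * g * π⁻¹ ∈ M24) :
    π ∈ M24 := by
  rw [M24_eq_octadAut, MulAction.mem_stabilizer_iff]
  apply Set.eq_of_subset_of_ncard_le
  · rintro _ ⟨o, ho, rfl⟩
    obtain ⟨s, hso, hs⟩ := Finset.exists_subset_card_eq (s := o) (n := 5)
      (by rw [ho.2]; norm_num)
    have hs' : (π • s).card = 5 := by rw [Finset.card_smul_finset, hs]
    obtain ⟨o', ho', hso'⟩ := exists_octad_of_five (π • s) hs'
    have hsub : π • o ⊆ o' := by
      intro w hw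
      obtain ⟨z, hz, rfl⟩ := Finset.mem_smul_finset.mp hw
      obtain ⟨t, ht, ht1, ht2, hts, htz⟩ := (mem_octad_iff_exists_inv s hs ho hso z).mp hz
      apply (mem_octad_iff_exists_inv (π • s) hs' ho' hso' (π • z)).mpr
      have hconj : ∀ u, t u = u → (π * t * π⁻¹) (π u) = π u := by
        intro u hu
        show π (t (π⁻¹ (π u))) = π u
        rw [Equiv.Perm.inv_eq_iff_eq.mpr rfl, hu]
      refine ⟨π * t * π⁻¹, hπ t ht, ?_, ?_, ?_, hconj z htz⟩
      · intro h
        apply ht1
        have : t = π⁻¹ * (π * t * π⁻¹) * π := by group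
        rw [this, h]
        group
      · calc π * t * π⁻¹ * (π * t * π⁻¹) = π * (t * t) * π⁻¹ := by group
          _ = 1 := by rw [ht2]; group
      · intro w hw
        obtain ⟨z', hz', rfl⟩ := Finset.mem_smul_finset.mp hw
        exact hconj z' (hts z' hz')
    have : π • o = o' := Finset.eq_of_subset_of_card_le hsub
      (by rw [ho'.2, Finset.card_smul_finset, ho.2])
    show π • o ∈ octads
    rw [this]
    exact ho'
  · rw [← Set.image_smul, Set.ncard_image_of_injective _ (MulAction.injective π)]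
  · exact Set.toFinite _

/-- Every automorphism of `M24` is inner. -/
theorem aut_M24_inner (α : MulAut M24) : ∃ g : M24, α = MulAut.conj g := by
  apply aut_inner M24 Finset.univ
  · intro g _ x hx
    exact absurd (Finset.mem_univ x) hx
  · intro a _ b _
    obtain ⟨c, hc⟩ := exists_notMem_of_card_lt {a, b}
      (lt_of_le_of_lt (Finset.card_insert_le _ _) (by rw [Finset.card_singleton]; norm_num))
    rw [Finset.mem_insert, Finset.mem_singleton, not_or] at hc
    obtain ⟨g, hg, -, hgb⟩ := exists_map_pair (a := c) (b := a) (a' := c) (b' := b)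
      hc.1 hc.2
    exact ⟨g, hg, hgb⟩
  · intro a _ b _ hab
    obtain ⟨c, hc⟩ := exists_notMem_of_card_lt {a, b}
      (lt_of_le_of_lt (Finset.card_insert_le _ _) (by rw [Finset.card_singleton]; norm_num))
    rw [Finset.mem_insert, Finset.mem_singleton, not_or] at hc
    obtain ⟨g, hg, hga, hgb⟩ := exists_map_pair (a := a) (b := b) (a' := a) (b' := c)
      hab (fun h => hc.1 h.symm)
    exact ⟨g, hg, hga, by rw [hgb]; exact hc.2⟩
  · intro H hH hcard
    rw [card_M24, Finset.card_univ, card_golayPt] at hcard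
    obtain ⟨a, ha⟩ := index24_fix H hH (by omega)
    exact ⟨a, Finset.mem_univ a, ha⟩
  · intro π _ hπ
    exact normalizer_le_M24 π hπ

end Cfsg.Agent.Lib.Helper35.M24Aut
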