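-- Automorphisms of M23 are inner (helper35): a subgroup of index 23 of M23 fixes one of the
-- 23 points (orbit counting with elements of order 11 and 7), and a permutation fixing the
-- extra point and normalising M23 preserves the octads through that point, which span the
-- code, so it lies in M23.
import Cfsg.Agent.Lib.Helper35.M24Aut
import Cfsg.Prelude.Def_Spor_Mathieu

set_option autoImplicit false

namespace Cfsg.Agent.Lib.Helper35.M23Aut

open Cfsg Cfsg.Spor Cfsg.Agent.Lib.Helper7.GolayBase Cfsg.Agent.Lib.Helper7.GolayCode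
  Cfsg.Agent.Lib.Helper7.M24Mem Cfsg.Agent.Lib.Helper7.GolayRigid
  Cfsg.Agent.Lib.Helper7.M24Main Cfsg.Agent.Lib.Helper7.M24Octad
  Cfsg.Agent.Lib.Helper7.M24Octad2 Cfsg.Agent.Lib.Helper35.PermAut
  Cfsg.Agent.Lib.Helper35.M24Fix Cfsg.Agent.Lib.Helper35.M24Aut
open scoped Pointwise

theorem mem_M23 {g : Equiv.Perm GolayPt} : g ∈ M23 ↔ g ∈ M24 ∧ g none = none := by
  unfold M23
  rw [Subgroup.mem_inf, MulAction.mem_stabilizer_iff]
  rfl

theorem M23_le_M24 : M23 ≤ M24 := fun _ hg => (mem_M23.mp hg).1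

/-- `M24` is 3-transitive. -/
theorem exists_map_triple {a b c a' b' c' : GolayPt} (hab : a ≠ b) (hac : a ≠ c) (hbc : b ≠ c)
    (hab' : a' ≠ b') (hac' : a' ≠ c') (hbc' : b' ≠ c') :
    ∃ g ∈ M24, g a = a' ∧ g b = b' ∧ g c = c' := by
  obtain ⟨g₁, hg₁, h₁⟩ := exists_map_base5 [a, b, c] (by simp [hab, hac, hbc]) (by simp)
  obtain ⟨g₂, hg₂, h₂⟩ := exists_map_base5 [a', b', c'] (by simp [hab', hac', hbc']) (by simp)
  simp only [List.map_cons, List.map_nil, List.length_cons, List.length_nil, base5, List.take,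
    List.cons.injEq, and_true] at h₁ h₂
  refine ⟨g₂⁻¹ * g₁, M24.mul_mem (M24.inv_mem hg₂) hg₁, ?_, ?_, ?_⟩
  · show g₂⁻¹ (g₁ a) = a'
    rw [Equiv.Perm.inv_eq_iff_eq, h₁.1, h₂.1]
  · show g₂⁻¹ (g₁ b) = b'
    rw [Equiv.Perm.inv_eq_iff_eq, h₁.2.1, h₂.2.1]
  · show g₂⁻¹ (g₁ c) = c'
    rw [Equiv.Perm.inv_eq_iff_eq, h₁.2.2, h₂.2.2]

theorem card_M23 : Nat.card M23 = 10200960 := by
  have h := card_eq_mul_orb M24 (none : GolayPt)
  have horb : orb M24 (none : GolayPt) = Finset.univ := by
    rw [Finset.eq_univ_iff_forall]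
    intro b
    by_cases hb : b = none
    · rw [hb]; exact self_mem_orb _ _
    · obtain ⟨c, hc⟩ := exists_notMem_of_card_lt {none, b}
        (lt_of_le_of_lt (Finset.card_insert_le _ _) (by rw [Finset.card_singleton]; norm_num))
      rw [Finset.mem_insert, Finset.mem_singleton, not_or] at hc
      obtain ⟨g, hg, -, hgb⟩ := exists_map_pair (a := c) (b := none) (a' := c) (b' := b)
        hc.1 hc.2
      exact mem_orb.mpr ⟨g, hg, hgb⟩
  rw [horb, Finset.card_univ, card_golayPt, card_M24] at h
  have : Nat.card M23 = Nat.card ↥(M24 ⊓ MulAction.stabilizer (Equiv.Perm GolayPt) (none : GolayPt)) := rfl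
  omega

/-- Twelve octads through the extra point spanning the code. -/
def echInf : List Nat :=
  [8391797, 8394986, 8398155, 8407702, 8421811, 8455014, 8521420, 8654232, 8919856, 9440193,
   10486557, 12584506]

theorem echInf_octads : ∀ e ∈ echInf, e ∈ octadList ∧ e.testBit 23 = true := by
  intro e he
  have h : echInf.all (fun e => inCode e && (popc e == 8) && e.testBit 23) = true := by
    decide +kernel
  have := List.all_eq_true.mp h e he
  simp only [Bool.and_eq_true, beq_iff_eq] at this
  exact ⟨mem_octadList.mpr ⟨inCode_sound this.1.1, this.1.2⟩, this.2⟩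

theorem echelon_sub : ∀ e ∈ echelon, e ∈ spanList echInf := by
  intro e he
  have h : echelon.all (fun e => (spanList echInf).contains e) = true := by decide +kernel
  have := List.all_eq_true.mp h e he
  simpa using this

theorem codeList_sub_span_echInf : ∀ c ∈ codeList, c ∈ spanList echInf :=
  fun c hc => spanList_subset echelon_sub c (codeList_sub_span_echelon c hc)

/-- A permutation mapping the octads through the extra point to octads lies in `M24`. -/
theorem mem_M24_of_octads_none (π : Equiv.Perm GolayPt)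
    (h : ∀ o ∈ octads, none ∈ o → π • o ∈ octads) : π ∈ M24 := by
  apply mem_M24_of_subset
  rintro _ ⟨s, hs, rfl⟩
  obtain ⟨c, hc, rfl⟩ := (mem_supports_iff s).mp hs
  have key : ∀ c ∈ spanList echInf, ∃ c' ∈ codeList, π • mk c = mk c' := by
    apply spanList_induction
    · exact ⟨0, zero_mem_codeList, by rw [mk_zero]; simp⟩
    · rintro a b ⟨a', ha', ha⟩ ⟨b', hb', hb⟩
      refine ⟨a' ^^^ b', xor_mem_codeList ha' hb', ?_⟩
      rw [mk_xor, mk_xor, Finset.smul_finset_symmDiff, ha, hb]
    · intro e he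
      obtain ⟨heo, he23⟩ := echInf_octads e he
      have ho : mk e ∈ octads := (mem_octads_iff _).mpr ⟨e, heo, rfl⟩
      have hnone : (none : GolayPt) ∈ mk e := mem_mk.mpr he23
      obtain ⟨c', hc', hcc⟩ := (mem_octads_iff _).mp (h _ ho hnone)
      exact ⟨c', (mem_octadList.mp hc').1, hcc.symm⟩
  obtain ⟨c', hc', h'⟩ := key c (codeList_sub_span_echInf c hc)
  change π • mk c ∈ supports (golayCode : Set (GolayPt → ZMod 2))
  rw [h']
  exact mk_mem_supports hc'

/-- A permutation fixing the extra point and normalising `M23` lies in `M23`. -/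
theorem normalizer_M23 (π : Equiv.Perm GolayPt) (hnone : π none = none)
    (hπ : ∀ g ∈ M23, π * g * π⁻¹ ∈ M23) : π ∈ M23 := by
  refine mem_M23.mpr ⟨mem_M24_of_octads_none π ?_, hnone⟩
  intro o ho hno
  have h7 : (o.erase none).card = 7 := by rw [Finset.card_erase_of_mem hno, ho.2]
  obtain ⟨s₀, hs₀, hs₀card⟩ := Finset.exists_subset_card_eq (s := o.erase none) (n := 4)
    (by omega)
  have hnone₀ : (none : GolayPt) ∉ s₀ := fun h => (Finset.mem_erase.mp (hs₀ h)).1 rfl
  set s := insert (none : GolayPt) s₀ with hsdef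
  have hs : s.card = 5 := by rw [hsdef, Finset.card_insert_of_notMem hnone₀, hs₀card]
  have hso : s ⊆ o := by
    intro z hz
    rw [hsdef, Finset.mem_insert] at hz
    rcases hz with rfl | hz
    · exact hno
    · exact (Finset.mem_erase.mp (hs₀ hz)).2
  have hs' : (π • s).card = 5 := by rw [Finset.card_smul_finset, hs]
  obtain ⟨o', ho', hso'⟩ := exists_octad_of_five (π • s) hs'
  have hsub : π • o ⊆ o' := by
    intro w hw
    obtain ⟨z, hz, rfl⟩ := Finset.mem_smul_finset.mp hw
    obtain ⟨t, ht, ht1, ht2, hts, htz⟩ := (mem_octad_iff_exists_inv s hs ho hso z).mp hz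
    have ht23 : t ∈ M23 := mem_M23.mpr ⟨ht, hts none (by rw [hsdef]; exact Finset.mem_insert_self _ _)⟩
    apply (mem_octad_iff_exists_inv (π • s) hs' ho' hso' (π • z)).mpr
    have hconj : ∀ u, t u = u → (π * t * π⁻¹) (π u) = π u := by
      intro u hu
      show π (t (π⁻¹ (π u))) = π u
      rw [Equiv.Perm.inv_eq_iff_eq.mpr rfl, hu]
    refine ⟨π * t * π⁻¹, M23_le_M24 (hπ t ht23), ?_, ?_, ?_, hconj z htz⟩
    · intro h
      apply ht1
      have : t = π⁻¹ * (π * t * π⁻¹) * π := by group
      rw [this, h]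
      group
    · calc π * t * π⁻¹ * (π * t * π⁻¹) = π * (t * t) * π⁻¹ := by group
        _ = 1 := by rw [ht2]; group
    · intro w hw
      obtain ⟨z', hz', rfl⟩ := Finset.mem_smul_finset.mp hw
      exact hconj z' (hts z' hz')
  have : π • o = o' := Finset.eq_of_subset_of_card_le hsub
    (by rw [ho'.2, Finset.card_smul_finset, ho.2])
  rw [this]
  exact ho'

/-- Every subgroup of index 23 of `M23` fixes one of the 23 points. -/
theorem index23_fix (H : Subgroup (Equiv.Perm GolayPt)) (hH : H ≤ M23)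
    (hcard : Nat.card H = 443520) : ∃ a, a ≠ none ∧ ∀ h ∈ H, h a = a := by
  have : Fact (Nat.Prime 11) := ⟨by norm_num⟩
  have : Fact (Nat.Prime 7) := ⟨by norm_num⟩
  have hHM : H ≤ M24 := fun h hh => M23_le_M24 (hH hh)
  have hHnone : ∀ h ∈ H, h none = none := fun h hh => (mem_M23.mp (hH hh)).2
  obtain ⟨g11, hg11H, hg11⟩ := exists_order H 11 (by rw [hcard]; norm_num)
  obtain ⟨g7, hg7H, hg7⟩ := exists_order H 7 (by rw [hcard]; norm_num)
  have hF11 := card_fixedPts_11 (hHM hg11H) hg11
  have hF7 := card_fixedPts_7 (hHM hg7H) hg7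
  obtain ⟨a, haS, hg11a⟩ := fixed_exists g11 {none}
    (by rw [hF11, Finset.card_singleton]; norm_num)
  rw [Finset.mem_singleton] at haS
  have hfix11 : ∀ y, g11 y = y → y ∈ ({none, a} : Finset GolayPt) :=
    fixed_subset g11 {none, a} (by
      intro z hz
      rw [Finset.mem_insert, Finset.mem_singleton] at hz
      rcases hz with rfl | rfl
      · exact hHnone _ hg11H
      · exact hg11a) (by rw [hF11, Finset.card_pair (Ne.symm haS)])
  have hnone : none ∉ orb H a := notMem_orb_of_fixed hHnone (Ne.symm haS)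
  have hmod := orb_card_mod_one (K := H) (x := a) hg11H hg11 hg11a (fun y hy hgy => by
    have := hfix11 y hgy
    rw [Finset.mem_insert, Finset.mem_singleton] at this
    rcases this with rfl | rfl
    · exact absurd hy hnone
    · rfl)
  have hle := orb_card_le H a
  have hpos := orb_card_pos H a
  have hcases : (orb H a).card = 1 ∨ (orb H a).card = 12 ∨ (orb H a).card = 23 := by omega
  rcases hcases with h1 | h12 | h23
  · refine ⟨a, haS, fun h hh => ?_⟩
    obtain ⟨w, hw⟩ := Finset.card_eq_one.mp h1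
    have e1 : a ∈ orb H a := self_mem_orb H a
    have e2 : h a ∈ orb H a := apply_mem_orb e1 hh
    rw [hw, Finset.mem_singleton] at e1 e2
    rw [e2, e1]
  · exfalso
    have h7 := card_fixed_modEq g7 (p := 7) (n := 1)
      (by rw [pow_one, ← hg7, pow_orderOf_eq_one]) (orb H a) (fun y hy => apply_mem_orb hy hg7H)
    have hle7 : ((orb H a).filter (fun y => g7 y = y)).card ≤ (fixedPts g7).card :=
      Finset.card_le_card (by
        intro y hy
        rw [Finset.mem_filter] at hy
        exact mem_fixedPts.mpr hy.2)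
    rw [h12] at h7
    have : 12 % 7 = ((orb H a).filter (fun y => g7 y = y)).card % 7 := h7
    omega
  · exfalso
    have hK := card_eq_mul_orb H a
    rw [hcard, h23] at hK
    omega

/-- Every automorphism of `M23` is inner. -/
theorem aut_M23_inner (α : MulAut M23) : ∃ g : M23, α = MulAut.conj g := by
  apply aut_inner M23 (Finset.univ.erase none)
  · intro g hg x hx
    have : x = none := by
      by_contra h
      exact hx (Finset.mem_erase.mpr ⟨h, Finset.mem_univ x⟩)
    rw [this]
    exact (mem_M23.mp hg).2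
  · intro a ha b hb
    have ha' := (Finset.mem_erase.mp ha).1
    have hb' := (Finset.mem_erase.mp hb).1
    obtain ⟨g, hg, hgn, hga⟩ := exists_map_pair (a := none) (b := a) (a' := none) (b' := b)
      (Ne.symm ha') (Ne.symm hb')
    exact ⟨g, mem_M23.mpr ⟨hg, hgn⟩, hga⟩
  · intro a ha b hb hab
    have ha' := (Finset.mem_erase.mp ha).1
    have hb' := (Finset.mem_erase.mp hb).1
    obtain ⟨c, hc⟩ := exists_notMem_of_card_lt ({none, a, b} : Finset GolayPt)
      (lt_of_le_of_lt (Finset.card_le_three) (by norm_num))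
    rw [Finset.mem_insert, Finset.mem_insert, Finset.mem_singleton, not_or, not_or] at hc
    obtain ⟨g, hg, hgn, hga, hgb⟩ := exists_map_triple (a := none) (b := a) (c := b)
      (a' := none) (b' := a) (c' := c) (Ne.symm ha') (Ne.symm hb') hab (Ne.symm ha')
      (fun h => hc.1 h.symm) (fun h => hc.2.1 h.symm)
    exact ⟨g, mem_M23.mpr ⟨hg, hgn⟩, hga, by rw [hgb]; exact hc.2.2⟩
  · intro H hH hcard
    rw [card_M23, Finset.card_erase_of_mem (Finset.mem_univ _), Finset.card_univ,
      card_golayPt] at hcard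
    obtain ⟨a, ha, hfix⟩ := index23_fix H hH (by omega)
    exact ⟨a, Finset.mem_erase.mpr ⟨ha, Finset.mem_univ a⟩, hfix⟩
  · intro π hπ1 hπ2
    exact normalizer_M23 π (hπ1 none (by simp)) hπ2

end Cfsg.Agent.Lib.Helper35.M23Aut
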