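-- Permutation-group tools for automorphism groups (helper35): fixed points modulo p on
-- invariant sets, orbit-stabiliser for subgroups of a symmetric group, a criterion for all
-- automorphisms of a permutation group to be inner, and a lemma on groups of order 40.
import Mathlib
import Cfsg.Prelude.Def_KGroupFacts

set_option autoImplicit false

namespace Cfsg.Agent.Lib.Helper35.PermAut


section Fixed

variable {Ω : Type*} [Fintype Ω] [DecidableEq Ω]

/-- Fixed points modulo `p` on an invariant finset: if `g ^ (p ^ n) = 1` and `g` maps the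
finset `Y` into itself, then `|Y|` is congruent to the number of fixed points of `g` in `Y`. -/
theorem card_fixed_modEq (g : Equiv.Perm Ω) {p n : ℕ} [hp : Fact p.Prime] (hg : g ^ p ^ n = 1)
    (Y : Finset Ω) (hY : ∀ y ∈ Y, g y ∈ Y) :
    Y.card ≡ (Y.filter (fun y => g y = y)).card [MOD p] := by
  classical
  let f : Function.End Y := fun y => ⟨g y.1, hY y.1 y.2⟩
  have hpow : ∀ (k : ℕ) (y : Y), ((f ^ k) y : Ω) = (g ^ k) y.1 := by
    intro k
    induction k with
    | zero => intro y; rfl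
    | succ k ih =>
      intro y
      rw [pow_succ', pow_succ']
      show ((f ((f ^ k) y) : Y) : Ω) = g ((g ^ k) y.1)
      rw [← ih y]
  have hf : f ^ p ^ n = 1 := by
    funext y
    apply Subtype.ext
    rw [hpow, hg]
    rfl
  have h := Equiv.Perm.card_fixedPoints_modEq (p := p) (n := n) hf
  rw [Fintype.card_coe] at h
  have h2 : Fintype.card (Function.fixedPoints f) = (Y.filter (fun y => g y = y)).card := by
    rw [← Fintype.card_coe]
    apply Fintype.card_congr
    refine ⟨fun y => ⟨y.1.1, ?_⟩, fun y => ⟨⟨y.1, (Finset.mem_filter.mp y.2).1⟩, ?_⟩, ?_, ?_⟩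
    · rw [Finset.mem_filter]
      exact ⟨y.1.2, congrArg Subtype.val y.2⟩
    · apply Subtype.ext
      exact (Finset.mem_filter.mp y.2).2
    · intro y; rfl
    · intro y; rfl
  rw [h2] at h
  exact h

/-- Version for the whole type. -/
theorem card_fixed_modEq_univ (g : Equiv.Perm Ω) {p n : ℕ} [hp : Fact p.Prime]
    (hg : g ^ p ^ n = 1) :
    Fintype.card Ω ≡ (Finset.univ.filter (fun y => g y = y)).card [MOD p] := by
  have := card_fixed_modEq g hg Finset.univ (fun y _ => Finset.mem_univ _)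
  rwa [Finset.card_univ] at this

end Fixed



section Orbit

variable {Ω : Type*} [Fintype Ω] [DecidableEq Ω]

/-- The orbit of `x` under a subgroup of the symmetric group, as a finset. -/
noncomputable def orb (K : Subgroup (Equiv.Perm Ω)) (x : Ω) : Finset Ω := by
  classical exact Finset.univ.filter (fun y => ∃ k ∈ K, k x = y)

theorem mem_orb {K : Subgroup (Equiv.Perm Ω)} {x y : Ω} : y ∈ orb K x ↔ ∃ k ∈ K, k x = y := by
  classical
  simp [orb]

theorem self_mem_orb (K : Subgroup (Equiv.Perm Ω)) (x : Ω) : x ∈ orb K x :=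
  mem_orb.mpr ⟨1, K.one_mem, rfl⟩

theorem apply_mem_orb {K : Subgroup (Equiv.Perm Ω)} {x y : Ω} (hy : y ∈ orb K x)
    {k : Equiv.Perm Ω} (hk : k ∈ K) : k y ∈ orb K x := by
  obtain ⟨k', hk', rfl⟩ := mem_orb.mp hy
  exact mem_orb.mpr ⟨k * k', K.mul_mem hk hk', rfl⟩

/-- Orbit-stabiliser for a subgroup of the symmetric group. -/
theorem card_eq_mul_orb (K : Subgroup (Equiv.Perm Ω)) (x : Ω) :
    Nat.card K = Nat.card ↥(K ⊓ MulAction.stabilizer (Equiv.Perm Ω) x) * (orb K x).card := by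
  have h1 := Subgroup.card_mul_index (MulAction.stabilizer K x)
  rw [MulAction.index_stabilizer] at h1
  have horb : MulAction.orbit K x = ((orb K x : Finset Ω) : Set Ω) := by
    ext y
    simp only [MulAction.mem_orbit_iff, Finset.mem_coe, mem_orb]
    constructor
    · rintro ⟨⟨k, hk⟩, rfl⟩
      exact ⟨k, hk, rfl⟩
    · rintro ⟨k, hk, rfl⟩
      exact ⟨⟨k, hk⟩, rfl⟩
  have hstab : Nat.card ↥(MulAction.stabilizer K x) =
      Nat.card ↥(K ⊓ MulAction.stabilizer (Equiv.Perm Ω) x) := by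
    rw [← Subgroup.card_subtype K (MulAction.stabilizer K x)]
    congr 1
    have : Subgroup.map K.subtype (MulAction.stabilizer K x) =
        K ⊓ MulAction.stabilizer (Equiv.Perm Ω) x := by
      ext g
      simp only [Subgroup.mem_map, MulAction.mem_stabilizer_iff, Subgroup.coe_subtype,
        Subtype.exists, exists_and_right, exists_eq_right, Subgroup.mem_inf]
      constructor
      · rintro ⟨hg, hgb⟩
        exact ⟨hg, hgb⟩
      · rintro ⟨hgK, hgb⟩
        exact ⟨hgK, hgb⟩
    rw [this]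
  rw [horb, Set.ncard_coe_finset, hstab] at h1
  exact h1.symm

end Orbit



section Inner

variable {Ω : Type*} [Fintype Ω] [DecidableEq Ω]

/-- Automorphisms of a permutation group are inner as soon as (1) the group is transitive on
the finset `Δ` and trivial outside, (2) distinct points of `Δ` have distinct stabilisers,
(3) every subgroup of index `|Δ|` fixes a point of `Δ`, and (4) the group contains every
permutation normalising it (and trivial outside `Δ`). -/
theorem aut_inner (G : Subgroup (Equiv.Perm Ω)) (Δ : Finset Ω)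
    (h1 : ∀ g ∈ G, ∀ x, x ∉ Δ → g x = x)
    (h2 : ∀ a ∈ Δ, ∀ b ∈ Δ, ∃ g ∈ G, g a = b)
    (h3 : ∀ a ∈ Δ, ∀ b ∈ Δ, a ≠ b → ∃ g ∈ G, g a = a ∧ g b ≠ b)
    (h4 : ∀ H : Subgroup (Equiv.Perm Ω), H ≤ G → Nat.card H * Δ.card = Nat.card G →
      ∃ a ∈ Δ, ∀ h ∈ H, h a = a)
    (h5 : ∀ π : Equiv.Perm Ω, (∀ x, x ∉ Δ → π x = x) → (∀ g ∈ G, π * g * π⁻¹ ∈ G) → π ∈ G)
    (α : MulAut G) : ∃ g : G, α = MulAut.conj g := by
  classical
  -- the group preserves Δ
  have hΔ : ∀ g ∈ G, ∀ a ∈ Δ, g a ∈ Δ := by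
    intro g hg a ha
    by_contra hga
    have := h1 g⁻¹ (G.inv_mem hg) (g a) hga
    rw [Equiv.Perm.inv_eq_iff_eq.mpr rfl] at this
    exact hga (this ▸ ha)
  -- cardinality of point stabilisers
  have hcard : ∀ a ∈ Δ, Nat.card (MulAction.stabilizer G a) * Δ.card = Nat.card G := by
    intro a ha
    have h := Subgroup.card_mul_index (MulAction.stabilizer G a)
    rw [MulAction.index_stabilizer] at h
    have horb : MulAction.orbit G a = (Δ : Set Ω) := by
      ext y
      simp only [MulAction.mem_orbit_iff, Finset.mem_coe]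
      constructor
      · rintro ⟨⟨g, hg⟩, rfl⟩
        exact hΔ g hg a ha
      · intro hy
        obtain ⟨g, hg, hga⟩ := h2 a ha y hy
        exact ⟨⟨g, hg⟩, hga⟩
    rw [horb, Set.ncard_coe_finset] at h
    exact h
  -- the relation between a point and its image
  let R : Ω → Ω → Prop := fun a b => b ∈ Δ ∧ ∀ s : G, (s : Equiv.Perm Ω) a = a ↔
    (α s : Equiv.Perm Ω) b = b
  have hRex : ∀ a ∈ Δ, ∃ b, R a b := by
    intro a ha
    have hpos : 0 < Δ.card := Finset.card_pos.mpr ⟨a, ha⟩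
    let Sa : Subgroup G := MulAction.stabilizer G a
    let H : Subgroup (Equiv.Perm Ω) := (Sa.map (α : G →* G)).map G.subtype
    have hHG : H ≤ G := by
      rintro _ ⟨x, -, rfl⟩
      exact x.2
    have hHcard : Nat.card H = Nat.card Sa := by
      rw [Subgroup.card_map_of_injective (Subgroup.subtype_injective G),
        Subgroup.card_map_of_injective (show Function.Injective (α : G →* G) from α.injective)]
    obtain ⟨b, hb, hfix⟩ := h4 H hHG (by rw [hHcard]; exact hcard a ha)
    let Sb : Subgroup G := MulAction.stabilizer G b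
    have hle : Sa.map (α : G →* G) ≤ Sb := by
      rintro _ ⟨s, hs, rfl⟩
      rw [MulAction.mem_stabilizer_iff]
      exact hfix _ ⟨_, ⟨s, hs, rfl⟩, rfl⟩
    have heq : Sa.map (α : G →* G) = Sb := by
      apply Subgroup.eq_of_le_of_card_ge hle
      rw [Subgroup.card_map_of_injective (show Function.Injective (α : G →* G) from α.injective)]
      have e1 := hcard a ha
      have e2 := hcard b hb
      have : Nat.card Sb * Δ.card = Nat.card Sa * Δ.card := by rw [e1, e2]
      exact le_of_eq (Nat.eq_of_mul_eq_mul_right hpos this)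
    refine ⟨b, hb, fun s => ⟨fun hs => ?_, fun hs => ?_⟩⟩
    · have : α s ∈ Sb := hle ⟨s, hs, rfl⟩
      exact this
    · have : α s ∈ Sa.map (α : G →* G) := by rw [heq]; exact hs
      obtain ⟨s', hs', he⟩ := this
      have : s' = s := α.injective he
      rw [← this]
      exact hs'
  have hRuniq : ∀ a b b', R a b → R a b' → b = b' := by
    intro a b b' hb hb'
    by_contra hne
    obtain ⟨x, hx, hxb, hxb'⟩ := h3 b hb.1 b' hb'.1 hne
    obtain ⟨s, hs⟩ := α.surjective ⟨x, hx⟩
    have e1 : (α s : Equiv.Perm Ω) b = b := by rw [hs]; exact hxb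
    have e2 : (s : Equiv.Perm Ω) a = a := (hb.2 s).mpr e1
    have e3 : (α s : Equiv.Perm Ω) b' = b' := (hb'.2 s).mp e2
    rw [hs] at e3
    exact hxb' e3
  have hRinj : ∀ a ∈ Δ, ∀ a' ∈ Δ, ∀ b, R a b → R a' b → a = a' := by
    intro a ha a' ha' b hb hb'
    by_contra hne
    obtain ⟨x, hx, hxa, hxa'⟩ := h3 a ha a' ha' hne
    have e1 := (hb.2 ⟨x, hx⟩).mp hxa
    exact hxa' ((hb'.2 ⟨x, hx⟩).mpr e1)
  -- the permutation
  let π₀ : Ω → Ω := fun a => if ha : a ∈ Δ then (hRex a ha).choose else a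
  have hπ₀ : ∀ a (ha : a ∈ Δ), R a (π₀ a) := by
    intro a ha
    simp only [π₀, dif_pos ha]
    exact (hRex a ha).choose_spec
  have hπ₀' : ∀ a, a ∉ Δ → π₀ a = a := by
    intro a ha
    simp only [π₀, dif_neg ha]
  have hinj : Function.Injective π₀ := by
    intro a a' h
    by_cases ha : a ∈ Δ <;> by_cases ha' : a' ∈ Δ
    · exact hRinj a ha a' ha' (π₀ a) (hπ₀ a ha) (h ▸ hπ₀ a' ha')
    · exfalso
      rw [hπ₀' a' ha'] at h
      exact ha' (h ▸ (hπ₀ a ha).1)
    · exfalso
      rw [hπ₀' a ha] at h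
      exact ha (h ▸ (hπ₀ a' ha').1)
    · rw [hπ₀' a ha, hπ₀' a' ha'] at h
      exact h
  let π : Equiv.Perm Ω := Equiv.ofBijective π₀ (Finite.injective_iff_bijective.mp hinj)
  have hπ : ∀ a, π a = π₀ a := fun a => rfl
  -- equivariance
  have hequiv : ∀ g : G, ∀ a, (α g : Equiv.Perm Ω) (π a) = π ((g : Equiv.Perm Ω) a) := by
    intro g a
    by_cases ha : a ∈ Δ
    · have hga : (g : Equiv.Perm Ω) a ∈ Δ := hΔ g g.2 a ha
      have hb := hπ₀ a ha
      apply hRuniq ((g : Equiv.Perm Ω) a) _ _ _ (hπ₀ _ hga)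
      refine ⟨hΔ _ (α g).2 _ hb.1, fun s => ?_⟩
      have key := hb.2 (g⁻¹ * s * g)
      have e1 : ((g⁻¹ * s * g : G) : Equiv.Perm Ω) a = a ↔
          (s : Equiv.Perm Ω) ((g : Equiv.Perm Ω) a) = (g : Equiv.Perm Ω) a := by
        show (g : Equiv.Perm Ω)⁻¹ ((s : Equiv.Perm Ω) ((g : Equiv.Perm Ω) a)) = a ↔ _
        rw [Equiv.Perm.inv_eq_iff_eq]
      have e2 : ((α (g⁻¹ * s * g) : G) : Equiv.Perm Ω) (π₀ a) = π₀ a ↔
          (α s : Equiv.Perm Ω) ((α g : Equiv.Perm Ω) (π₀ a)) = (α g : Equiv.Perm Ω) (π₀ a) := by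
        rw [map_mul, map_mul, map_inv]
        show (α g : Equiv.Perm Ω)⁻¹ ((α s : Equiv.Perm Ω) ((α g : Equiv.Perm Ω) (π₀ a))) = π₀ a ↔ _
        rw [Equiv.Perm.inv_eq_iff_eq]
      rw [← e1, key, e2]
      rfl
    · rw [hπ, hπ₀' a ha, h1 _ g.2 a ha, hπ, hπ₀' a ha, h1 _ (α g).2 a ha]
  have hconj : ∀ g : G, (α g : Equiv.Perm Ω) = π * g * π⁻¹ := by
    intro g
    ext x
    have := hequiv g (π⁻¹ x)
    rw [show π (π⁻¹ x) = x from (Equiv.eq_symm_apply π).mp rfl] at this
    rw [this]
    rfl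
  have hπG : π ∈ G := by
    apply h5
    · intro x hx
      rw [hπ, hπ₀' x hx]
    · intro g hg
      have := hconj ⟨g, hg⟩
      rw [← this]
      exact (α ⟨g, hg⟩).2
  refine ⟨⟨π, hπG⟩, ?_⟩
  ext g : 1
  apply Subtype.ext
  rw [hconj g]
  rfl

/-- If every automorphism is inner, the outer automorphism group is trivial. -/
theorem card_out_eq_one {G : Type*} [Group G] (h : ∀ α : MulAut G, ∃ g : G, α = MulAut.conj g) :
    Nat.card (Cfsg.Out G) = 1 := by
  have htop : Cfsg.Inn G = ⊤ := by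
    rw [eq_top_iff]
    intro α _
    obtain ⟨g, hg⟩ := h α
    exact ⟨g, hg.symm⟩
  rw [Nat.card_eq_one_iff_unique]
  refine ⟨?_, ⟨1⟩⟩
  show Subsingleton (MulAut G ⧸ Cfsg.Inn G)
  rw [htop]
  exact QuotientGroup.subsingleton_quotient_top

end Inner



section Forty

theorem fact40_5 : Nat.factorization 40 5 = 1 := by
  have h : (40 : ℕ) = 5 ^ 1 * 8 := by norm_num
  rw [h, Nat.factorization_mul (by norm_num) (by norm_num), Nat.Prime.factorization_pow Nat.prime_five]
  simp
  rw [Nat.factorization_eq_zero_of_not_dvd (by norm_num)]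

theorem fact40_2 : Nat.factorization 40 2 = 3 := by
  have h : (40 : ℕ) = 2 ^ 3 * 5 := by norm_num
  rw [h, Nat.factorization_mul (by norm_num) (by norm_num), Nat.Prime.factorization_pow Nat.prime_two]
  simp
  rw [Nat.factorization_eq_zero_of_not_dvd (by norm_num)]

/-- A group of order 40 has commuting elements of orders 5 and 2. -/
theorem exists_comm_of_card_forty {K : Type*} [Group K] (hK : Nat.card K = 40) :
    ∃ g t : K, orderOf g = 5 ∧ orderOf t = 2 ∧ g * t = t * g := by
  classical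
  have : Finite K := Nat.finite_of_card_ne_zero (by rw [hK]; norm_num)
  have : Fact (Nat.Prime 5) := ⟨Nat.prime_five⟩
  have : Fact (Nat.Prime 2) := ⟨Nat.prime_two⟩
  obtain ⟨P⟩ : Nonempty (Sylow 5 K) := inferInstance
  obtain ⟨Q⟩ : Nonempty (Sylow 2 K) := inferInstance
  have hP : Nat.card P = 5 := by
    rw [Sylow.card_eq_multiplicity, hK, fact40_5, pow_one]
  have hQ : Nat.card Q = 8 := by
    rw [Sylow.card_eq_multiplicity, hK, fact40_2]
    norm_num
  have hidx : (P : Subgroup K).index = 8 := by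
    have := Subgroup.card_mul_index (P : Subgroup K)
    rw [hK, hP] at this
    omega
  have hn5 : Nat.card (Sylow 5 K) = 1 := by
    have h1 := card_sylow_modEq_one 5 K
    have h2 := Sylow.card_dvd_index P
    rw [hidx] at h2
    have h3 : Nat.card (Sylow 5 K) ≤ 8 := Nat.le_of_dvd (by norm_num) h2
    have h4 : Nat.card (Sylow 5 K) % 5 = 1 := h1
    interval_cases h : Nat.card (Sylow 5 K) <;> simp_all
  have hmem : ∀ x : K, orderOf x = 5 → x ∈ (P : Subgroup K) := by
    intro x hx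
    have hpg : IsPGroup 5 (Subgroup.zpowers x) := by
      rw [IsPGroup.iff_card]
      exact ⟨1, by rw [Nat.card_zpowers, hx, pow_one]⟩
    obtain ⟨P', hP'⟩ := hpg.exists_le_sylow
    have : P' = P := by
      have := (Nat.card_eq_one_iff_unique.mp hn5).1
      exact Subsingleton.elim _ _
    rw [this] at hP'
    exact hP' (Subgroup.mem_zpowers x)
  obtain ⟨g, hg⟩ := exists_prime_orderOf_dvd_card' (G := K) 5 (by rw [hK]; norm_num)
  -- pigeonhole on the conjugates of g by the Sylow 2-subgroup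
  have hconj : ∀ q : K, orderOf (q * g * q⁻¹) = 5 := by
    intro q
    have := MulEquiv.orderOf_eq (MulAut.conj q) g
    rw [MulAut.conj_apply] at this
    rw [this, hg]
  let f : Q → P := fun q => ⟨(q : K) * g * (q : K)⁻¹, hmem _ (hconj _)⟩
  let _ : Fintype Q := Fintype.ofFinite _
  let _ : Fintype P := Fintype.ofFinite _
  have hlt : Fintype.card P < Fintype.card Q := by
    rw [← Nat.card_eq_fintype_card, ← Nat.card_eq_fintype_card, hP, hQ]
    norm_num
  obtain ⟨q₁, q₂, hne, heq⟩ := Fintype.exists_ne_map_eq_of_card_lt f hlt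
  have heq' : (q₁ : K) * g * (q₁ : K)⁻¹ = (q₂ : K) * g * (q₂ : K)⁻¹ := congrArg Subtype.val heq
  set s : K := (q₂ : K)⁻¹ * (q₁ : K) with hs
  have hsQ : s ∈ (Q : Subgroup K) := (Q : Subgroup K).mul_mem ((Q : Subgroup K).inv_mem q₂.2) q₁.2
  have hs1 : s ≠ 1 := by
    intro h
    apply hne
    apply Subtype.ext
    have : (q₁ : K) = (q₂ : K) * s := by rw [hs]; group
    rw [this, h, mul_one]
  have hsg : s * g = g * s := by
    have : s * g * s⁻¹ = g := by
      rw [hs]
      calc (q₂ : K)⁻¹ * (q₁ : K) * g * ((q₂ : K)⁻¹ * (q₁ : K))⁻¹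
          = (q₂ : K)⁻¹ * ((q₁ : K) * g * (q₁ : K)⁻¹) * (q₂ : K) := by group
        _ = g := by rw [heq']; group
    calc s * g = s * g * s⁻¹ * s := by group
      _ = g * s := by rw [this]
  obtain ⟨k, hk⟩ : ∃ k : ℕ, orderOf s = 2 ^ k := by
    obtain ⟨j, hj⟩ := Q.isPGroup' ⟨s, hsQ⟩
    have hj' : s ^ 2 ^ j = 1 := congrArg Subtype.val hj
    obtain ⟨k, -, hk⟩ := (Nat.dvd_prime_pow Nat.prime_two).mp (orderOf_dvd_of_pow_eq_one hj')
    exact ⟨k, hk⟩
  have hk0 : k ≠ 0 := by
    rintro rfl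
    rw [pow_zero, orderOf_eq_one_iff] at hk
    exact hs1 hk
  have h2dvd : 2 ∣ orderOf s := by
    rw [hk]
    exact dvd_pow_self 2 hk0
  have hpos : orderOf s ≠ 0 := by rw [hk]; positivity
  refine ⟨g, s ^ (orderOf s / 2), hg, orderOf_pow_orderOf_div hpos h2dvd, ?_⟩
  exact ((Commute.pow_left (show Commute s g from hsg) _).eq).symm

end Forty

end Cfsg.Agent.Lib.Helper35.PermAut
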