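-- Permutation-group tools, part 2 (helper35): automorphisms of a transitive permutation group
-- whose subgroups of index |Δ| fix a point are induced by permutations of the points; a
-- subgroup whose order is divisible by 2 * |Y|! contains an involution fixing the invariant
-- set Y pointwise.
import Mathlib
import Cfsg.Agent.Lib.Helper35.PermAut

set_option autoImplicit false

namespace Cfsg.Agent.Lib.Helper35.PermAut2

section Conj

variable {Ω : Type*} [Fintype Ω] [DecidableEq Ω]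

/-- Automorphisms of a permutation group are induced by permutations as soon as (1) the group
is transitive on the finset `Δ` and trivial outside, (2) distinct points of `Δ` have distinct
stabilisers, and (3) every subgroup of index `|Δ|` fixes a point of `Δ`: then every automorphism
is conjugation by a permutation which is trivial outside `Δ`. -/
theorem aut_conj (G : Subgroup (Equiv.Perm Ω)) (Δ : Finset Ω)
    (h1 : ∀ g ∈ G, ∀ x, x ∉ Δ → g x = x)
    (h2 : ∀ a ∈ Δ, ∀ b ∈ Δ, ∃ g ∈ G, g a = b)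
    (h3 : ∀ a ∈ Δ, ∀ b ∈ Δ, a ≠ b → ∃ g ∈ G, g a = a ∧ g b ≠ b)
    (h4 : ∀ H : Subgroup (Equiv.Perm Ω), H ≤ G → Nat.card H * Δ.card = Nat.card G →
      ∃ a ∈ Δ, ∀ h ∈ H, h a = a)
    (α : MulAut G) : ∃ π : Equiv.Perm Ω, (∀ x, x ∉ Δ → π x = x) ∧
      ∀ g : G, (α g : Equiv.Perm Ω) = π * g * π⁻¹ := by
  classical
  -- the group preserves Δ
  have hΔ : ∀ g ∈ G, ∀ a ∈ Δ, g a ∈ Δ := by
    intro g hg a ha
    by_contra hga
    have := h1 g⁻¹ (G.inv_mem hg) (g a) hga
    rw [Equiv.Perm.inv_eq_iff_eq.mpr rfl] at this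
    exact hga (this ▸ ha)
  -- cardinality of point stabilisers
  have hcard : ∀ a ∈ Δ, Nat.card (MulAction.stabilizer G a) * Δ.card = Nat.card G := by
    intro a ha
    have h := Subgroup.card_mul_index (MulAction.stabilizer G a)
    rw [MulAction.index_stabilizer] at h
    have horb : MulAction.orbit G a = (Δ : Set Ω) := by
      ext y
      simp only [MulAction.mem_orbit_iff, Finset.mem_coe]
      constructor
      · rintro ⟨⟨g, hg⟩, rfl⟩
        exact hΔ g hg a ha
      · intro hy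
        obtain ⟨g, hg, hga⟩ := h2 a ha y hy
        exact ⟨⟨g, hg⟩, hga⟩
    rw [horb, Set.ncard_coe_finset] at h
    exact h
  -- the relation between a point and its image
  let R : Ω → Ω → Prop := fun a b => b ∈ Δ ∧ ∀ s : G, (s : Equiv.Perm Ω) a = a ↔
    (α s : Equiv.Perm Ω) b = b
  have hRex : ∀ a ∈ Δ, ∃ b, R a b := by
    intro a ha
    have hpos : 0 < Δ.card := Finset.card_pos.mpr ⟨a, ha⟩
    let Sa : Subgroup G := MulAction.stabilizer G a
    let H : Subgroup (Equiv.Perm Ω) := (Sa.map (α : G →* G)).map G.subtype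
    have hHG : H ≤ G := by
      rintro _ ⟨x, -, rfl⟩
      exact x.2
    have hHcard : Nat.card H = Nat.card Sa := by
      rw [Subgroup.card_map_of_injective (Subgroup.subtype_injective G),
        Subgroup.card_map_of_injective (show Function.Injective (α : G →* G) from α.injective)]
    obtain ⟨b, hb, hfix⟩ := h4 H hHG (by rw [hHcard]; exact hcard a ha)
    let Sb : Subgroup G := MulAction.stabilizer G b
    have hle : Sa.map (α : G →* G) ≤ Sb := by
      rintro _ ⟨s, hs, rfl⟩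
      rw [MulAction.mem_stabilizer_iff]
      exact hfix _ ⟨_, ⟨s, hs, rfl⟩, rfl⟩
    have heq : Sa.map (α : G →* G) = Sb := by
      apply Subgroup.eq_of_le_of_card_ge hle
      rw [Subgroup.card_map_of_injective (show Function.Injective (α : G →* G) from α.injective)]
      have e1 := hcard a ha
      have e2 := hcard b hb
      have : Nat.card Sb * Δ.card = Nat.card Sa * Δ.card := by rw [e1, e2]
      exact le_of_eq (Nat.eq_of_mul_eq_mul_right hpos this)
    refine ⟨b, hb, fun s => ⟨fun hs => ?_, fun hs => ?_⟩⟩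
    · have : α s ∈ Sb := hle ⟨s, hs, rfl⟩
      exact this
    · have : α s ∈ Sa.map (α : G →* G) := by rw [heq]; exact hs
      obtain ⟨s', hs', he⟩ := this
      have : s' = s := α.injective he
      rw [← this]
      exact hs'
  have hRuniq : ∀ a b b', R a b → R a b' → b = b' := by
    intro a b b' hb hb'
    by_contra hne
    obtain ⟨x, hx, hxb, hxb'⟩ := h3 b hb.1 b' hb'.1 hne
    obtain ⟨s, hs⟩ := α.surjective ⟨x, hx⟩
    have e1 : (α s : Equiv.Perm Ω) b = b := by rw [hs]; exact hxb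
    have e2 : (s : Equiv.Perm Ω) a = a := (hb.2 s).mpr e1
    have e3 : (α s : Equiv.Perm Ω) b' = b' := (hb'.2 s).mp e2
    rw [hs] at e3
    exact hxb' e3
  have hRinj : ∀ a ∈ Δ, ∀ a' ∈ Δ, ∀ b, R a b → R a' b → a = a' := by
    intro a ha a' ha' b hb hb'
    by_contra hne
    obtain ⟨x, hx, hxa, hxa'⟩ := h3 a ha a' ha' hne
    have e1 := (hb.2 ⟨x, hx⟩).mp hxa
    exact hxa' ((hb'.2 ⟨x, hx⟩).mpr e1)
  -- the permutation
  let π₀ : Ω → Ω := fun a => if ha : a ∈ Δ then (hRex a ha).choose else a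
  have hπ₀ : ∀ a (ha : a ∈ Δ), R a (π₀ a) := by
    intro a ha
    simp only [π₀, dif_pos ha]
    exact (hRex a ha).choose_spec
  have hπ₀' : ∀ a, a ∉ Δ → π₀ a = a := by
    intro a ha
    simp only [π₀, dif_neg ha]
  have hinj : Function.Injective π₀ := by
    intro a a' h
    by_cases ha : a ∈ Δ <;> by_cases ha' : a' ∈ Δ
    · exact hRinj a ha a' ha' (π₀ a) (hπ₀ a ha) (h ▸ hπ₀ a' ha')
    · exfalso
      rw [hπ₀' a' ha'] at h
      exact ha' (h ▸ (hπ₀ a ha).1)
    · exfalso
      rw [hπ₀' a ha] at h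
      exact ha (h ▸ (hπ₀ a' ha').1)
    · rw [hπ₀' a ha, hπ₀' a' ha'] at h
      exact h
  let π : Equiv.Perm Ω := Equiv.ofBijective π₀ (Finite.injective_iff_bijective.mp hinj)
  have hπ : ∀ a, π a = π₀ a := fun a => rfl
  -- equivariance
  have hequiv : ∀ g : G, ∀ a, (α g : Equiv.Perm Ω) (π a) = π ((g : Equiv.Perm Ω) a) := by
    intro g a
    by_cases ha : a ∈ Δ
    · have hga : (g : Equiv.Perm Ω) a ∈ Δ := hΔ g g.2 a ha
      have hb := hπ₀ a ha
      apply hRuniq ((g : Equiv.Perm Ω) a) _ _ _ (hπ₀ _ hga)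
      refine ⟨hΔ _ (α g).2 _ hb.1, fun s => ?_⟩
      have key := hb.2 (g⁻¹ * s * g)
      have e1 : ((g⁻¹ * s * g : G) : Equiv.Perm Ω) a = a ↔
          (s : Equiv.Perm Ω) ((g : Equiv.Perm Ω) a) = (g : Equiv.Perm Ω) a := by
        show (g : Equiv.Perm Ω)⁻¹ ((s : Equiv.Perm Ω) ((g : Equiv.Perm Ω) a)) = a ↔ _
        rw [Equiv.Perm.inv_eq_iff_eq]
      have e2 : ((α (g⁻¹ * s * g) : G) : Equiv.Perm Ω) (π₀ a) = π₀ a ↔
          (α s : Equiv.Perm Ω) ((α g : Equiv.Perm Ω) (π₀ a)) = (α g : Equiv.Perm Ω) (π₀ a) := by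
        rw [map_mul, map_mul, map_inv]
        show (α g : Equiv.Perm Ω)⁻¹ ((α s : Equiv.Perm Ω) ((α g : Equiv.Perm Ω) (π₀ a))) = π₀ a ↔ _
        rw [Equiv.Perm.inv_eq_iff_eq]
      rw [← e1, key, e2]
      rfl
    · rw [hπ, hπ₀' a ha, h1 _ g.2 a ha, hπ, hπ₀' a ha, h1 _ (α g).2 a ha]
  have hconj : ∀ g : G, (α g : Equiv.Perm Ω) = π * g * π⁻¹ := by
    intro g
    ext x
    have := hequiv g (π⁻¹ x)
    rw [show π (π⁻¹ x) = x from (Equiv.eq_symm_apply π).mp rfl] at this
    rw [this]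
    rfl
  exact ⟨π, fun x hx => by rw [hπ, hπ₀' x hx], hconj⟩

omit [DecidableEq Ω] in
/-- A subgroup `H` of the symmetric group preserving the finset `Y`, with `2 * |Y|!` dividing
`|H|`, contains an involution fixing `Y` pointwise. -/
theorem exists_involution_fixing (H : Subgroup (Equiv.Perm Ω)) (Y : Finset Ω)
    (hY : ∀ h ∈ H, ∀ y ∈ Y, h y ∈ Y) (hcard : 2 * Y.card.factorial ∣ Nat.card H) :
    ∃ t ∈ H, t ≠ 1 ∧ t * t = 1 ∧ ∀ y ∈ Y, t y = y := by
  classical
  have hiff : ∀ h : H, ∀ x, (h : Equiv.Perm Ω) x ∈ Y ↔ x ∈ Y := by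
    intro h x
    constructor
    · intro hx
      have := hY _ (H.inv_mem h.2) _ hx
      rwa [Equiv.Perm.inv_eq_iff_eq.mpr rfl] at this
    · exact hY h h.2 x
  let ρ : H →* Equiv.Perm {x // x ∈ Y} := MonoidHom.mk'
    (fun h => (h : Equiv.Perm Ω).subtypePerm (hiff h)) (by
      intro a b
      ext x
      rfl)
  have h1 := Subgroup.card_mul_index ρ.ker
  rw [Subgroup.index_ker] at h1
  have h2 : Nat.card ρ.range ∣ Y.card.factorial := by
    have := Subgroup.card_subgroup_dvd_card ρ.range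
    rw [Nat.card_perm] at this
    have hc : Nat.card {x // x ∈ Y} = Y.card := by
      rw [Nat.card_eq_fintype_card, Fintype.card_coe]
    rwa [hc] at this
  have hfin : Finite H := inferInstance
  have h3 : 2 ∣ Nat.card ρ.ker := by
    obtain ⟨r', hr'⟩ := h2
    obtain ⟨m, hm⟩ := hcard
    have hrpos : 0 < Nat.card ρ.range := Nat.card_pos
    have : Nat.card ρ.ker * Nat.card ρ.range = (2 * r' * m) * Nat.card ρ.range := by
      rw [h1, hm, hr']
      ring
    have := Nat.eq_of_mul_eq_mul_right hrpos this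
    rw [this]
    exact ⟨r' * m, by ring⟩
  have : Fact (Nat.Prime 2) := ⟨Nat.prime_two⟩
  obtain ⟨x, hx⟩ := exists_prime_orderOf_dvd_card' (G := ρ.ker) 2 h3
  have hx1 : x ≠ 1 := by
    intro h
    rw [h, orderOf_one] at hx
    norm_num at hx
  have hx2 : x * x = 1 := by
    have := pow_orderOf_eq_one x
    rwa [hx, pow_two] at this
  refine ⟨((x : H) : Equiv.Perm Ω), (x : H).2, ?_, ?_, ?_⟩
  · intro h
    apply hx1
    apply Subtype.ext
    apply Subtype.ext
    exact h
  · have := congrArg (fun y : ρ.ker => ((y : H) : Equiv.Perm Ω)) hx2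
    exact this
  · intro y hy
    have hker : ρ (x : H) = 1 := x.2
    have := congrArg (fun f : Equiv.Perm {x // x ∈ Y} => ((f ⟨y, hy⟩ : {x // x ∈ Y}) : Ω)) hker
    exact this

end Conj

end Cfsg.Agent.Lib.Helper35.PermAut2
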