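-- The automorphism group of M22 (helper35): a subgroup of index 22 of M22 fixes one of the 22
-- points (orbit counting with elements of order 7 and 5 and an involution), so automorphisms
-- are induced by permutations of the 22 points; such a permutation preserves the octads through
-- the two extra points, hence (duality of the code) it lies in M24 up to the transposition of
-- the two extra points.  Consequently every automorphism of M22 is conjugation by an element
-- of M24 fixing or swapping the two extra points.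
import Cfsg.Agent.Lib.Helper35.M23Aut
import Cfsg.Agent.Lib.Helper35.PermAut2

set_option autoImplicit false

namespace Cfsg.Agent.Lib.Helper35.M22Aut

open Cfsg Cfsg.Spor Cfsg.Agent.Lib.Helper7.GolayBase Cfsg.Agent.Lib.Helper7.GolayCode
  Cfsg.Agent.Lib.Helper7.M24Mem Cfsg.Agent.Lib.Helper7.GolayRigid
  Cfsg.Agent.Lib.Helper7.M24Main Cfsg.Agent.Lib.Helper7.M24Octad
  Cfsg.Agent.Lib.Helper7.M24Octad2 Cfsg.Agent.Lib.Helper35.PermAut
  Cfsg.Agent.Lib.Helper35.M24Fix Cfsg.Agent.Lib.Helper35.M24Aut
  Cfsg.Agent.Lib.Helper35.M23Aut Cfsg.Agent.Lib.Helper35.PermAut2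
open scoped Pointwise

theorem mem_M22 {g : Equiv.Perm GolayPt} :
    g ∈ M22 ↔ g ∈ M24 ∧ g none = none ∧ g (some 0) = some 0 := by
  unfold M22
  rw [Subgroup.mem_inf, MulAction.mem_stabilizer_iff, mem_M23]
  exact ⟨fun h => ⟨h.1.1, h.1.2, h.2⟩, fun h => ⟨⟨h.1, h.2.1⟩, h.2.2⟩⟩

theorem none_ne_zero : (none : GolayPt) ≠ some 0 := fun h => Option.some_ne_none _ h.symm

theorem card_M22 : Nat.card M22 = 443520 := by
  have h := card_eq_mul_orb M23 (some 0 : GolayPt)
  have horb : orb M23 (some 0 : GolayPt) = Finset.univ.erase none := by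
    ext b
    rw [mem_orb, Finset.mem_erase]
    constructor
    · rintro ⟨g, hg, rfl⟩
      refine ⟨fun h => ?_, Finset.mem_univ _⟩
      have h2 := (mem_M23.mp hg).2
      rw [← h2] at h
      exact none_ne_zero (g.injective h).symm
    · rintro ⟨hb, -⟩
      obtain ⟨g, hg, hgn, hgb⟩ := exists_map_pair (a := none) (b := some 0) (a' := none)
        (b' := b) none_ne_zero (Ne.symm hb)
      exact ⟨g, mem_M23.mpr ⟨hg, hgn⟩, hgb⟩
  rw [horb, Finset.card_erase_of_mem (Finset.mem_univ _), Finset.card_univ, card_golayPt,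
    card_M23] at h
  have : Nat.card M22 =
    Nat.card ↥(M23 ⊓ MulAction.stabilizer (Equiv.Perm GolayPt) (some 0 : GolayPt)) := rfl
  omega

/-- `M24` is 4-transitive. -/
theorem exists_map_quad {a b c d a' b' c' d' : GolayPt} (h : [a, b, c, d].Nodup)
    (h' : [a', b', c', d'].Nodup) :
    ∃ g ∈ M24, g a = a' ∧ g b = b' ∧ g c = c' ∧ g d = d' := by
  obtain ⟨g₁, hg₁, h₁⟩ := exists_map_base5 [a, b, c, d] h (by simp)
  obtain ⟨g₂, hg₂, h₂⟩ := exists_map_base5 [a', b', c', d'] h' (by simp)
  simp only [List.map_cons, List.map_nil, List.length_cons, List.length_nil, base5, List.take,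
    List.cons.injEq, and_true] at h₁ h₂
  refine ⟨g₂⁻¹ * g₁, M24.mul_mem (M24.inv_mem hg₂) hg₁, ?_, ?_, ?_, ?_⟩
  · show g₂⁻¹ (g₁ a) = a'
    rw [Equiv.Perm.inv_eq_iff_eq, h₁.1, h₂.1]
  · show g₂⁻¹ (g₁ b) = b'
    rw [Equiv.Perm.inv_eq_iff_eq, h₁.2.1, h₂.2.1]
  · show g₂⁻¹ (g₁ c) = c'
    rw [Equiv.Perm.inv_eq_iff_eq, h₁.2.2.1, h₂.2.2.1]
  · show g₂⁻¹ (g₁ d) = d'
    rw [Equiv.Perm.inv_eq_iff_eq, h₁.2.2.2, h₂.2.2.2]

/-- The 22 points. -/
def pts22 : Finset GolayPt := (Finset.univ.erase none).erase (some 0)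

theorem mem_pts22 {x : GolayPt} : x ∈ pts22 ↔ x ≠ none ∧ x ≠ some 0 := by
  unfold pts22
  rw [Finset.mem_erase, Finset.mem_erase]
  exact ⟨fun h => ⟨h.2.1, h.1⟩, fun h => ⟨h.2, h.1, Finset.mem_univ _⟩⟩

theorem card_pts22 : pts22.card = 22 := by
  unfold pts22
  rw [Finset.card_erase_of_mem (Finset.mem_erase.mpr ⟨none_ne_zero.symm, Finset.mem_univ _⟩),
    Finset.card_erase_of_mem (Finset.mem_univ _), Finset.card_univ, card_golayPt]

/-- Every subgroup of index 22 of `M22` fixes one of the 22 points. -/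
theorem index22_fix (H : Subgroup (Equiv.Perm GolayPt)) (hH : H ≤ M22)
    (hcard : Nat.card H = 20160) : ∃ a ∈ pts22, ∀ h ∈ H, h a = a := by
  have : Fact (Nat.Prime 7) := ⟨by norm_num⟩
  have : Fact (Nat.Prime 5) := ⟨by norm_num⟩
  have hHM : H ≤ M24 := fun h hh => (mem_M22.mp (hH hh)).1
  have hHnone : ∀ h ∈ H, h none = none := fun h hh => (mem_M22.mp (hH hh)).2.1
  have hHz : ∀ h ∈ H, h (some 0) = some 0 := fun h hh => (mem_M22.mp (hH hh)).2.2
  obtain ⟨g7, hg7H, hg7⟩ := exists_order H 7 (by rw [hcard]; norm_num)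
  obtain ⟨g5, hg5H, hg5⟩ := exists_order H 5 (by rw [hcard]; norm_num)
  have hF7 := card_fixedPts_7 (hHM hg7H) hg7
  have hF5 := card_fixedPts_5 (hHM hg5H) hg5
  have hnz := none_ne_zero
  obtain ⟨a, haS, hg7a⟩ := fixed_exists g7 {none, some 0}
    (by rw [hF7, Finset.card_pair hnz]; norm_num)
  rw [Finset.mem_insert, Finset.mem_singleton, not_or] at haS
  have hfix7 : ∀ y, g7 y = y → y ∈ ({none, some 0, a} : Finset GolayPt) :=
    fixed_subset g7 {none, some 0, a} (by
      intro z hz
      rw [Finset.mem_insert, Finset.mem_insert, Finset.mem_singleton] at hz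
      rcases hz with rfl | rfl | rfl
      · exact hHnone _ hg7H
      · exact hHz _ hg7H
      · exact hg7a) (by
      rw [hF7, Finset.card_insert_of_notMem (by
        rw [Finset.mem_insert, Finset.mem_singleton, not_or]
        exact ⟨hnz, Ne.symm haS.1⟩), Finset.card_pair (Ne.symm haS.2)])
  have hnone : none ∉ orb H a := notMem_orb_of_fixed hHnone (Ne.symm haS.1)
  have hz : (some 0 : GolayPt) ∉ orb H a := notMem_orb_of_fixed hHz (Ne.symm haS.2)
  have hmod := orb_card_mod_one (K := H) (x := a) hg7H hg7 hg7a (fun y hy hgy => by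
    have := hfix7 y hgy
    rw [Finset.mem_insert, Finset.mem_insert, Finset.mem_singleton] at this
    rcases this with rfl | rfl | rfl
    · exact absurd hy hnone
    · exact absurd hy hz
    · rfl)
  have hsub : orb H a ⊆ pts22 := by
    intro y hy
    rw [mem_pts22]
    exact ⟨fun h => hnone (h ▸ hy), fun h => hz (h ▸ hy)⟩
  have hle : (orb H a).card ≤ 22 := by
    have := Finset.card_le_card hsub
    rwa [card_pts22] at this
  have hpos := orb_card_pos H a
  have hcases : (orb H a).card = 1 ∨ (orb H a).card = 8 ∨ (orb H a).card = 15 ∨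
      (orb H a).card = 22 := by omega
  rcases hcases with h1 | h8 | h15 | h22
  · refine ⟨a, mem_pts22.mpr haS, fun h hh => ?_⟩
    obtain ⟨w, hw⟩ := Finset.card_eq_one.mp h1
    have e1 : a ∈ orb H a := self_mem_orb H a
    have e2 : h a ∈ orb H a := apply_mem_orb e1 hh
    rw [hw, Finset.mem_singleton] at e1 e2
    rw [e2, e1]
  · exfalso
    have h5 := card_fixed_modEq g5 (p := 5) (n := 1)
      (by rw [pow_one, ← hg5, pow_orderOf_eq_one]) (orb H a) (fun y hy => apply_mem_orb hy hg5H)
    set F := (orb H a).filter (fun y => g5 y = y) with hF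
    have hFsub : insert none (insert (some 0) F) ⊆ fixedPts g5 := by
      intro y hy
      rw [Finset.mem_insert, Finset.mem_insert] at hy
      rcases hy with rfl | rfl | hy
      · exact mem_fixedPts.mpr (hHnone _ hg5H)
      · exact mem_fixedPts.mpr (hHz _ hg5H)
      · exact mem_fixedPts.mpr (Finset.mem_filter.mp hy).2
    have hzF : (some 0 : GolayPt) ∉ F := fun h => hz (Finset.mem_filter.mp h).1
    have hnF : (none : GolayPt) ∉ insert (some 0) F := by
      rw [Finset.mem_insert, not_or]
      exact ⟨hnz, fun h => hnone (Finset.mem_filter.mp h).1⟩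
    have hc := Finset.card_le_card hFsub
    rw [Finset.card_insert_of_notMem hnF, Finset.card_insert_of_notMem hzF, hF5] at hc
    rw [h8] at h5
    have : 8 % 5 = F.card % 5 := h5
    omega
  · exfalso
    set Y := pts22 \ orb H a with hYdef
    have hYcard : Y.card = 7 := by
      rw [hYdef, Finset.card_sdiff_of_subset hsub, card_pts22, h15]
    have hY : ∀ h ∈ H, ∀ y ∈ Y, h y ∈ Y := by
      intro h hh y hy
      rw [hYdef, Finset.mem_sdiff, mem_pts22] at hy ⊢
      refine ⟨⟨fun e => hy.1.1 ?_, fun e => hy.1.2 ?_⟩, fun e => hy.2 ?_⟩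
      · exact h.injective (by rw [e, hHnone h hh])
      · exact h.injective (by rw [e, hHz h hh])
      · have := apply_mem_orb e (H.inv_mem hh)
        rwa [Equiv.Perm.inv_eq_iff_eq.mpr rfl] at this
    obtain ⟨t, htH, ht1, ht2, htY⟩ := exists_involution_fixing H Y hY (by
      rw [hYcard, hcard]; decide)
    set F := insert none (insert (some 0) Y) with hFdef
    have hFfix : ∀ y ∈ F, t y = y := by
      intro y hy
      rw [hFdef, Finset.mem_insert, Finset.mem_insert] at hy
      rcases hy with rfl | rfl | hy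
      · exact hHnone _ htH
      · exact hHz _ htH
      · exact htY y hy
    have hzY : (some 0 : GolayPt) ∉ Y := fun h =>
      (mem_pts22.mp (Finset.mem_sdiff.mp h).1).2 rfl
    have hnY : (none : GolayPt) ∉ insert (some 0) Y := by
      rw [Finset.mem_insert, not_or]
      exact ⟨hnz, fun h => (mem_pts22.mp (Finset.mem_sdiff.mp h).1).1 rfl⟩
    have hFcard : F.card = 9 := by
      rw [hFdef, Finset.card_insert_of_notMem hnY, Finset.card_insert_of_notMem hzY, hYcard]
    obtain ⟨s, hsF, hs⟩ := Finset.exists_subset_card_eq (s := F) (n := 5) (by omega)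
    obtain ⟨o, ho, hso⟩ := exists_octad_of_five s hs
    obtain ⟨x, hxF, hxo⟩ := Finset.exists_mem_notMem_of_card_lt_card
      (s := o) (t := F) (by rw [ho.2, hFcard]; norm_num)
    exact ht1 (inv_eq_one_of_fix (hHM htH) ht2 s hs ho hso (fun z hz => hFfix z (hsF hz)) hxo
      (hFfix x hxF))
  · exfalso
    have hK := card_eq_mul_orb H a
    rw [hcard, h22] at hK
    omega

/-- The parity of the intersection is additive. -/
theorem popc_and_xor (m a b : Nat) :
    popc (m &&& (a ^^^ b)) % 2 = (popc (m &&& a) + popc (m &&& b)) % 2 := by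
  rw [Nat.and_xor_distrib_left]
  have := card_symmDiff_mk (m &&& a) (m &&& b)
  omega

theorem low_zero_aux : (List.range 4096).all
    (fun r => r == 0 || echelon.any (fun e => popc (r &&& e) % 2 == 1)) = true := by
  decide +kernel

theorem low_zero {r : Nat} (hr : r < 4096) (h : ∀ e ∈ echelon, popc (r &&& e) % 2 = 0) :
    r = 0 := by
  have := List.all_eq_true.mp low_zero_aux r (List.mem_range.mpr hr)
  rw [Bool.or_eq_true, beq_iff_eq, List.any_eq_true] at this
  rcases this with h0 | ⟨e, he, h1⟩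
  · exact h0
  · rw [beq_iff_eq] at h1
    have := h e he
    omega

theorem reduce_low_aux : (List.range 4096).all
    (fun h => decide (reduce echelon (h * 4096) < 4096)) = true := by
  decide +kernel

theorem reduce_low {h : Nat} (hh : h < 4096) : reduce echelon (h * 4096) < 4096 := by
  have := List.all_eq_true.mp reduce_low_aux h (List.mem_range.mpr hh)
  exact of_decide_eq_true this

/-- The code is its own dual: a mask meeting every word of the echelon basis evenly is in the
code. -/
theorem mem_codeList_of_orth {m : Nat} (hm : m < 2 ^ 24)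
    (h : ∀ e ∈ echelon, popc (m &&& e) % 2 = 0) : m ∈ codeList := by
  have hh_lt : m / 4096 < 4096 := by omega
  have hr := reduce_low hh_lt
  have hc : (m / 4096 * 4096) ^^^ reduce echelon (m / 4096 * 4096) ∈ codeList :=
    spanList_subset echelon_mem_codeList _ (reduce_xor_mem echelon (m / 4096 * 4096))
  set c := (m / 4096 * 4096) ^^^ reduce echelon (m / 4096 * 4096) with hcdef
  have hlow : (m ^^^ c) / 4096 = 0 := by
    have e : ∀ x : Nat, x / 4096 = x >>> 12 := fun x => by rw [Nat.shiftRight_eq_div_pow]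
    rw [e, hcdef, Nat.shiftRight_xor_distrib, Nat.shiftRight_xor_distrib, ← e, ← e, ← e,
      Nat.mul_div_cancel _ (by norm_num), Nat.div_eq_of_lt hr, Nat.xor_zero, Nat.xor_self]
  have hlow' : m ^^^ c < 4096 := by omega
  have horth : ∀ e ∈ echelon, popc ((m ^^^ c) &&& e) % 2 = 0 := by
    intro e he
    rw [Nat.and_comm, popc_and_xor, Nat.and_comm e m, Nat.and_comm e c]
    have h1 := h e he
    have h2 := Cfsg.Agent.Lib.Helper7.GolayCount.even_popc_and hc (echelon_mem_codeList e he)
    omega
  have h0 := low_zero hlow' horth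
  rw [Nat.xor_eq_zero_iff] at h0
  rw [h0]
  exact hc

/-- Eleven octads through the two extra points spanning the words of the code which contain
both or none of them. -/
def DL : List Nat :=
  [8391797, 8398155, 8412681, 8421811, 8471941, 8524371, 8657159, 8922769, 9440193, 10486557,
   12587685]

theorem DL_octads : ∀ d ∈ DL, d ∈ octadList ∧ d.testBit 23 = true ∧ d.testBit 0 = true ∧
    popc (d &&& 8388609) = 2 := by
  intro d hd
  have h : DL.all (fun e => inCode e && (popc e == 8) && e.testBit 23 && e.testBit 0 &&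
      (popc (e &&& 8388609) == 2)) = true := by
    decide +kernel
  have := List.all_eq_true.mp h d hd
  simp only [Bool.and_eq_true, beq_iff_eq] at this
  exact ⟨mem_octadList.mpr ⟨inCode_sound this.1.1.1.1, this.1.1.1.2⟩, this.1.1.2, this.1.2, this.2⟩

theorem echelon_sub_DL : ∀ e ∈ echelon, e ∈ spanList (4196943 :: DL) := by
  intro e he
  have h : echelon.all (fun e => (spanList (4196943 :: DL)).contains e) = true := by
    decide +kernel
  have := List.all_eq_true.mp h e he
  simpa using this

/-- A mask meeting the octads through the two extra points evenly lies in the code, up to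
switching the two extra points. -/
theorem mem_codeList_or_of_orth {m : Nat} (hm : m < 2 ^ 24)
    (h : ∀ d ∈ DL, popc (m &&& d) % 2 = 0) : m ∈ codeList ∨ m ^^^ 8388609 ∈ codeList := by
  have key : ∀ m', m' < 2 ^ 24 → (∀ d ∈ DL, popc (m' &&& d) % 2 = 0) →
      popc (m' &&& 4196943) % 2 = 0 → m' ∈ codeList := by
    intro m' hm' hd hu
    apply mem_codeList_of_orth hm'
    intro e he
    have hall : ∀ c ∈ spanList (4196943 :: DL), popc (m' &&& c) % 2 = 0 := by
      apply spanList_induction
      · rw [Nat.and_zero]; rfl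
      · intro a b ha hb
        rw [popc_and_xor]; omega
      · intro b hb
        rcases List.mem_cons.mp hb with rfl | hb
        · exact hu
        · exact hd b hb
    exact hall e (echelon_sub_DL e he)
  by_cases hu : popc (m &&& 4196943) % 2 = 0
  · exact Or.inl (key m hm h hu)
  · right
    apply key
    · exact Nat.xor_lt_two_pow hm (by norm_num)
    · intro d hd
      rw [Nat.and_comm, popc_and_xor, Nat.and_comm d m]
      have h1 := h d hd
      have h2 := (DL_octads d hd).2.2.2
      omega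
    · rw [Nat.and_comm, popc_and_xor, Nat.and_comm 4196943 m]
      have : popc (4196943 &&& 8388609) = 1 := by decide
      omega

theorem mk_pair : mk 8388609 = {none, some 0} := by decide +kernel

/-- A set meeting the octads through the two extra points evenly is a code word, up to
switching the two extra points. -/
theorem code_or_of_even (w : Finset GolayPt)
    (h : ∀ d ∈ octads, none ∈ d → some 0 ∈ d → (w ∩ d).card % 2 = 0) :
    (∃ c ∈ codeList, mk c = w) ∨ (∃ c ∈ codeList, mk c = symmDiff w {none, some 0}) := by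
  have hm := maskOf_lt w
  have horth : ∀ d ∈ DL, popc (maskOf w &&& d) % 2 = 0 := by
    intro d hd
    obtain ⟨hdo, h23, h0, -⟩ := DL_octads d hd
    rw [← card_mk, mk_and, mk_maskOf]
    exact h (mk d) ((mem_octads_iff _).mpr ⟨d, hdo, rfl⟩) (mem_mk.mpr h23) (mem_mk.mpr h0)
  rcases mem_codeList_or_of_orth hm horth with h1 | h1
  · exact Or.inl ⟨_, h1, mk_maskOf w⟩
  · exact Or.inr ⟨_, h1, by rw [mk_xor, mk_maskOf, mk_pair]⟩

/-- Conjugation-invariance of `M22` forces the octads through the two extra points to be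
mapped to octads. -/
theorem smul_octad_of_conj (π : Equiv.Perm GolayPt) (hπ : ∀ g ∈ M22, π * g * π⁻¹ ∈ M22)
    {o : Finset GolayPt} (ho : o ∈ octads) (hno : none ∈ o) (hzo : some 0 ∈ o) :
    π • o ∈ octads := by
  have h6 : ((o.erase none).erase (some 0)).card = 6 := by
    rw [Finset.card_erase_of_mem (Finset.mem_erase.mpr ⟨none_ne_zero.symm, hzo⟩),
      Finset.card_erase_of_mem hno, ho.2]
  obtain ⟨s₀, hs₀, hs₀card⟩ := Finset.exists_subset_card_eq
    (s := (o.erase none).erase (some 0)) (n := 3) (by omega)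
  have hz₀ : (some 0 : GolayPt) ∉ s₀ := fun h => (Finset.mem_erase.mp (hs₀ h)).1 rfl
  have hnone₀ : (none : GolayPt) ∉ insert (some 0) s₀ := by
    rw [Finset.mem_insert, not_or]
    exact ⟨none_ne_zero, fun h => (Finset.mem_erase.mp (Finset.mem_erase.mp (hs₀ h)).2).1 rfl⟩
  set s := insert (none : GolayPt) (insert (some 0) s₀) with hsdef
  have hs : s.card = 5 := by
    rw [hsdef, Finset.card_insert_of_notMem hnone₀, Finset.card_insert_of_notMem hz₀, hs₀card]
  have hso : s ⊆ o := by
    intro z hz'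
    rw [hsdef, Finset.mem_insert, Finset.mem_insert] at hz'
    rcases hz' with rfl | rfl | hz'
    · exact hno
    · exact hzo
    · exact (Finset.mem_erase.mp (Finset.mem_erase.mp (hs₀ hz')).2).2
  have hs' : (π • s).card = 5 := by rw [Finset.card_smul_finset, hs]
  obtain ⟨o', ho', hso'⟩ := exists_octad_of_five (π • s) hs'
  have hsub : π • o ⊆ o' := by
    intro w hw
    obtain ⟨z, hz', rfl⟩ := Finset.mem_smul_finset.mp hw
    obtain ⟨t, ht, ht1, ht2, hts, htz⟩ := (mem_octad_iff_exists_inv s hs ho hso z).mp hz'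
    have ht22 : t ∈ M22 := mem_M22.mpr ⟨ht,
      hts none (by rw [hsdef]; exact Finset.mem_insert_self _ _),
      hts (some 0) (by
        rw [hsdef]; exact Finset.mem_insert_of_mem (Finset.mem_insert_self _ _))⟩
    apply (mem_octad_iff_exists_inv (π • s) hs' ho' hso' (π • z)).mpr
    have hconj : ∀ u, t u = u → (π * t * π⁻¹) (π u) = π u := by
      intro u hu
      show π (t (π⁻¹ (π u))) = π u
      rw [Equiv.Perm.inv_eq_iff_eq.mpr rfl, hu]
    refine ⟨π * t * π⁻¹, (mem_M22.mp (hπ t ht22)).1, ?_, ?_, ?_, hconj z htz⟩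
    · intro h
      apply ht1
      have : t = π⁻¹ * (π * t * π⁻¹) * π := by group
      rw [this, h]
      group
    · calc π * t * π⁻¹ * (π * t * π⁻¹) = π * (t * t) * π⁻¹ := by group
        _ = 1 := by rw [ht2]; group
    · intro w hw
      obtain ⟨z', hz'', rfl⟩ := Finset.mem_smul_finset.mp hw
      exact hconj z' (hts z' hz'')
  have : π • o = o' := Finset.eq_of_subset_of_card_le hsub
    (by rw [ho'.2, Finset.card_smul_finset, ho.2])
  rw [this]
  exact ho'

theorem swap_smul (w : Finset GolayPt) (hn : none ∈ w) (hz : some 0 ∉ w) :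
    Equiv.swap (none : GolayPt) (some 0) • w = symmDiff w {none, some 0} := by
  ext x
  rw [← Finset.inv_smul_mem_iff, Equiv.swap_inv, Equiv.Perm.smul_def, Finset.mem_symmDiff,
    Finset.mem_insert, Finset.mem_singleton]
  by_cases h1 : x = none
  · subst h1
    rw [Equiv.swap_apply_left]
    simp [hn, hz]
  · by_cases h2 : x = some 0
    · subst h2
      rw [Equiv.swap_apply_right]
      simp [hn, hz]
    · rw [Equiv.swap_apply_of_ne_of_ne h1 h2]
      simp [h1, h2]

theorem swap_smul' (w : Finset GolayPt) (hn : none ∈ w) (hz : some 0 ∈ w) :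
    Equiv.swap (none : GolayPt) (some 0) • w = w := by
  ext x
  rw [← Finset.inv_smul_mem_iff, Equiv.swap_inv, Equiv.Perm.smul_def]
  by_cases h1 : x = none
  · subst h1
    rw [Equiv.swap_apply_left]
    simp [hn, hz]
  · by_cases h2 : x = some 0
    · subst h2
      rw [Equiv.swap_apply_right]
      simp [hn, hz]
    · rw [Equiv.swap_apply_of_ne_of_ne h1 h2]

/-- A permutation of the 22 points normalising `M22` lies in `M24`, up to the transposition of
the two extra points. -/
theorem normalizer_M22 (π : Equiv.Perm GolayPt) (hnone : π none = none)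
    (hz : π (some 0) = some 0) (hπ : ∀ g ∈ M22, π * g * π⁻¹ ∈ M22)
    (hπ' : ∀ g ∈ M22, π⁻¹ * g * π ∈ M22) :
    π ∈ M24 ∨ Equiv.swap none (some 0) * π ∈ M24 := by
  set σ := Equiv.swap (none : GolayPt) (some 0) * π with hσ
  have hinv : ∀ d ∈ octads, none ∈ d → some 0 ∈ d → π⁻¹ • d ∈ octads := by
    intro d hd h1 h2
    exact smul_octad_of_conj π⁻¹ (by intro g hg; rw [inv_inv]; exact hπ' g hg) hd h1 h2
  have hmem : ∀ u : Finset GolayPt, none ∈ u → none ∈ π • u :=
    fun u hu => Finset.mem_smul_finset.mpr ⟨none, hu, hnone⟩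
  have hmemz : ∀ u : Finset GolayPt, some 0 ∈ u → some 0 ∈ π • u :=
    fun u hu => Finset.mem_smul_finset.mpr ⟨some 0, hu, hz⟩
  have hnmem : ∀ u : Finset GolayPt, some 0 ∉ u → some 0 ∉ π • u := by
    intro u hu h
    obtain ⟨y, hy, hy'⟩ := Finset.mem_smul_finset.mp h
    have : y = some 0 := π.injective (by rw [hz]; exact hy')
    exact hu (this ▸ hy)
  have hoct : ∀ w : Finset GolayPt, w.card = 8 → (∃ c ∈ codeList, mk c = w) → w ∈ octads := by
    rintro w hw ⟨c, hc, rfl⟩
    exact (mem_octads_iff _).mpr ⟨c, mem_octadList.mpr ⟨hc, by rw [← card_mk]; exact hw⟩, rfl⟩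
  have hσu : ∀ u : Finset GolayPt, none ∈ u → some 0 ∉ u →
      σ • u = symmDiff (π • u) {none, some 0} := by
    intro u h1 h2
    rw [hσ, mul_smul, swap_smul _ (hmem u h1) (hnmem u h2)]
  have hσu' : ∀ u : Finset GolayPt, none ∈ u → some 0 ∈ u → σ • u = π • u := by
    intro u h1 h2
    rw [hσ, mul_smul, swap_smul' _ (hmem u h1) (hmemz u h2)]
  have hb : ∀ u ∈ octads, none ∈ u → some 0 ∉ u → π • u ∈ octads ∨ σ • u ∈ octads := by
    intro u hu h1 h2
    have hcard : (π • u).card = 8 := by rw [Finset.card_smul_finset, hu.2]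
    have heven : ∀ d ∈ octads, none ∈ d → some 0 ∈ d → (π • u ∩ d).card % 2 = 0 := by
      intro d hd hd1 hd2
      have : π • u ∩ d = π • (u ∩ π⁻¹ • d) := by
        rw [Finset.smul_finset_inter, smul_inv_smul]
      rw [this, Finset.card_smul_finset]
      exact even_card_inter_octads hu (hinv d hd hd1 hd2)
    rcases code_or_of_even (π • u) heven with hc | hc
    · exact Or.inl (hoct _ hcard hc)
    · right
      rw [hσu u h1 h2]
      apply hoct _ _ hc
      rw [← hσu u h1 h2, Finset.card_smul_finset, hu.2]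
  by_cases hall : ∀ u ∈ octads, none ∈ u → π • u ∈ octads
  · exact Or.inl (mem_M24_of_octads_none π hall)
  · right
    push Not at hall
    obtain ⟨u₁, hu₁, hn₁, hπu₁⟩ := hall
    have hz₁ : some 0 ∉ u₁ := fun h => hπu₁ (smul_octad_of_conj π hπ hu₁ hn₁ h)
    have hσu₁ : σ • u₁ ∈ octads := (hb u₁ hu₁ hn₁ hz₁).resolve_left hπu₁
    apply mem_M24_of_octads_none
    intro u₂ hu₂ hn₂
    by_cases hz₂ : some 0 ∈ u₂
    · rw [hσu' u₂ hn₂ hz₂]
      exact smul_octad_of_conj π hπ hu₂ hn₂ hz₂
    · rcases hb u₂ hu₂ hn₂ hz₂ with h | h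
      · exfalso
        have hev := even_card_inter_octads hσu₁ h
        rw [hσu u₁ hn₁ hz₁] at hev
        have hA := hnmem u₁ hz₁
        have hB := hnmem u₂ hz₂
        have hC := hmem u₁ hn₁
        have hD := hmem u₂ hn₂
        have hinter : symmDiff (π • u₁) {none, some 0} ∩ π • u₂ =
            (π • (u₁ ∩ u₂)).erase none := by
          ext x
          rw [Finset.mem_inter, Finset.mem_symmDiff, Finset.mem_erase, Finset.smul_finset_inter,
            Finset.mem_inter, Finset.mem_insert, Finset.mem_singleton]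
          by_cases h1 : x = none
          · subst h1; simp [hC]
          · by_cases h2 : x = some 0
            · subst h2; simp [hA, hB]
            · simp [h1, h2]
        rw [hinter, Finset.card_erase_of_mem (by
          rw [Finset.smul_finset_inter]; exact Finset.mem_inter.mpr ⟨hC, hD⟩),
          Finset.card_smul_finset] at hev
        have h1 := even_card_inter_octads hu₁ hu₂
        have h2 : 0 < (u₁ ∩ u₂).card :=
          Finset.card_pos.mpr ⟨none, Finset.mem_inter.mpr ⟨hn₁, hn₂⟩⟩
        omega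
      · exact h

/-- `M22` is transitive on the 22 points. -/
theorem exists_map_pts22 {a b : GolayPt} (ha : a ∈ pts22) (hb : b ∈ pts22) :
    ∃ g ∈ M22, g a = b := by
  rw [mem_pts22] at ha hb
  obtain ⟨g, hg, hgn, hgz, hga⟩ := exists_map_triple (a := none) (b := some 0) (c := a)
    (a' := none) (b' := some 0) (c' := b) none_ne_zero (Ne.symm ha.1) (Ne.symm ha.2)
    none_ne_zero (Ne.symm hb.1) (Ne.symm hb.2)
  exact ⟨g, mem_M22.mpr ⟨hg, hgn, hgz⟩, hga⟩

/-- The stabiliser in `M22` of a point moves every other point of the 22. -/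
theorem exists_fix_move {a b : GolayPt} (ha : a ∈ pts22) (hb : b ∈ pts22) (hab : a ≠ b) :
    ∃ g ∈ M22, g a = a ∧ g b ≠ b := by
  rw [mem_pts22] at ha hb
  obtain ⟨c, hc⟩ := exists_notMem_of_card_lt ({none, some 0, a, b} : Finset GolayPt)
    (lt_of_le_of_lt (Finset.card_le_four) (by norm_num))
  rw [Finset.mem_insert, Finset.mem_insert, Finset.mem_insert, Finset.mem_singleton, not_or,
    not_or, not_or] at hc
  obtain ⟨g, hg, hgn, hgz, hga, hgb⟩ := exists_map_quad (a := none) (b := some 0) (c := a)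
    (d := b) (a' := none) (b' := some 0) (c' := a) (d' := c)
    (by simp [none_ne_zero, Ne.symm ha.1, Ne.symm ha.2, Ne.symm hb.1, Ne.symm hb.2, hab])
    (by
      simp [none_ne_zero, Ne.symm ha.1, Ne.symm ha.2]
      exact ⟨fun h => hc.1 h.symm, fun h => hc.2.1 h.symm, fun h => hc.2.2.1 h.symm⟩)
  exact ⟨g, mem_M22.mpr ⟨hg, hgn, hgz⟩, hga, by rw [hgb]; exact hc.2.2.2⟩

/-- Every automorphism of `M22` is conjugation by an element of `M24` fixing or swapping the
two extra points. -/
theorem aut_M22 (α : MulAut M22) : ∃ ρ ∈ M24,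
    (∀ g : M22, (α g : Equiv.Perm GolayPt) = ρ * g * ρ⁻¹) ∧
    ((ρ none = none ∧ ρ (some 0) = some 0) ∨ (ρ none = some 0 ∧ ρ (some 0) = none)) := by
  obtain ⟨π, hπΔ, hπ⟩ := aut_conj M22 pts22
    (by
      intro g hg x hx
      rw [mem_pts22] at hx
      have hg' := mem_M22.mp hg
      by_cases h1 : x = none
      · rw [h1]; exact hg'.2.1
      · by_cases h2 : x = some 0
        · rw [h2]; exact hg'.2.2
        · exact absurd ⟨h1, h2⟩ hx)
    (fun a ha b hb => exists_map_pts22 ha hb)
    (fun a ha b hb hab => exists_fix_move ha hb hab)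
    (by
      intro H hH hcard
      rw [card_M22, card_pts22] at hcard
      exact index22_fix H hH (by omega))
    α
  have hnone : π none = none := hπΔ none (by rw [mem_pts22]; simp)
  have hz : π (some 0) = some 0 := hπΔ (some 0) (by rw [mem_pts22]; simp)
  have hc : ∀ g ∈ M22, π * g * π⁻¹ ∈ M22 := by
    intro g hg
    have := hπ ⟨g, hg⟩
    rw [← this]
    exact (α ⟨g, hg⟩).2
  have hc' : ∀ g ∈ M22, π⁻¹ * g * π ∈ M22 := by
    intro g hg
    have h := hπ (α.symm ⟨g, hg⟩)
    rw [MulEquiv.apply_symm_apply] at h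
    have h' : g = π * (α.symm ⟨g, hg⟩ : Equiv.Perm GolayPt) * π⁻¹ := h
    have : π⁻¹ * g * π = (α.symm ⟨g, hg⟩ : Equiv.Perm GolayPt) := by
      nth_rewrite 1 [h']
      group
    rw [this]
    exact (α.symm ⟨g, hg⟩).2
  rcases normalizer_M22 π hnone hz hc hc' with h | h
  · exact ⟨π, h, hπ, Or.inl ⟨hnone, hz⟩⟩
  · refine ⟨Equiv.swap none (some 0) * π, h, ?_, Or.inr ⟨?_, ?_⟩⟩
    · intro g
      have hcomm : Equiv.swap (none : GolayPt) (some 0) * (α g : Equiv.Perm GolayPt) =
          (α g : Equiv.Perm GolayPt) * Equiv.swap none (some 0) := by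
        have h1 := (mem_M22.mp (α g).2).2
        rw [Equiv.mul_swap_eq_swap_mul, h1.1, h1.2]
      calc (α g : Equiv.Perm GolayPt)
          = Equiv.swap (none : GolayPt) (some 0) * (α g : Equiv.Perm GolayPt) *
              (Equiv.swap (none : GolayPt) (some 0))⁻¹ := by rw [hcomm]; group
        _ = Equiv.swap (none : GolayPt) (some 0) * π * g *
              (Equiv.swap (none : GolayPt) (some 0) * π)⁻¹ := by rw [hπ g]; group
    · show Equiv.swap none (some 0) (π none) = some 0
      rw [hnone, Equiv.swap_apply_left]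
    · show Equiv.swap none (some 0) (π (some 0)) = none
      rw [hz, Equiv.swap_apply_right]

/-- Conjugation by an element normalising a subgroup, as an automorphism of the subgroup. -/
def conjAut {P : Type*} [Group P] (G : Subgroup P) (τ : P) (h1 : ∀ g ∈ G, τ * g * τ⁻¹ ∈ G)
    (h2 : ∀ g ∈ G, τ⁻¹ * g * τ ∈ G) : MulAut G where
  toFun g := ⟨τ * g * τ⁻¹, h1 g g.2⟩
  invFun g := ⟨τ⁻¹ * g * τ, h2 g g.2⟩
  left_inv g := by apply Subtype.ext; simp [mul_assoc]
  right_inv g := by apply Subtype.ext; simp [mul_assoc]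
  map_mul' a b := by apply Subtype.ext; simp [mul_assoc]

theorem conjAut_apply {P : Type*} [Group P] (G : Subgroup P) (τ : P)
    (h1 : ∀ g ∈ G, τ * g * τ⁻¹ ∈ G) (h2 : ∀ g ∈ G, τ⁻¹ * g * τ ∈ G) (g : G) :
    ((conjAut G τ h1 h2 g : G) : P) = τ * g * τ⁻¹ := rfl

/-- An element of `M24` swapping the two extra points normalises `M22`. -/
theorem swap_normalizes {τ : Equiv.Perm GolayPt} (hτ : τ ∈ M24) (hτn : τ none = some 0)
    (hτz : τ (some 0) = none) : (∀ g ∈ M22, τ * g * τ⁻¹ ∈ M22) ∧ ∀ g ∈ M22, τ⁻¹ * g * τ ∈ M22 := by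
  have hτn' : τ⁻¹ none = some 0 := by rw [Equiv.Perm.inv_eq_iff_eq, hτz]
  have hτz' : τ⁻¹ (some 0) = none := by rw [Equiv.Perm.inv_eq_iff_eq, hτn]
  constructor
  · intro g hg
    obtain ⟨hg1, hg2, hg3⟩ := mem_M22.mp hg
    refine mem_M22.mpr ⟨M24.mul_mem (M24.mul_mem hτ hg1) (M24.inv_mem hτ), ?_, ?_⟩
    · show τ (g (τ⁻¹ none)) = none
      rw [hτn', hg3, hτz]
    · show τ (g (τ⁻¹ (some 0))) = some 0
      rw [hτz', hg2, hτn]
  · intro g hg
    obtain ⟨hg1, hg2, hg3⟩ := mem_M22.mp hg
    refine mem_M22.mpr ⟨M24.mul_mem (M24.mul_mem (M24.inv_mem hτ) hg1) hτ, ?_, ?_⟩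
    · show τ⁻¹ (g (τ none)) = none
      rw [hτn, hg3, hτz']
    · show τ⁻¹ (g (τ (some 0))) = some 0
      rw [hτz, hg2, hτn']

/-- No element of `M24` swapping the two extra points centralises `M22`. -/
theorem not_centralize_swap {z : Equiv.Perm GolayPt} (hzM : z ∈ M24) (hzn : z none = some 0)
    (hzz : z (some 0) = none) (hcomm : ∀ g ∈ M22, z * g = g * z) : False := by
  have hzfix : ∀ a ∈ pts22, z a = a := by
    intro a ha
    by_contra hne
    have hza : z a ∈ pts22 := by
      rw [mem_pts22] at ha ⊢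
      constructor
      · intro h; rw [← hzz] at h; exact ha.2 (z.injective h)
      · intro h; rw [← hzn] at h; exact ha.1 (z.injective h)
    obtain ⟨g, hg, hga, hgza⟩ := exists_fix_move ha hza (Ne.symm hne)
    have e : z (g a) = g (z a) := congrArg (fun f : Equiv.Perm GolayPt => f a) (hcomm g hg)
    rw [hga] at e
    exact hgza e.symm
  have hz2 : z * z = 1 := by
    apply Equiv.ext
    intro x
    show z (z x) = x
    by_cases hx : x ∈ pts22
    · rw [hzfix x hx, hzfix x hx]
    · rw [mem_pts22] at hx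
      have : x = none ∨ x = some 0 := by
        by_contra hcon
        push Not at hcon
        exact hx hcon
      rcases this with rfl | rfl
      · rw [hzn, hzz]
      · rw [hzz, hzn]
  obtain ⟨s, hsF, hs⟩ := Finset.exists_subset_card_eq (s := pts22) (n := 5)
    (by rw [card_pts22]; norm_num)
  obtain ⟨o, ho, hso⟩ := exists_octad_of_five s hs
  obtain ⟨x, hxF, hxo⟩ := Finset.exists_mem_notMem_of_card_lt_card (s := o) (t := pts22)
    (by rw [ho.2, card_pts22]; norm_num)
  have hz1 := inv_eq_one_of_fix hzM hz2 s hs ho hso (fun y hy => hzfix y (hsF hy)) hxo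
    (hzfix x hxF)
  rw [hz1] at hzn
  exact none_ne_zero hzn

end Cfsg.Agent.Lib.Helper35.M22Aut
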