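-- Permutation-group tools, part 3 (helper35): automorphisms of a (possibly intransitive)
-- permutation group which map point stabilisers to point stabilisers are conjugations by
-- permutations; orbit-stabiliser for an arbitrary action of a subgroup; a Burnside-type
-- inequality bounding the order of a permutation group with few fixed points.
import Mathlib
import Cfsg.Agent.Lib.Helper35.PermAut

set_option autoImplicit false

namespace Cfsg.Agent.Lib.Helper35.PermAut3

open Cfsg.Agent.Lib.Helper35.PermAut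

section Conj

variable {Ω : Type*} [Fintype Ω] [DecidableEq Ω]

/-- Let `G` be a permutation group trivial outside the finset `Δ` such that distinct points of
`Δ` have distinct stabilisers.  An automorphism of `G` mapping the stabiliser of every point of
`Δ` onto the stabiliser of some point of `Δ` is conjugation by a permutation which is trivial
outside `Δ`. -/
theorem aut_conj_of_stab (G : Subgroup (Equiv.Perm Ω)) (Δ : Finset Ω)
    (h1 : ∀ g ∈ G, ∀ x, x ∉ Δ → g x = x)
    (h3 : ∀ a ∈ Δ, ∀ b ∈ Δ, a ≠ b → ∃ g ∈ G, g a = a ∧ g b ≠ b)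
    (α : MulAut G)
    (hex : ∀ a ∈ Δ, ∃ b ∈ Δ, ∀ s : G, (s : Equiv.Perm Ω) a = a ↔ (α s : Equiv.Perm Ω) b = b) :
    ∃ π : Equiv.Perm Ω, (∀ x, x ∉ Δ → π x = x) ∧
      ∀ g : G, (α g : Equiv.Perm Ω) = π * g * π⁻¹ := by
  classical
  -- the group preserves Δ
  have hΔ : ∀ g ∈ G, ∀ a ∈ Δ, g a ∈ Δ := by
    intro g hg a ha
    by_contra hga
    have := h1 g⁻¹ (G.inv_mem hg) (g a) hga
    rw [Equiv.Perm.inv_eq_iff_eq.mpr rfl] at this
    exact hga (this ▸ ha)
  -- the relation between a point and its image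
  let R : Ω → Ω → Prop := fun a b => b ∈ Δ ∧ ∀ s : G, (s : Equiv.Perm Ω) a = a ↔
    (α s : Equiv.Perm Ω) b = b
  have hRex : ∀ a ∈ Δ, ∃ b, R a b := by
    intro a ha
    obtain ⟨b, hb, h⟩ := hex a ha
    exact ⟨b, hb, h⟩
  have hRuniq : ∀ a b b', R a b → R a b' → b = b' := by
    intro a b b' hb hb'
    by_contra hne
    obtain ⟨x, hx, hxb, hxb'⟩ := h3 b hb.1 b' hb'.1 hne
    obtain ⟨s, hs⟩ := α.surjective ⟨x, hx⟩
    have e1 : (α s : Equiv.Perm Ω) b = b := by rw [hs]; exact hxb
    have e2 : (s : Equiv.Perm Ω) a = a := (hb.2 s).mpr e1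
    have e3 : (α s : Equiv.Perm Ω) b' = b' := (hb'.2 s).mp e2
    rw [hs] at e3
    exact hxb' e3
  have hRinj : ∀ a ∈ Δ, ∀ a' ∈ Δ, ∀ b, R a b → R a' b → a = a' := by
    intro a ha a' ha' b hb hb'
    by_contra hne
    obtain ⟨x, hx, hxa, hxa'⟩ := h3 a ha a' ha' hne
    have e1 := (hb.2 ⟨x, hx⟩).mp hxa
    exact hxa' ((hb'.2 ⟨x, hx⟩).mpr e1)
  -- the permutation
  let π₀ : Ω → Ω := fun a => if ha : a ∈ Δ then (hRex a ha).choose else a
  have hπ₀ : ∀ a (ha : a ∈ Δ), R a (π₀ a) := by
    intro a ha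
    simp only [π₀, dif_pos ha]
    exact (hRex a ha).choose_spec
  have hπ₀' : ∀ a, a ∉ Δ → π₀ a = a := by
    intro a ha
    simp only [π₀, dif_neg ha]
  have hinj : Function.Injective π₀ := by
    intro a a' h
    by_cases ha : a ∈ Δ <;> by_cases ha' : a' ∈ Δ
    · exact hRinj a ha a' ha' (π₀ a) (hπ₀ a ha) (h ▸ hπ₀ a' ha')
    · exfalso
      rw [hπ₀' a' ha'] at h
      exact ha' (h ▸ (hπ₀ a ha).1)
    · exfalso
      rw [hπ₀' a ha] at h
      exact ha (h ▸ (hπ₀ a' ha').1)
    · rw [hπ₀' a ha, hπ₀' a' ha'] at h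
      exact h
  let π : Equiv.Perm Ω := Equiv.ofBijective π₀ (Finite.injective_iff_bijective.mp hinj)
  have hπ : ∀ a, π a = π₀ a := fun a => rfl
  -- equivariance
  have hequiv : ∀ g : G, ∀ a, (α g : Equiv.Perm Ω) (π a) = π ((g : Equiv.Perm Ω) a) := by
    intro g a
    by_cases ha : a ∈ Δ
    · have hga : (g : Equiv.Perm Ω) a ∈ Δ := hΔ g g.2 a ha
      have hb := hπ₀ a ha
      apply hRuniq ((g : Equiv.Perm Ω) a) _ _ _ (hπ₀ _ hga)
      refine ⟨hΔ _ (α g).2 _ hb.1, fun s => ?_⟩
      have key := hb.2 (g⁻¹ * s * g)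
      have e1 : ((g⁻¹ * s * g : G) : Equiv.Perm Ω) a = a ↔
          (s : Equiv.Perm Ω) ((g : Equiv.Perm Ω) a) = (g : Equiv.Perm Ω) a := by
        show (g : Equiv.Perm Ω)⁻¹ ((s : Equiv.Perm Ω) ((g : Equiv.Perm Ω) a)) = a ↔ _
        rw [Equiv.Perm.inv_eq_iff_eq]
      have e2 : ((α (g⁻¹ * s * g) : G) : Equiv.Perm Ω) (π₀ a) = π₀ a ↔
          (α s : Equiv.Perm Ω) ((α g : Equiv.Perm Ω) (π₀ a)) = (α g : Equiv.Perm Ω) (π₀ a) := by
        rw [map_mul, map_mul, map_inv]
        show (α g : Equiv.Perm Ω)⁻¹ ((α s : Equiv.Perm Ω) ((α g : Equiv.Perm Ω) (π₀ a))) = π₀ a ↔ _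
        rw [Equiv.Perm.inv_eq_iff_eq]
      rw [← e1, key, e2]
      rfl
    · rw [hπ, hπ₀' a ha, h1 _ g.2 a ha, hπ, hπ₀' a ha, h1 _ (α g).2 a ha]
  have hconj : ∀ g : G, (α g : Equiv.Perm Ω) = π * g * π⁻¹ := by
    intro g
    ext x
    have := hequiv g (π⁻¹ x)
    rw [show π (π⁻¹ x) = x from (Equiv.eq_symm_apply π).mp rfl] at this
    rw [this]
    rfl
  exact ⟨π, fun x hx => by rw [hπ, hπ₀' x hx], hconj⟩

omit [DecidableEq Ω] in
/-- The image of a point stabiliser under an automorphism, as a subgroup of the symmetric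
group: if it fixes the point `b` and has the order of the stabiliser of `b`, then the
automorphism maps the stabiliser of `a` onto the stabiliser of `b`. -/
theorem stab_iff_of_card (G : Subgroup (Equiv.Perm Ω)) (α : MulAut G) (a b : Ω)
    (hcard : Nat.card ↥(G ⊓ MulAction.stabilizer (Equiv.Perm Ω) b) ≤
      Nat.card ↥(G ⊓ MulAction.stabilizer (Equiv.Perm Ω) a))
    (hfix : ∀ s : G, (s : Equiv.Perm Ω) a = a → (α s : Equiv.Perm Ω) b = b) :
    ∀ s : G, (s : Equiv.Perm Ω) a = a ↔ (α s : Equiv.Perm Ω) b = b := by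
  classical
  let Sa : Subgroup G := MulAction.stabilizer G a
  let Sb : Subgroup G := MulAction.stabilizer G b
  have hcardS : ∀ x : Ω, Nat.card ↥(MulAction.stabilizer G x) =
      Nat.card ↥(G ⊓ MulAction.stabilizer (Equiv.Perm Ω) x) := by
    intro x
    rw [← Subgroup.card_subtype G (MulAction.stabilizer G x)]
    congr 1
    have : Subgroup.map G.subtype (MulAction.stabilizer G x) =
        G ⊓ MulAction.stabilizer (Equiv.Perm Ω) x := by
      ext g
      simp only [Subgroup.mem_map, MulAction.mem_stabilizer_iff, Subgroup.coe_subtype,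
        Subtype.exists, exists_and_right, exists_eq_right, Subgroup.mem_inf]
      constructor
      · rintro ⟨hg, hgb⟩
        exact ⟨hg, hgb⟩
      · rintro ⟨hgK, hgb⟩
        exact ⟨hgK, hgb⟩
    rw [this]
  have hle : Sa.map (α : G →* G) ≤ Sb := by
    rintro _ ⟨s, hs, rfl⟩
    rw [MulAction.mem_stabilizer_iff]
    exact hfix s hs
  have heq : Sa.map (α : G →* G) = Sb := by
    apply Subgroup.eq_of_le_of_card_ge hle
    rw [Subgroup.card_map_of_injective (show Function.Injective (α : G →* G) from α.injective)]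
    show Nat.card ↥(MulAction.stabilizer G b) ≤ Nat.card ↥(MulAction.stabilizer G a)
    rw [hcardS, hcardS]
    exact hcard
  intro s
  refine ⟨hfix s, fun hs => ?_⟩
  have : α s ∈ Sa.map (α : G →* G) := by rw [heq]; exact hs
  obtain ⟨s', hs', he⟩ := this
  have : s' = s := α.injective he
  rw [← this]
  exact hs'

omit [Fintype Ω] [DecidableEq Ω] in
/-- The image of a point stabiliser under an automorphism, as a subgroup of the symmetric
group. -/
theorem exists_image_stab (G : Subgroup (Equiv.Perm Ω)) (α : MulAut G) (a : Ω) :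
    ∃ H : Subgroup (Equiv.Perm Ω), H ≤ G ∧
      Nat.card H = Nat.card ↥(G ⊓ MulAction.stabilizer (Equiv.Perm Ω) a) ∧
      ∀ s : G, (s : Equiv.Perm Ω) a = a → (α s : Equiv.Perm Ω) ∈ H := by
  classical
  let Sa : Subgroup G := MulAction.stabilizer G a
  refine ⟨(Sa.map (α : G →* G)).map G.subtype, ?_, ?_, ?_⟩
  · rintro _ ⟨x, -, rfl⟩
    exact x.2
  · rw [Subgroup.card_map_of_injective (Subgroup.subtype_injective G),
      Subgroup.card_map_of_injective (show Function.Injective (α : G →* G) from α.injective),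
      ← Subgroup.card_subtype G (MulAction.stabilizer G a)]
    congr 1
    have : Subgroup.map G.subtype (MulAction.stabilizer G a) =
        G ⊓ MulAction.stabilizer (Equiv.Perm Ω) a := by
      ext g
      simp only [Subgroup.mem_map, MulAction.mem_stabilizer_iff, Subgroup.coe_subtype,
        Subtype.exists, exists_and_right, exists_eq_right, Subgroup.mem_inf]
      constructor
      · rintro ⟨hg, hgb⟩
        exact ⟨hg, hgb⟩
      · rintro ⟨hgK, hgb⟩
        exact ⟨hgK, hgb⟩
    rw [this]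
  · intro s hs
    exact ⟨α s, ⟨s, hs, rfl⟩, rfl⟩

end Conj

section Orbit

variable {Ω : Type*} [Fintype Ω] [DecidableEq Ω]

theorem orb_eq_of_mem {K : Subgroup (Equiv.Perm Ω)} {x y : Ω} (h : y ∈ orb K x) :
    orb K y = orb K x := by
  obtain ⟨k, hk, rfl⟩ := mem_orb.mp h
  ext z
  rw [mem_orb, mem_orb]
  constructor
  · rintro ⟨k', hk', rfl⟩
    exact ⟨k' * k, K.mul_mem hk' hk, rfl⟩
  · rintro ⟨k', hk', rfl⟩
    refine ⟨k' * k⁻¹, K.mul_mem hk' (K.inv_mem hk), ?_⟩
    show k' (k⁻¹ (k x)) = k' x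
    rw [Equiv.Perm.inv_eq_iff_eq.mpr rfl]

/-- If the orbit of `x` under a finite subgroup `K` (for any action of the ambient group) lies in
the finset `S`, then `|K| ≤ |K_x| * |S|`. -/
theorem card_le_mul_of_orbit {P β : Type*} [Group P] [MulAction P β] (K : Subgroup P)
    [Finite K] (x : β) (S : Finset β) (hS : ∀ k ∈ K, k • x ∈ S) :
    Nat.card K ≤ Nat.card ↥(K ⊓ MulAction.stabilizer P x) * S.card := by
  have h1 := Subgroup.card_mul_index (MulAction.stabilizer K x)
  rw [MulAction.index_stabilizer] at h1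
  have hsub : MulAction.orbit K x ⊆ (S : Set β) := by
    rintro _ ⟨⟨k, hk⟩, rfl⟩
    exact hS k hk
  have hle : (MulAction.orbit K x).ncard ≤ S.card := by
    have := Set.ncard_le_ncard hsub (Finset.finite_toSet S)
    rwa [Set.ncard_coe_finset] at this
  have hstab : Nat.card ↥(MulAction.stabilizer K x) =
      Nat.card ↥(K ⊓ MulAction.stabilizer P x) := by
    rw [← Subgroup.card_subtype K (MulAction.stabilizer K x)]
    congr 1
    have : Subgroup.map K.subtype (MulAction.stabilizer K x) =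
        K ⊓ MulAction.stabilizer P x := by
      ext g
      simp only [Subgroup.mem_map, MulAction.mem_stabilizer_iff, Subgroup.coe_subtype,
        Subtype.exists, exists_and_right, exists_eq_right, Subgroup.mem_inf]
      constructor
      · rintro ⟨hg, hgb⟩
        exact ⟨hg, hgb⟩
      · rintro ⟨hgK, hgb⟩
        exact ⟨hgK, hgb⟩
    rw [this]
  rw [hstab] at h1
  calc Nat.card K = Nat.card ↥(K ⊓ MulAction.stabilizer P x) * (MulAction.orbit K x).ncard :=
        h1.symm
    _ ≤ Nat.card ↥(K ⊓ MulAction.stabilizer P x) * S.card := Nat.mul_le_mul_left _ hle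

/-- A Burnside-type inequality: if `K` has at least `n` orbits (witnessed by an invariant
surjection onto `Fin n`) and every non-identity element of `K` fixes at most `c` points, then
`n * |K| ≤ |Ω| + c * (|K| - 1)`. -/
theorem burnside_le (K : Subgroup (Equiv.Perm Ω)) {n : ℕ} (f : Ω → Fin n)
    (hf : ∀ k ∈ K, ∀ x, f (k x) = f x) (hsurj : Function.Surjective f) (c : ℕ)
    (hc : ∀ k ∈ K, k ≠ 1 → (Finset.univ.filter (fun x => k x = x)).card ≤ c) :
    n * Nat.card K ≤ Fintype.card Ω + c * (Nat.card K - 1) := by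
  classical
  have : Fintype K := Fintype.ofFinite K
  have hB := MulAction.sum_card_fixedBy_eq_card_orbits_mul_card_group K Ω
  -- number of orbits
  have horb : n ≤ Fintype.card (MulAction.orbitRel.Quotient K Ω) := by
    let f' : MulAction.orbitRel.Quotient K Ω → Fin n := Quotient.lift f (by
      rintro a b ⟨⟨k, hk⟩, rfl⟩
      exact hf k hk b)
    have hs : Function.Surjective f' := by
      intro i
      obtain ⟨x, hx⟩ := hsurj i
      exact ⟨Quotient.mk _ x, hx⟩
    have := Fintype.card_le_of_surjective f' hs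
    rwa [Fintype.card_fin] at this
  -- fixed points
  have hfix : ∀ k : K, Fintype.card (MulAction.fixedBy Ω k) =
      (Finset.univ.filter (fun x => (k : Equiv.Perm Ω) x = x)).card := by
    intro k
    rw [← Fintype.card_coe]
    apply Fintype.card_congr
    refine ⟨fun y => ⟨y.1, ?_⟩, fun y => ⟨y.1, ?_⟩, fun y => rfl, fun y => rfl⟩
    · rw [Finset.mem_filter]
      exact ⟨Finset.mem_univ _, y.2⟩
    · exact (Finset.mem_filter.mp y.2).2
  have hsum : (∑ k : K, Fintype.card (MulAction.fixedBy Ω k)) ≤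
      Fintype.card Ω + c * (Nat.card K - 1) := by
    rw [← Finset.add_sum_erase Finset.univ _ (Finset.mem_univ (1 : K))]
    have h1 : Fintype.card (MulAction.fixedBy Ω (1 : K)) ≤ Fintype.card Ω := by
      rw [hfix]; exact Finset.card_le_univ _
    have h2 : ∑ k ∈ Finset.univ.erase (1 : K), Fintype.card (MulAction.fixedBy Ω k) ≤
        (Finset.univ.erase (1 : K)).card • c := by
      apply Finset.sum_le_card_nsmul
      intro k hk
      rw [hfix]
      exact hc k k.2 (fun h => (Finset.ne_of_mem_erase hk) (Subtype.ext h))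
    rw [Finset.card_erase_of_mem (Finset.mem_univ _), Finset.card_univ, smul_eq_mul,
      ← Nat.card_eq_fintype_card, mul_comm] at h2
    exact add_le_add h1 h2
  rw [hB, ← Nat.card_eq_fintype_card (α := K)] at hsum
  exact le_trans (Nat.mul_le_mul_right _ horb) hsum

end Orbit

end Cfsg.Agent.Lib.Helper35.PermAut3
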