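-- Stabilisers of dodecads in M24 (helper35), on top of helper7's M12 library: transitivity
-- lemmas, fixed point counts, the pair of complementary hexads attached to two points outside
-- the dodecad, involutions and octads meeting the dodecad in four points, and the fact that a
-- permutation conjugating M11 into M24 lies in M24.
import Cfsg.Agent.Lib.Helper35.M22Aut
import Cfsg.Agent.Lib.Helper35.PermAut3
import Cfsg.Agent.Lib.Helper7.M12Hexad2
import Cfsg.Agent.Lib.Helper7.M11Twist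

set_option autoImplicit false

namespace Cfsg.Agent.Lib.Helper35.M12Base

open Cfsg Cfsg.Spor Cfsg.Agent.Lib.Helper7.GolayBase Cfsg.Agent.Lib.Helper7.GolayCode
  Cfsg.Agent.Lib.Helper7.M24Mem Cfsg.Agent.Lib.Helper7.GolayRigid
  Cfsg.Agent.Lib.Helper7.M24Main Cfsg.Agent.Lib.Helper7.M24Octad
  Cfsg.Agent.Lib.Helper7.M24Octad2 Cfsg.Agent.Lib.Helper7.GolayCount
  Cfsg.Agent.Lib.Helper7.M12Core Cfsg.Agent.Lib.Helper7.M12Main Cfsg.Agent.Lib.Helper7.M12Thm
  Cfsg.Agent.Lib.Helper7.M12Hexad Cfsg.Agent.Lib.Helper7.M12Hexad2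
  Cfsg.Agent.Lib.Helper7.M11Twist Cfsg.Agent.Lib.Helper7.ChainGen
  Cfsg.Agent.Lib.Helper7.M24Core
  Cfsg.Agent.Lib.Helper35.PermAut Cfsg.Agent.Lib.Helper35.M24Fix Cfsg.Agent.Lib.Helper35.M24Aut
  Cfsg.Agent.Lib.Helper35.PermAut3
open scoped Pointwise

variable {d : Finset GolayPt}

/-- The setwise stabiliser of a set of points in `M24`. -/
def SD (d : Finset GolayPt) : Subgroup (Equiv.Perm GolayPt) :=
  M24 ⊓ MulAction.stabilizer (Equiv.Perm GolayPt) d

theorem mem_SD {g : Equiv.Perm GolayPt} : g ∈ SD d ↔ g ∈ M24 ∧ g • d = d := Iff.rfl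

theorem M12_eq : Spor.M12 = SD (mk d0) := by
  unfold Spor.M12 SD
  rw [squareDodecad_eq]

theorem SD_compl (d : Finset GolayPt) : SD (Finset.univ \ d) = SD d := by
  ext g
  rw [mem_SD, mem_SD, smul_compl_iff]

theorem card_dodecad (hd : d ∈ dodecads) : d.card = 12 := hd.2

theorem compl_mem_dodecads (hd : d ∈ dodecads) : Finset.univ \ d ∈ dodecads := by
  obtain ⟨g, hg, hgd⟩ := dodecad_to_base hd
  have h : Finset.univ \ d = (g⁻¹ * projInv * g) • d := by
    rw [mul_smul, mul_smul, hgd, proj_swap, Finset.smul_finset_sdiff, Finset.smul_finset_univ,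
      ← hgd, inv_smul_smul]
  rw [h]
  exact smul_mem_dodecads (M24.mul_mem (M24.mul_mem (M24.inv_mem hg) proj_mem) hg) hd

theorem card_compl (hd : d ∈ dodecads) : (Finset.univ \ d).card = 12 :=
  card_dodecad (compl_mem_dodecads hd)

theorem mem_compl {x : GolayPt} : x ∈ Finset.univ \ d ↔ x ∉ d := by
  rw [Finset.mem_sdiff]
  exact ⟨fun h => h.2, fun h => ⟨Finset.mem_univ _, h⟩⟩

theorem apply_mem_iff {g : Equiv.Perm GolayPt} (hg : g • d = d) (x : GolayPt) :
    g x ∈ d ↔ x ∈ d := by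
  constructor
  · intro h
    rw [← hg] at h
    exact (Finset.smul_mem_smul_finset_iff g).mp h
  · intro h
    have := Finset.smul_mem_smul_finset (a := g) h
    rwa [hg] at this

theorem map_eq_self {f : GolayPt → GolayPt} : ∀ (l : List GolayPt), l.map f = l →
    ∀ x ∈ l, f x = x
  | [], _, x, hx => by simp at hx
  | a :: l, h, x, hx => by
    rw [List.map_cons, List.cons.injEq] at h
    rcases List.mem_cons.mp hx with rfl | hx
    · exact h.1
    · exact map_eq_self l h.2 x hx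

/-- The stabiliser of a dodecad is 5-transitive on it. -/
theorem exists_map_in (hd : d ∈ dodecads) (xs ys : List GolayPt) (hx : xs.Nodup)
    (hy : ys.Nodup) (hxd : ∀ x ∈ xs, x ∈ d) (hyd : ∀ y ∈ ys, y ∈ d)
    (hlen : xs.length = ys.length) (h5 : xs.length ≤ 5) :
    ∃ g ∈ SD d, xs.map g = ys := by
  obtain ⟨t, ht, htd, hm⟩ := exists_to_base12 hd xs hx hxd h5
  obtain ⟨t', ht', htd', hm'⟩ := exists_to_base12 hd ys hy hyd (hlen ▸ h5)
  refine ⟨t'⁻¹ * t, ⟨M24.mul_mem (M24.inv_mem ht') ht, ?_⟩, ?_⟩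
  · show (t'⁻¹ * t) • d = d
    rw [mul_smul, htd, ← htd', inv_smul_smul]
  · have h1 : xs.map (t'⁻¹ * t) = (xs.map t).map (fun z => t'⁻¹ z) := by
      rw [List.map_map]; rfl
    rw [h1, hm, hlen, ← hm', List.map_map]
    conv_rhs => rw [← List.map_id ys]
    apply List.map_congr_left
    intro y _
    exact pinv t' y

theorem exists_map_in2 (hd : d ∈ dodecads) {a b a' b' : GolayPt} (ha : a ∈ d) (hb : b ∈ d)
    (ha' : a' ∈ d) (hb' : b' ∈ d) (hab : a ≠ b) (hab' : a' ≠ b') :
    ∃ g ∈ SD d, g a = a' ∧ g b = b' := by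
  obtain ⟨g, hg, hm⟩ := exists_map_in hd [a, b] [a', b'] (by simp [hab]) (by simp [hab'])
    (by simp [ha, hb]) (by simp [ha', hb']) rfl (by simp)
  simp only [List.map_cons, List.map_nil, List.cons.injEq, and_true] at hm
  exact ⟨g, hg, hm.1, hm.2⟩

theorem exists_map_in1 (hd : d ∈ dodecads) {a a' : GolayPt} (ha : a ∈ d) (ha' : a' ∈ d) :
    ∃ g ∈ SD d, g a = a' := by
  obtain ⟨g, hg, hm⟩ := exists_map_in hd [a] [a'] (by simp) (by simp)
    (by simp [ha]) (by simp [ha']) rfl (by simp)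
  simp only [List.map_cons, List.map_nil, List.cons.injEq, and_true] at hm
  exact ⟨g, hg, hm⟩

/-- The stabiliser of a point of a dodecad is transitive on the complement. -/
theorem exists_map_out (hd : d ∈ dodecads) {p : GolayPt} (hp : p ∈ d) {x y : GolayPt}
    (hx : x ∉ d) (hy : y ∉ d) : ∃ g ∈ SD d, g p = p ∧ g x = y := by
  obtain ⟨t, ht, htd, htp, hm⟩ := exists_to_base11 hd hp [x] (by simp) (by simpa using hx)
    (by simp)
  obtain ⟨t', ht', htd', htp', hm'⟩ := exists_to_base11 hd hp [y] (by simp) (by simpa using hy)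
    (by simp)
  simp only [List.map_cons, List.map_nil, List.length_cons, List.length_nil, cbase, List.take,
    List.cons.injEq, and_true] at hm hm'
  refine ⟨t'⁻¹ * t, ⟨M24.mul_mem (M24.inv_mem ht') ht, ?_⟩, ?_, ?_⟩
  · show (t'⁻¹ * t) • d = d
    rw [mul_smul, htd, ← htd', inv_smul_smul]
  · show t'⁻¹ (t p) = p
    rw [htp, ← htp']; exact pinv t' p
  · show t'⁻¹ (t x) = y
    rw [hm, ← hm']; exact pinv t' y

/-- A non-identity element of the stabiliser of a dodecad fixes at most four of its points. -/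
theorem fix_le_four (hd : d ∈ dodecads) {g : Equiv.Perm GolayPt} (hg : g ∈ SD d) (h1 : g ≠ 1) :
    (d.filter (fun y => g y = y)).card ≤ 4 := by
  by_contra h
  push Not at h
  exact h1 (eq_one_of_fix_five hd hg.1 hg.2 (d.filter (fun y => g y = y))
    (Finset.filter_subset _ _) (by omega) (fun p hp => (Finset.mem_filter.mp hp).2))

theorem fix_mod (hd : d ∈ dodecads) {g : Equiv.Perm GolayPt} (hg : g ∈ SD d) {p : ℕ}
    [Fact p.Prime] (ho : orderOf g = p) : (d.filter (fun y => g y = y)).card % p = 12 % p := by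
  have h := card_fixed_modEq g (p := p) (n := 1) (by rw [pow_one, ← ho, pow_orderOf_eq_one]) d
    (fun y hy => (apply_mem_iff hg.2 y).mpr hy)
  rw [card_dodecad hd] at h
  exact h.symm

theorem ne_one_of_order {g : Equiv.Perm GolayPt} {p : ℕ} (hp : 1 < p) (ho : orderOf g = p) :
    g ≠ 1 := by
  intro h
  rw [h, orderOf_one] at ho
  omega

theorem fix_eleven (hd : d ∈ dodecads) {g : Equiv.Perm GolayPt} (hg : g ∈ SD d)
    (ho : orderOf g = 11) : (d.filter (fun y => g y = y)).card = 1 := by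
  have : Fact (Nat.Prime 11) := ⟨by norm_num⟩
  have h1 := fix_mod hd hg ho
  have h2 := fix_le_four hd hg (ne_one_of_order (by norm_num) ho)
  omega

theorem fix_five (hd : d ∈ dodecads) {g : Equiv.Perm GolayPt} (hg : g ∈ SD d)
    (ho : orderOf g = 5) : (d.filter (fun y => g y = y)).card = 2 := by
  have : Fact (Nat.Prime 5) := ⟨by norm_num⟩
  have h1 := fix_mod hd hg ho
  have h2 := fix_le_four hd hg (ne_one_of_order (by norm_num) ho)
  omega

theorem fix_three (hd : d ∈ dodecads) {g : Equiv.Perm GolayPt} (hg : g ∈ SD d)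
    (ho : orderOf g = 3) : (d.filter (fun y => g y = y)).card = 0 ∨
      (d.filter (fun y => g y = y)).card = 3 := by
  have : Fact (Nat.Prime 3) := ⟨by norm_num⟩
  have h1 := fix_mod hd hg ho
  have h2 := fix_le_four hd hg (ne_one_of_order (by norm_num) ho)
  omega

theorem prop_aux1 {A B E : Prop} (hp : E ↔ (A ∧ ¬B ∨ B ∧ ¬A)) :
    (B ∧ E ↔ E ∧ ¬(A ∧ E)) := by tauto

theorem prop_aux2 {A B E : Prop} (hp1 : A ∧ ¬B ∨ B ∧ ¬A) (hpd : E) (e1 : A ∧ E ↔ B ∧ E) :
    False := by tauto

/-- Two octads with the same points outside a dodecad meet it in the same set or in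
complementary sets. -/
theorem hexad_pair_aux (hd : d ∈ dodecads) {o o₂ : Finset GolayPt} (ho : o ∈ octads)
    (ho₂ : o₂ ∈ octads) (hsd : o \ d = o₂ \ d) :
    o₂ ∩ d = o ∩ d ∨ o₂ ∩ d = d \ (o ∩ d) := by
  obtain ⟨c, hc, rfl⟩ := (mem_octads_iff o).mp ho
  obtain ⟨c₂, hc₂, rfl⟩ := (mem_octads_iff o₂).mp ho₂
  obtain ⟨e, he, rfl⟩ := (mem_dodecads_iff d).mp hd
  obtain ⟨hc1, hc8⟩ := mem_octadList.mp hc
  obtain ⟨hc1', hc8'⟩ := mem_octadList.mp hc₂
  obtain ⟨he1, he12⟩ := mem_dodecadList.mp he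
  have hu : c ^^^ c₂ ∈ codeList := xor_mem_codeList hc1 hc1'
  have hm : (c ^^^ c₂) ^^^ e ∈ codeList := xor_mem_codeList hu he1
  have hsub : mk (c ^^^ c₂) ⊆ mk e := by
    intro p hp
    rw [mk_xor, Finset.mem_symmDiff] at hp
    by_contra hpd
    rcases hp with ⟨h1, h2⟩ | ⟨h1, h2⟩
    · have : p ∈ mk c \ mk e := Finset.mem_sdiff.mpr ⟨h1, hpd⟩
      rw [hsd] at this
      exact h2 (Finset.mem_sdiff.mp this).1
    · have : p ∈ mk c₂ \ mk e := Finset.mem_sdiff.mpr ⟨h1, hpd⟩
      rw [← hsd] at this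
      exact h2 (Finset.mem_sdiff.mp this).1
  have h1 := card_symmDiff_mk (c ^^^ c₂) e
  have h2 : popc ((c ^^^ c₂) &&& e) = popc (c ^^^ c₂) := by
    rw [← card_mk, mk_and, Finset.inter_eq_left.mpr hsub, card_mk]
  have hw1 := weights _ hu
  have hw2 := weights _ hm
  rw [h2, he12] at h1
  have hcases : popc (c ^^^ c₂) = 0 ∨ popc (c ^^^ c₂) = 12 := by
    rcases hw1 with h | h | h | h | h <;> rcases hw2 with h' | h' | h' | h' | h' <;> omega
  rcases hcases with h0 | h12
  · left
    have h3 : mk (c ^^^ c₂) = ∅ := Finset.card_eq_zero.mp (by rw [card_mk]; exact h0)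
    rw [mk_xor] at h3
    have h4 : mk c = mk c₂ := symmDiff_eq_bot.mp h3
    rw [h4]
  · right
    have hm0 : popc ((c ^^^ c₂) ^^^ e) = 0 := by omega
    have h3 : mk ((c ^^^ c₂) ^^^ e) = ∅ := Finset.card_eq_zero.mp (by rw [card_mk]; exact hm0)
    rw [mk_xor, mk_xor] at h3
    have hde : symmDiff (mk c) (mk c₂) = mk e := symmDiff_eq_bot.mp h3
    ext p
    rw [Finset.mem_inter, Finset.mem_sdiff, Finset.mem_inter]
    have hp : p ∈ mk e ↔ (p ∈ mk c ∧ p ∉ mk c₂ ∨ p ∈ mk c₂ ∧ p ∉ mk c) := by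
      rw [← hde, Finset.mem_symmDiff]
    exact prop_aux1 hp

/-- Two points outside a dodecad determine a pair of complementary six-point subsets of the
dodecad, permuted by every element of the stabiliser of the dodecad fixing the two points. -/
theorem exists_hexad_pair (hd : d ∈ dodecads) {x y : GolayPt} (hx : x ∉ d) (hy : y ∉ d)
    (hxy : x ≠ y) : ∃ X : Finset GolayPt, X ⊆ d ∧ X.card = 6 ∧
      ∀ g ∈ SD d, g x = x → g y = y → g • X = X ∨ g • X = d \ X := by
  have hne : {o : Finset GolayPt | o ∈ octads ∧ (o ∩ d).card = 6}.Nonempty := by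
    apply Set.nonempty_of_ncard_ne_zero
    rw [(hexad_count d hd).1]; norm_num
  obtain ⟨o₁, ho₁, h6⟩ := hne
  have h2 : (o₁ \ d).card = 2 := by
    have := Finset.card_sdiff_add_card_inter o₁ d
    rw [ho₁.2, h6] at this
    omega
  obtain ⟨x₁, y₁, hxy₁, hpair⟩ := Finset.card_eq_two.mp h2
  have hx₁ : x₁ ∈ o₁ \ d := by rw [hpair]; simp
  have hy₁ : y₁ ∈ o₁ \ d := by rw [hpair]; simp
  rw [Finset.mem_sdiff] at hx₁ hy₁
  obtain ⟨g₂, hg₂, hgx, hgy⟩ := exists_map_in2 (compl_mem_dodecads hd) (mem_compl.mpr hx₁.2)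
    (mem_compl.mpr hy₁.2) (mem_compl.mpr hx) (mem_compl.mpr hy) hxy₁ hxy
  rw [SD_compl] at hg₂
  have hg₂d : g₂ • d = d := (mem_SD.mp hg₂).2
  have ho : g₂ • o₁ ∈ octads := smul_mem_octads hg₂.1 ho₁
  have hod : g₂ • o₁ ∩ d = g₂ • (o₁ ∩ d) := by
    rw [Finset.smul_finset_inter, hg₂d]
  have hosd : g₂ • o₁ \ d = {x, y} := by
    have h3 : g₂ • o₁ \ d = g₂ • (o₁ \ d) := by rw [Finset.smul_finset_sdiff, hg₂d]
    rw [h3, hpair, Finset.smul_finset_insert, Finset.smul_finset_singleton]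
    show ({g₂ x₁, g₂ y₁} : Finset GolayPt) = {x, y}
    rw [hgx, hgy]
  refine ⟨g₂ • o₁ ∩ d, Finset.inter_subset_right, by rw [hod, Finset.card_smul_finset, h6], ?_⟩
  intro g hg hgx' hgy'
  have hgd : g • d = d := (mem_SD.mp hg).2
  have ho₂ : g • g₂ • o₁ ∈ octads := smul_mem_octads hg.1 ho
  have hsd₂ : g₂ • o₁ \ d = g • g₂ • o₁ \ d := by
    have h3 : g • g₂ • o₁ \ d = g • (g₂ • o₁ \ d) := by rw [Finset.smul_finset_sdiff, hgd]
    rw [h3, hosd, Finset.smul_finset_insert, Finset.smul_finset_singleton]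
    show ({x, y} : Finset GolayPt) = {g x, g y}
    rw [hgx', hgy']
  have hinter : g • (g₂ • o₁ ∩ d) = g • g₂ • o₁ ∩ d := by rw [Finset.smul_finset_inter, hgd]
  rw [hinter]
  exact hexad_pair_aux hd ho ho₂ hsd₂

/-- An element of `M24` fixing six points of an octad fixes the octad pointwise. -/
theorem fix_octad_of_six {t : Equiv.Perm GolayPt} (ht : t ∈ M24) (s : Finset GolayPt)
    (hs : s.card = 5) {o : Finset GolayPt} (ho : o ∈ octads) (hso : s ⊆ o)
    (hts : ∀ z ∈ s, t z = z) {y : GolayPt} (hyo : y ∈ o) (hys : y ∉ s) (hty : t y = y) :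
    ∀ z ∈ o, t z = z := by
  obtain ⟨x, hxo⟩ : ∃ x, x ∉ o := exists_notMem_of_card_lt o (by rw [ho.2]; norm_num)
  obtain ⟨g, hg, hm, hgy, -⟩ := exists_map_base7 s hs ho hso hyo hys hxo
  have hfix : ∀ z, t z = z → (g * t * g⁻¹) (g z) = g z := by
    intro z hz
    show g (t (g⁻¹ (g z))) = g z
    rw [Equiv.Perm.inv_eq_iff_eq.mpr rfl, hz]
  have hmem : g * t * g⁻¹ ∈ M24 ⊓ FixL [5, 3, 2, 1, 0, 23] := by
    refine ⟨M24.mul_mem (M24.mul_mem hg ht) (M24.inv_mem hg), ?_⟩
    intro f hf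
    simp only [List.mem_cons, List.not_mem_nil, or_false] at hf
    rcases hf with rfl | hf
    · rw [← hgy]; exact hfix y hty
    · obtain ⟨z, hz, hgz⟩ := hm f (by
        simp only [List.mem_cons, List.not_mem_nil, or_false]; exact hf)
      rw [← hgz]; exact hfix z (hts z hz)
  rw [← fixO_eq] at hmem
  intro z hz
  have hgz : g z ∈ mk O := (hm.mem_O hg ho hso z).mp hz
  have hidx : idx (g z) ∈ Oidx := by
    rw [mem_mk] at hgz
    have key : ∀ i, i < 24 → O.testBit i = true → i ∈ Oidx := by decide +kernel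
    exact key _ (idx_lt _) hgz
  have h1 := hmem.2 _ hidx
  rw [pt_idx] at h1
  have h2 : g (t (g⁻¹ (g z))) = g z := h1
  rw [Equiv.Perm.inv_eq_iff_eq.mpr rfl] at h2
  exact g.injective h2

/-- The fixed points of an involution of `M24` fixing five points are exactly the points of the
octad through them. -/
theorem inv_fix_iff {t : Equiv.Perm GolayPt} (ht : t ∈ M24) (ht2 : t * t = 1) (ht1 : t ≠ 1)
    (s : Finset GolayPt) (hs : s.card = 5) {o : Finset GolayPt} (ho : o ∈ octads) (hso : s ⊆ o)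
    (hts : ∀ z ∈ s, t z = z) (x : GolayPt) : t x = x ↔ x ∈ o := by
  constructor
  · intro hx
    by_contra hxo
    exact ht1 (inv_eq_one_of_fix ht ht2 s hs ho hso hts hxo hx)
  · intro hx
    have hinv := apply_mem_octad ht ho (by omega) hso (fun z hz => by rw [hts z hz]; exact hso hz)
    have hY : ∀ y ∈ o \ s, t y ∈ o \ s := by
      intro y hy
      rw [Finset.mem_sdiff] at hy ⊢
      refine ⟨(hinv y).mp hy.1, fun h => hy.2 ?_⟩
      have := hts _ h
      rw [involution_apply ht2] at this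
      rw [this]; exact h
    have hcard : (o \ s).card % 2 = 1 := by
      rw [Finset.card_sdiff_of_subset hso, hs, ho.2]
    obtain ⟨y, hy, hty⟩ := exists_fixed_of_odd ht2 _ hY hcard
    rw [Finset.mem_sdiff] at hy
    exact fix_octad_of_six ht s hs ho hso hts hy.1 hy.2 hty x hx

/-- An octad meeting a dodecad in four points is determined by these four points. -/
theorem octad_eq_of_inter (hd : d ∈ dodecads) {o o₁ : Finset GolayPt} (ho : o ∈ octads)
    (ho₁ : o₁ ∈ octads) (h : o ∩ d = o₁ ∩ d) (h4 : (o ∩ d).card = 4) : o = o₁ := by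
  by_contra hne
  have hle : (o ∩ o₁).card ≤ 4 := by
    by_contra hc
    exact hne (octad_unique ho ho₁ (by omega))
  have hsub : o ∩ d ⊆ o ∩ o₁ := by
    intro p hp
    have hp' : p ∈ o₁ ∩ d := h ▸ hp
    exact Finset.mem_inter.mpr ⟨(Finset.mem_inter.mp hp).1, (Finset.mem_inter.mp hp').1⟩
  have heq : o ∩ d = o ∩ o₁ := Finset.eq_of_subset_of_card_le hsub (by rw [h4]; exact hle)
  have hcard : (o ∩ o₁).card = 4 := by rw [← heq, h4]
  obtain ⟨c, hc, rfl⟩ := (mem_octads_iff o).mp ho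
  obtain ⟨c₁, hc₁, rfl⟩ := (mem_octads_iff o₁).mp ho₁
  obtain ⟨hc1, hc8⟩ := mem_octadList.mp hc
  obtain ⟨hc1', hc8'⟩ := mem_octadList.mp hc₁
  have h1 := card_symmDiff_mk c c₁
  rw [← mk_and, card_mk] at hcard
  have h8 : popc (c ^^^ c₁) = 8 := by omega
  have hoct : mk (c ^^^ c₁) ∈ octads :=
    (mem_octads_iff _).mpr ⟨_, mem_octadList.mpr ⟨xor_mem_codeList hc1 hc1', h8⟩, rfl⟩
  have hempty : mk (c ^^^ c₁) ∩ d = ∅ := by
    rw [Finset.eq_empty_iff_forall_notMem]
    intro p hp
    rw [Finset.mem_inter, mk_xor, Finset.mem_symmDiff] at hp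
    obtain ⟨hp1, hpd⟩ := hp
    have e1 : p ∈ mk c ∩ d ↔ p ∈ mk c₁ ∩ d := by rw [h]
    rw [Finset.mem_inter, Finset.mem_inter] at e1
    exact prop_aux2 hp1 hpd e1
  have := octad_inter_dodecad hoct hd
  rw [hempty, Finset.card_empty] at this
  omega

/-- Every octad meeting a dodecad in four points is the fixed point set of an involution of the
stabiliser of the dodecad. -/
theorem exists_inv_44 (hd : d ∈ dodecads) {o : Finset GolayPt} (ho : o ∈ octads)
    (h4 : (o ∩ d).card = 4) :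
    ∃ z ∈ SD d, z ≠ 1 ∧ z * z = 1 ∧ ∀ x, z x = x ↔ x ∈ o := by
  have : Fact (Nat.Prime 2) := ⟨Nat.prime_two⟩
  have hTd : o ∩ d ⊆ d := Finset.inter_subset_right
  set L : Subgroup (Equiv.Perm GolayPt) :=
    SD d ⊓ fixingSubgroup (Equiv.Perm GolayPt) ((o ∩ d : Finset GolayPt) : Set GolayPt) with hL
  have hLmem : ∀ g, g ∈ L ↔ g ∈ SD d ∧ ∀ t ∈ o ∩ d, g t = t := by
    intro g
    rw [hL, Subgroup.mem_inf, mem_fixingSubgroup_iff]
    rfl
  obtain ⟨p, hpd, hpT⟩ := Finset.exists_mem_notMem_of_card_lt_card (s := o ∩ d) (t := d)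
    (by rw [h4, card_dodecad hd]; norm_num)
  have hLcard : Nat.card L = 8 := by
    have h := card_eq_mul_orb L p
    have h1 : Nat.card ↥(L ⊓ MulAction.stabilizer (Equiv.Perm GolayPt) p) = 1 := by
      have hbot : L ⊓ MulAction.stabilizer (Equiv.Perm GolayPt) p = ⊥ := by
        rw [eq_bot_iff]
        intro g hg
        rw [Subgroup.mem_bot]
        have hgL := (hLmem g).mp hg.1
        apply eq_one_of_fix_five hd hgL.1.1 hgL.1.2 (insert p (o ∩ d))
        · intro z hz
          rcases Finset.mem_insert.mp hz with rfl | hz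
          · exact hpd
          · exact hTd hz
        · rw [Finset.card_insert_of_notMem hpT, h4]
        · intro z hz
          rcases Finset.mem_insert.mp hz with rfl | hz
          · exact hg.2
          · exact hgL.2 z hz
      rw [hbot]
      exact Subgroup.card_bot
    have h2 : orb L p = d \ (o ∩ d) := by
      ext q
      rw [mem_orb, Finset.mem_sdiff]
      constructor
      · rintro ⟨g, hg, rfl⟩
        have hgL := (hLmem g).mp hg
        refine ⟨(apply_mem_iff hgL.1.2 p).mpr hpd, fun hq => hpT ?_⟩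
        have h3 : g p = p := g.injective (hgL.2 _ hq)
        rw [← h3]; exact hq
      · rintro ⟨hqd, hqT⟩
        have hnd : ∀ r, r ∉ o ∩ d → ((o ∩ d).toList ++ [r]).Nodup := by
          intro r hr
          rw [List.nodup_append]
          refine ⟨Finset.nodup_toList _, List.nodup_singleton r, ?_⟩
          intro a ha b hb
          rw [List.mem_singleton] at hb
          rw [hb]
          exact fun h => hr (h ▸ Finset.mem_toList.mp ha)
        have hmem : ∀ r, r ∈ d → ∀ x ∈ (o ∩ d).toList ++ [r], x ∈ d := by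
          intro r hr x hx
          rcases List.mem_append.mp hx with hx | hx
          · exact hTd (Finset.mem_toList.mp hx)
          · rw [List.mem_singleton] at hx; rw [hx]; exact hr
        obtain ⟨g, hg, hm⟩ := exists_map_in hd ((o ∩ d).toList ++ [p]) ((o ∩ d).toList ++ [q])
          (hnd p hpT) (hnd q hqT) (hmem p hpd) (hmem q hqd) (by simp)
          (by rw [List.length_append, Finset.length_toList, h4]; simp)
        rw [List.map_append] at hm
        obtain ⟨hm1, hm2⟩ := List.append_inj hm (List.length_map _)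
        refine ⟨g, (hLmem g).mpr ⟨hg, fun t ht =>
          map_eq_self _ hm1 t (Finset.mem_toList.mpr ht)⟩, ?_⟩
        simpa using hm2
    rw [h1, h2, Finset.card_sdiff_of_subset hTd, card_dodecad hd, h4] at h
    omega
  obtain ⟨z, hzL, hz⟩ := exists_order L 2 (by rw [hLcard]; norm_num)
  have hzL' := (hLmem z).mp hzL
  have hz1 : z ≠ 1 := ne_one_of_order (by norm_num) hz
  have hz2 : z * z = 1 := by
    have := pow_orderOf_eq_one z
    rwa [hz, pow_two] at this
  have hzM : z ∈ M24 := hzL'.1.1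
  -- the fixed points
  have hTF : o ∩ d ⊆ fixedPts z := fun t ht => mem_fixedPts.mpr (hzL'.2 t ht)
  have hcard4 : 4 ≤ (fixedPts z).card := by
    have := Finset.card_le_card hTF
    rwa [h4] at this
  have hne4 : (fixedPts z).card ≠ 4 := fun h => no_inv_four hzM hz2 h
  obtain ⟨x', hx'F, hx'T⟩ := Finset.exists_mem_notMem_of_card_lt_card (s := o ∩ d)
    (t := fixedPts z) (by rw [h4]; omega)
  have hs : (insert x' (o ∩ d)).card = 5 := by rw [Finset.card_insert_of_notMem hx'T, h4]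
  have hsfix : ∀ y ∈ insert x' (o ∩ d), z y = y := by
    intro y hy
    rcases Finset.mem_insert.mp hy with rfl | hy
    · exact mem_fixedPts.mp hx'F
    · exact hzL'.2 y hy
  obtain ⟨o₁, ho₁, hso₁⟩ := exists_octad_of_five _ hs
  have hiff := inv_fix_iff hzM hz2 hz1 _ hs ho₁ hso₁ hsfix
  have hinter : o₁ ∩ d = o ∩ d := by
    symm
    apply Finset.eq_of_subset_of_card_le
    · intro t ht
      exact Finset.mem_inter.mpr ⟨hso₁ (Finset.mem_insert_of_mem ht), hTd ht⟩
    · rw [h4]
      refine le_trans (Finset.card_le_card ?_) (fix_le_four hd hzL'.1 hz1)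
      intro t ht
      rw [Finset.mem_inter] at ht
      exact Finset.mem_filter.mpr ⟨ht.2, (hiff t).mpr ht.1⟩
  have heq : o₁ = o := octad_eq_of_inter hd ho₁ ho hinter (by rw [hinter, h4])
  refine ⟨z, hzL'.1, hz1, hz2, fun x => ?_⟩
  rw [← heq]
  exact hiff x

/-- Twelve octads through the residue 0 meeting the base dodecad in four points and spanning
the code. -/
def E44 : List Nat :=
  [15777, 18147, 52005, 118953, 133817, 153797, 298027, 542009, 1075305, 2115979, 4216883,
   8391797]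

theorem E44_spec : ∀ e ∈ E44, e ∈ octadList ∧ popc (e &&& d0) = 4 ∧ e.testBit 0 = true := by
  intro e he
  have h : E44.all (fun e => inCode e && (popc e == 8) && (popc (e &&& d0) == 4) &&
      e.testBit 0) = true := by
    decide +kernel
  have := List.all_eq_true.mp h e he
  simp only [Bool.and_eq_true, beq_iff_eq] at this
  exact ⟨mem_octadList.mpr ⟨inCode_sound this.1.1.1, this.1.1.2⟩, this.1.2, this.2⟩

theorem echelon_sub_E44 : ∀ e ∈ echelon, e ∈ spanList E44 := by
  intro e he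
  have h : echelon.all (fun e => (spanList E44).contains e) = true := by decide +kernel
  have := List.all_eq_true.mp h e he
  simpa using this

/-- A permutation mapping the twelve octads of `E44` to octads lies in `M24`. -/
theorem mem_M24_of_44 (π : Equiv.Perm GolayPt) (h : ∀ e ∈ E44, π • mk e ∈ octads) :
    π ∈ M24 := by
  apply mem_M24_of_subset
  rintro _ ⟨s, hs, rfl⟩
  obtain ⟨c, hc, rfl⟩ := (mem_supports_iff s).mp hs
  have key : ∀ c ∈ spanList E44, ∃ c' ∈ codeList, π • mk c = mk c' := by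
    apply spanList_induction
    · exact ⟨0, zero_mem_codeList, by rw [mk_zero]; simp⟩
    · rintro a b ⟨a', ha', ha⟩ ⟨b', hb', hb⟩
      refine ⟨a' ^^^ b', xor_mem_codeList ha' hb', ?_⟩
      rw [mk_xor, mk_xor, Finset.smul_finset_symmDiff, ha, hb]
    · intro e he
      obtain ⟨c', hc', hcc⟩ := (mem_octads_iff _).mp (h e he)
      exact ⟨c', (mem_octadList.mp hc').1, hcc.symm⟩
  obtain ⟨c', hc', h'⟩ := key c (spanList_subset echelon_sub_E44 c
    (codeList_sub_span_echelon c hc))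
  change π • mk c ∈ supports (golayCode : Set (GolayPt → ZMod 2))
  rw [h']
  exact mk_mem_supports hc'

/-- A permutation conjugating `M11` into `M24` lies in `M24`. -/
theorem mem_M24_of_conj (π : Equiv.Perm GolayPt) (hπ : ∀ g ∈ Spor.M11, π * g * π⁻¹ ∈ M24) :
    π ∈ M24 := by
  apply mem_M24_of_44
  intro e he
  obtain ⟨heo, he4, he0⟩ := E44_spec e he
  have ho : mk e ∈ octads := (mem_octads_iff _).mpr ⟨e, heo, rfl⟩
  have h4 : (mk e ∩ mk d0).card = 4 := by rw [card_inter_mk]; exact he4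
  obtain ⟨z, hz, hz1, hz2, hfix⟩ := exists_inv_44 mk_d0_mem ho h4
  have hz0 : z (some 0) = some 0 := (hfix _).mpr (mem_mk.mpr he0)
  have hz11 : z ∈ Spor.M11 := mem_M11.mpr ⟨hz.1, hz.2, hz0⟩
  have hwM : π * z * π⁻¹ ∈ M24 := hπ z hz11
  have hw1 : π * z * π⁻¹ ≠ 1 := by
    intro h
    apply hz1
    have : z = π⁻¹ * (π * z * π⁻¹) * π := by group
    rw [this, h]
    group
  have hw2 : π * z * π⁻¹ * (π * z * π⁻¹) = 1 := by
    calc π * z * π⁻¹ * (π * z * π⁻¹) = π * (z * z) * π⁻¹ := by group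
      _ = 1 := by rw [hz2]; group
  have hwfix : ∀ x, (π * z * π⁻¹) x = x ↔ x ∈ π • mk e := by
    intro x
    rw [← Finset.inv_smul_mem_iff, ← hfix]
    show π (z (π⁻¹ x)) = x ↔ z (π⁻¹ x) = π⁻¹ x
    constructor
    · intro h
      apply π.injective
      rw [h]
      exact ((Equiv.eq_symm_apply π).mp rfl).symm
    · intro h
      rw [h]
      exact (Equiv.eq_symm_apply π).mp rfl
  have hcard : (π • mk e).card = 8 := by rw [Finset.card_smul_finset, ho.2]
  obtain ⟨s, hs_sub, hs⟩ := Finset.exists_subset_card_eq (s := π • mk e) (n := 5) (by omega)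
  obtain ⟨o', ho', hso'⟩ := exists_octad_of_five s hs
  have hiff := inv_fix_iff hwM hw2 hw1 s hs ho' hso' (fun z' hz' => (hwfix z').mpr (hs_sub hz'))
  have : π • mk e = o' := by
    ext x
    rw [← hwfix, hiff]
  rw [this]
  exact ho'

end Cfsg.Agent.Lib.Helper35.M12Base
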