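-- Subgroups of index 12 of the stabiliser of a dodecad in M24 fix a point (helper35), and the
-- automorphisms of M12: a subgroup of order 660 fixing a point of the dodecad fixes a point
-- outside (Burnside counting on a pair of hexads), a subgroup of order 7920 fixes one of the
-- 24 points, every automorphism of M12 is conjugation by an element of M24 preserving the
-- pair {dodecad, complement}.
import Cfsg.Agent.Lib.Helper35.M12Base

set_option autoImplicit false

namespace Cfsg.Agent.Lib.Helper35.M12Aut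

open Cfsg Cfsg.Spor Cfsg.Agent.Lib.Helper7.GolayBase Cfsg.Agent.Lib.Helper7.GolayCode
  Cfsg.Agent.Lib.Helper7.M24Mem Cfsg.Agent.Lib.Helper7.GolayRigid
  Cfsg.Agent.Lib.Helper7.M24Main Cfsg.Agent.Lib.Helper7.M24Octad
  Cfsg.Agent.Lib.Helper7.M24Octad2 Cfsg.Agent.Lib.Helper7.GolayCount
  Cfsg.Agent.Lib.Helper7.M12Core Cfsg.Agent.Lib.Helper7.M12Main Cfsg.Agent.Lib.Helper7.M12Thm
  Cfsg.Agent.Lib.Helper7.M12Hexad Cfsg.Agent.Lib.Helper7.M12Hexad2
  Cfsg.Agent.Lib.Helper7.M11Twist Cfsg.Agent.Lib.Helper7.ChainGen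
  Cfsg.Agent.Lib.Helper7.M24Core
  Cfsg.Agent.Lib.Helper35.PermAut Cfsg.Agent.Lib.Helper35.M24Fix Cfsg.Agent.Lib.Helper35.M24Aut
  Cfsg.Agent.Lib.Helper35.PermAut3 Cfsg.Agent.Lib.Helper35.M12Base
open scoped Pointwise

variable {d : Finset GolayPt}

theorem orb_subset {K : Subgroup (Equiv.Perm GolayPt)} {S : Finset GolayPt}
    (hS : ∀ k ∈ K, ∀ y ∈ S, k y ∈ S) {x : GolayPt} (hx : x ∈ S) : orb K x ⊆ S := by
  intro y hy
  obtain ⟨k, hk, rfl⟩ := mem_orb.mp hy
  exact hS k hk x hx

/-- An element of odd order permuting a set and its complement in `d` fixes the set. -/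
theorem smul_eq_of_odd {g : Equiv.Perm GolayPt} {X : Finset GolayPt} (hX : X ⊆ d)
    (hgd : g • d = d) (h : g • X = X ∨ g • X = d \ X) (n : ℕ) (hn : g ^ (2 * n + 1) = 1) :
    g • X = X := by
  rcases h with h | h
  · exact h
  · have h2 : (g ^ 2) • X = X := by
      rw [pow_two, mul_smul, h, Finset.smul_finset_sdiff, hgd, h, Finset.sdiff_sdiff_eq_self hX]
    have h3 : ∀ m : ℕ, ((g ^ 2) ^ m) • X = X := by
      intro m
      induction m with
      | zero => simp
      | succ m ih => rw [pow_succ, mul_smul, h2, ih]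
    have h4 : g ^ (2 * n + 1) = g * (g ^ 2) ^ n := by rw [pow_succ', pow_mul]
    rw [h4] at hn
    have h5 : (g * (g ^ 2) ^ n) • X = g • X := by rw [mul_smul, h3]
    rw [hn, one_smul] at h5
    exact h5.symm

/-- The orbit of the unique fixed point (in the invariant set `S`) of an element of prime order
`p` is a single point or, if `|S| ≤ p + 1`, has `p + 1` points. -/
theorem orb_eq_of_fixed {K : Subgroup (Equiv.Perm GolayPt)} {S : Finset GolayPt}
    (hS : ∀ k ∈ K, ∀ y ∈ S, k y ∈ S) {x : GolayPt} (hx : x ∈ S) {g : Equiv.Perm GolayPt}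
    (hg : g ∈ K) (hgp : orderOf g = 11) (hgx : g x = x) (huniq : ∀ y ∈ S, g y = y → y = x)
    (hcard : S.card = 12) (hmove : ∃ k ∈ K, k x ≠ x) : orb K x = S := by
  have : Fact (Nat.Prime 11) := ⟨by norm_num⟩
  have hsub : orb K x ⊆ S := orb_subset hS hx
  have hmod := orb_card_mod_one (K := K) (x := x) hg hgp hgx
    (fun y hy hgy => huniq y (hsub hy) hgy)
  have hle := Finset.card_le_card hsub
  rw [hcard] at hle
  have hpos := orb_card_pos K x
  have hne1 : (orb K x).card ≠ 1 := by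
    intro h1
    obtain ⟨k, hk, hne⟩ := hmove
    obtain ⟨w, hw⟩ := Finset.card_eq_one.mp h1
    have e1 : x ∈ orb K x := self_mem_orb K x
    have e2 : k x ∈ orb K x := apply_mem_orb e1 hk
    rw [hw, Finset.mem_singleton] at e1 e2
    exact hne (e2.trans e1.symm)
  apply Finset.eq_of_subset_of_card_le hsub
  rw [hcard]
  omega

/-- The orbit of a point of an invariant set of 11 points on which an element of order 11 acts
without fixed points is the whole set. -/
theorem orb_eq_of_free {K : Subgroup (Equiv.Perm GolayPt)} {S : Finset GolayPt}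
    (hS : ∀ k ∈ K, ∀ y ∈ S, k y ∈ S) {x : GolayPt} (hx : x ∈ S) {g : Equiv.Perm GolayPt}
    (hg : g ∈ K) (hgp : orderOf g = 11) (hfree : ∀ y ∈ S, g y ≠ y) (hcard : S.card = 11) :
    orb K x = S := by
  have : Fact (Nat.Prime 11) := ⟨by norm_num⟩
  have hsub : orb K x ⊆ S := orb_subset hS hx
  have hmod := orb_card_mod_zero (K := K) (x := x) hg hgp (fun y hy => hfree y (hsub hy))
  have hle := Finset.card_le_card hsub
  rw [hcard] at hle
  have hpos := orb_card_pos K x
  apply Finset.eq_of_subset_of_card_le hsub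
  rw [hcard]
  omega

/-- The unique fixed point in a dodecad of an element of order 11 of its stabiliser. -/
theorem exists_fix_eleven (hd : d ∈ dodecads) {g : Equiv.Perm GolayPt} (hg : g ∈ SD d)
    (ho : orderOf g = 11) : ∃ a ∈ d, g a = a ∧ ∀ y ∈ d, g y = y → y = a := by
  obtain ⟨a, ha⟩ := Finset.card_eq_one.mp (fix_eleven hd hg ho)
  have hamem : a ∈ d.filter (fun y => g y = y) := by rw [ha]; exact Finset.mem_singleton_self _
  rw [Finset.mem_filter] at hamem
  refine ⟨a, hamem.1, hamem.2, fun y hy hgy => ?_⟩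
  have : y ∈ d.filter (fun y => g y = y) := Finset.mem_filter.mpr ⟨hy, hgy⟩
  rw [ha] at this
  exact Finset.mem_singleton.mp this

theorem exists_ne_mem (hd : d ∈ dodecads) (a : GolayPt) : ∃ b ∈ d, b ≠ a := by
  obtain ⟨b, hb, hb'⟩ := Finset.exists_mem_notMem_of_card_lt_card (s := {a}) (t := d)
    (by rw [card_dodecad hd]; simp)
  exact ⟨b, hb, fun h => hb' (by rw [h]; exact Finset.mem_singleton_self _)⟩

/-- A subgroup of order 660 of the stabiliser of a dodecad fixing a point of the dodecad fixes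
a point outside the dodecad. -/
theorem order660_fix (hd : d ∈ dodecads) {a : GolayPt} (ha : a ∈ d)
    (L : Subgroup (Equiv.Perm GolayPt)) (hL : L ≤ SD d) (hLa : ∀ h ∈ L, h a = a)
    (hcard : Nat.card L = 660) : ∃ a', a' ∉ d ∧ ∀ h ∈ L, h a' = a' := by
  have hp11 : Fact (Nat.Prime 11) := ⟨by norm_num⟩
  have hd' := compl_mem_dodecads hd
  have hLd : ∀ k ∈ L, k • d = d := fun k hk => (mem_SD.mp (hL hk)).2
  have hL' : L ≤ SD (Finset.univ \ d) := by rw [SD_compl]; exact hL
  have hLd' : ∀ k ∈ L, k • (Finset.univ \ d) = Finset.univ \ d :=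
    fun k hk => (mem_SD.mp (hL' hk)).2
  obtain ⟨g11, hg11L, hg11⟩ := exists_order L 11 (by rw [hcard]; norm_num)
  obtain ⟨a', ha'd, hg11a', ha'uniq⟩ := exists_fix_eleven hd' (hL' hg11L) hg11
  obtain ⟨a₀, ha₀d, hg11a₀, hauniq₀⟩ := exists_fix_eleven hd (hL hg11L) hg11
  have hauniq : ∀ y ∈ d, g11 y = y → y = a := by
    intro y hy hgy
    rw [hauniq₀ y hy hgy, hauniq₀ a ha (hLa _ hg11L)]
  by_contra hno
  push Not at hno
  -- `L` is transitive outside `d`
  have horb' : orb L a' = Finset.univ \ d :=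
    orb_eq_of_fixed (fun k hk y hy => (apply_mem_iff (hLd' k hk) y).mpr hy) ha'd hg11L hg11
      hg11a' ha'uniq (card_compl hd) (hno a' (mem_compl.mp ha'd))
  have hstab' : ∀ x', x' ∉ d →
      Nat.card ↥(L ⊓ MulAction.stabilizer (Equiv.Perm GolayPt) x') = 55 := by
    intro x' hx'
    have h := card_eq_mul_orb L x'
    have h2 : orb L x' = orb L a' := orb_eq_of_mem (by rw [horb']; exact mem_compl.mpr hx')
    rw [h2, horb', card_compl hd, hcard] at h
    omega
  -- a second point of `d`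
  obtain ⟨b, hbd, hba⟩ := exists_ne_mem hd a
  have horb_b : orb L b = d.erase a :=
    orb_eq_of_free (fun k hk y hy => by
      rw [Finset.mem_erase] at hy ⊢
      exact ⟨fun h => hy.1 (k.injective (by rw [h, hLa k hk])),
        (apply_mem_iff (hLd k hk) y).mpr hy.2⟩) (Finset.mem_erase.mpr ⟨hba, hbd⟩) hg11L hg11
      (fun y hy hgy => (Finset.mem_erase.mp hy).1 (hauniq y (Finset.mem_erase.mp hy).2 hgy))
      (by rw [Finset.card_erase_of_mem ha, card_dodecad hd])
  set Lb := L ⊓ MulAction.stabilizer (Equiv.Perm GolayPt) b with hLb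
  have hLbcard : Nat.card Lb = 60 := by
    have h : Nat.card L = Nat.card Lb * (orb L b).card := card_eq_mul_orb L b
    rw [horb_b, Finset.card_erase_of_mem ha, card_dodecad hd, hcard] at h
    omega
  -- non-identity elements of `Lb` fix at most four points
  have hfix4 : ∀ k ∈ Lb, k ≠ 1 → (Finset.univ.filter (fun x => k x = x)).card ≤ 4 := by
    intro k hk hk1
    by_cases hex : ∃ x', x' ∉ d ∧ k x' = x'
    · obtain ⟨x', hx'd, hkx'⟩ := hex
      set M := Lb ⊓ MulAction.stabilizer (Equiv.Perm GolayPt) x' with hM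
      have hkM : k ∈ M := ⟨hk, hkx'⟩
      have hM1 : Nat.card M ∣ 60 := hLbcard ▸ Subgroup.card_dvd_of_le inf_le_left
      have hM2 : Nat.card M ∣ 55 := by
        rw [← hstab' x' hx'd]
        apply Subgroup.card_dvd_of_le
        intro m hm
        exact ⟨hm.1.1, hm.2⟩
      have hM5 : Nat.card M ∣ 5 := by
        have := Nat.dvd_gcd hM1 hM2
        norm_num at this
        exact this
      have hord : orderOf k ∣ 5 := by
        have h1 : orderOf (⟨k, hkM⟩ : M) ∣ Nat.card M := orderOf_dvd_natCard _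
        rw [← Subgroup.orderOf_coe] at h1
        exact h1.trans hM5
      have hord5 : orderOf k = 5 := by
        rcases (Nat.dvd_prime (by norm_num : Nat.Prime 5)).mp hord with h | h
        · exact absurd (orderOf_eq_one_iff.mp h) hk1
        · exact h
      exact le_of_eq (card_fixedPts_5 (hL hk.1).1 hord5)
    · push Not at hex
      have hsub : Finset.univ.filter (fun x => k x = x) ⊆ d.filter (fun y => k y = y) := by
        intro x hx
        rw [Finset.mem_filter] at hx ⊢
        refine ⟨?_, hx.2⟩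
        by_contra hxd
        exact hex x hxd hx.2
      exact le_trans (Finset.card_le_card hsub) (fix_le_four hd (hL hk.1) hk1)
  -- the pair of hexads attached to `a` and `b`
  obtain ⟨Y, hYsub, hYcard, hY⟩ := exists_hexad_pair hd' (x := a) (y := b)
    (by rw [mem_compl]; exact not_not.mpr ha) (by rw [mem_compl]; exact not_not.mpr hbd)
    (Ne.symm hba)
  set K := Lb ⊓ MulAction.stabilizer (Equiv.Perm GolayPt) Y with hK
  have hK30 : 60 ≤ Nat.card K * 2 := by
    have h := card_le_mul_of_orbit Lb Y {Y, (Finset.univ \ d) \ Y} (by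
      intro k hk
      rw [Finset.mem_insert, Finset.mem_singleton]
      exact hY k (hL' hk.1) (hLa k hk.1) hk.2)
    rw [hLbcard] at h
    exact le_trans h (Nat.mul_le_mul_left _ Finset.card_le_two)
  -- at least five orbits
  obtain ⟨c, hcd, hcab⟩ := Finset.exists_mem_notMem_of_card_lt_card (s := {a, b}) (t := d)
    (by rw [card_dodecad hd]; exact lt_of_le_of_lt Finset.card_le_two (by norm_num))
  rw [Finset.mem_insert, Finset.mem_singleton, not_or] at hcab
  obtain ⟨y, hyY⟩ : Y.Nonempty := Finset.card_pos.mp (by rw [hYcard]; norm_num)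
  obtain ⟨y', hy'd, hy'Y⟩ := Finset.exists_mem_notMem_of_card_lt_card (s := Y)
    (t := Finset.univ \ d) (by rw [hYcard, card_compl hd]; norm_num)
  have hyd : y ∉ d := mem_compl.mp (hYsub hyY)
  have hy'd' : y' ∉ d := mem_compl.mp hy'd
  let f : GolayPt → Fin 5 := fun x =>
    if x = a then 0 else if x = b then 1 else if x ∈ d then 2 else if x ∈ Y then 3 else 4
  have hf : ∀ k ∈ K, ∀ x, f (k x) = f x := by
    intro k hk x
    have h1 : k x = a ↔ x = a := by
      constructor
      · intro h; exact k.injective (by rw [h, hLa k hk.1.1])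
      · intro h; rw [h]; exact hLa k hk.1.1
    have hkb : k b = b := hk.1.2
    have h2 : k x = b ↔ x = b := by
      constructor
      · intro h; exact k.injective (by rw [h, hkb])
      · intro h; rw [h]; exact hkb
    have h3 : k x ∈ d ↔ x ∈ d := apply_mem_iff (hLd k hk.1.1) x
    have h4 : k x ∈ Y ↔ x ∈ Y := apply_mem_iff hk.2 x
    simp only [f, h1, h2, h3, h4]
  have hsurj : Function.Surjective f := by
    intro i
    fin_cases i
    · exact ⟨a, by simp [f]⟩
    · exact ⟨b, by simp [f, hba]⟩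
    · exact ⟨c, by simp [f, hcab.1, hcab.2, hcd]⟩
    · refine ⟨y, ?_⟩
      have e1 : y ≠ a := fun h => hyd (h ▸ ha)
      have e2 : y ≠ b := fun h => hyd (h ▸ hbd)
      simp [f, e1, e2, hyd, hyY]
    · refine ⟨y', ?_⟩
      have e1 : y' ≠ a := fun h => hy'd' (h ▸ ha)
      have e2 : y' ≠ b := fun h => hy'd' (h ▸ hbd)
      simp [f, e1, e2, hy'd', hy'Y]
  have hB := burnside_le K f hf hsurj 4 (fun k hk hk1 => hfix4 k hk.1 hk1)
  rw [card_golayPt] at hB
  omega

/-- Every subgroup of order 7920 (index 12) of the stabiliser of a dodecad fixes a point. -/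
theorem index12_fix (hd : d ∈ dodecads) (H : Subgroup (Equiv.Perm GolayPt)) (hH : H ≤ SD d)
    (hcard : Nat.card H = 7920) : ∃ a, ∀ h ∈ H, h a = a := by
  have hp11 : Fact (Nat.Prime 11) := ⟨by norm_num⟩
  have hp5 : Fact (Nat.Prime 5) := ⟨by norm_num⟩
  have hp3 : Fact (Nat.Prime 3) := ⟨by norm_num⟩
  have hd' := compl_mem_dodecads hd
  have hHd : ∀ k ∈ H, k • d = d := fun k hk => (mem_SD.mp (hH hk)).2
  have hH' : H ≤ SD (Finset.univ \ d) := by rw [SD_compl]; exact hH
  have hHd' : ∀ k ∈ H, k • (Finset.univ \ d) = Finset.univ \ d :=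
    fun k hk => (mem_SD.mp (hH' hk)).2
  by_contra hno
  push Not at hno
  obtain ⟨g11, hg11H, hg11⟩ := exists_order H 11 (by rw [hcard]; norm_num)
  obtain ⟨a, had, hg11a, hauniq⟩ := exists_fix_eleven hd (hH hg11H) hg11
  have horb : orb H a = d :=
    orb_eq_of_fixed (fun k hk y hy => (apply_mem_iff (hHd k hk) y).mpr hy) had hg11H hg11
      hg11a hauniq (card_dodecad hd) (hno a)
  set Ha := H ⊓ MulAction.stabilizer (Equiv.Perm GolayPt) a with hHa
  have hHacard : Nat.card Ha = 660 := by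
    have h : Nat.card H = Nat.card Ha * (orb H a).card := card_eq_mul_orb H a
    rw [horb, card_dodecad hd, hcard] at h
    omega
  obtain ⟨a', ha'd, hfixa'⟩ := order660_fix hd had Ha (inf_le_left.trans hH)
    (fun h hh => hh.2) hHacard
  have hg11Ha : g11 ∈ Ha := ⟨hg11H, hg11a⟩
  have hg11a' : g11 a' = a' := hfixa' g11 hg11Ha
  obtain ⟨a₀', ha₀'d, hg11a₀', ha₀'uniq⟩ := exists_fix_eleven hd' (hH' hg11H) hg11
  have ha'uniq : ∀ y ∈ Finset.univ \ d, g11 y = y → y = a' := by
    intro y hy hgy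
    rw [ha₀'uniq y hy hgy, ha₀'uniq a' (mem_compl.mpr ha'd) hg11a']
  have horb' : orb H a' = Finset.univ \ d :=
    orb_eq_of_fixed (fun k hk y hy => (apply_mem_iff (hHd' k hk) y).mpr hy) (mem_compl.mpr ha'd)
      hg11H hg11 hg11a' ha'uniq (card_compl hd) (hno a')
  set Ha' := H ⊓ MulAction.stabilizer (Equiv.Perm GolayPt) a' with hHa'
  have hHa'card : Nat.card Ha' = 660 := by
    have h : Nat.card H = Nat.card Ha' * (orb H a').card := card_eq_mul_orb H a'
    rw [horb', card_compl hd, hcard] at h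
    omega
  have hle : Ha ≤ Ha' := fun h hh => ⟨hh.1, hfixa' h hh⟩
  have heq : Ha = Ha' := Subgroup.eq_of_le_of_card_ge hle (by rw [hHacard, hHa'card])
  -- a second point of `d`
  obtain ⟨b, hbd, hba⟩ := exists_ne_mem hd a
  have horb_b : orb Ha b = d.erase a :=
    orb_eq_of_free (fun k hk y hy => by
      rw [Finset.mem_erase] at hy ⊢
      exact ⟨fun h => hy.1 (k.injective (by rw [h]; exact hk.2.symm)),
        (apply_mem_iff (hHd k hk.1) y).mpr hy.2⟩) (Finset.mem_erase.mpr ⟨hba, hbd⟩) hg11Ha hg11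
      (fun y hy hgy => (Finset.mem_erase.mp hy).1 (hauniq y (Finset.mem_erase.mp hy).2 hgy))
      (by rw [Finset.card_erase_of_mem had, card_dodecad hd])
  set Hab := Ha ⊓ MulAction.stabilizer (Equiv.Perm GolayPt) b with hHab
  have hHabcard : Nat.card Hab = 60 := by
    have h : Nat.card Ha = Nat.card Hab * (orb Ha b).card := card_eq_mul_orb Ha b
    rw [horb_b, Finset.card_erase_of_mem had, card_dodecad hd, hHacard] at h
    omega
  -- an element of `H` mapping `a` to `b`
  obtain ⟨h₀, hh₀, hh₀a⟩ : ∃ h₀ ∈ H, h₀ a = b := mem_orb.mp (by rw [horb]; exact hbd)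
  have hy'd : h₀ a' ∉ d := fun h => ha'd ((apply_mem_iff (hHd h₀ hh₀) a').mp h)
  have hne : a' ≠ h₀ a' := by
    intro h
    have h1 : h₀ ∈ Ha' := ⟨hh₀, h.symm⟩
    rw [← heq] at h1
    have h2 : h₀ a = a := h1.2
    exact hba (hh₀a ▸ h2)
  have hfix2 : ∀ k ∈ Hab, k a' = a' ∧ k (h₀ a') = h₀ a' := by
    intro k hk
    refine ⟨hfixa' k hk.1, ?_⟩
    have hkb : k b = b := hk.2
    have h1 : h₀⁻¹ * k * h₀ ∈ Ha := by
      refine ⟨H.mul_mem (H.mul_mem (H.inv_mem hh₀) hk.1.1) hh₀, ?_⟩
      show h₀⁻¹ (k (h₀ a)) = a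
      rw [hh₀a, hkb, ← hh₀a, Equiv.Perm.inv_eq_iff_eq.mpr rfl]
    have h3 : h₀⁻¹ (k (h₀ a')) = a' := hfixa' _ h1
    rw [Equiv.Perm.inv_eq_iff_eq] at h3
    exact h3
  obtain ⟨X, hXd, hXcard, hX⟩ := exists_hexad_pair hd ha'd hy'd hne
  have hXfix : ∀ k ∈ Hab, ∀ n : ℕ, k ^ (2 * n + 1) = 1 → k • X = X := by
    intro k hk n hn
    have hk2 := hfix2 k hk
    exact smul_eq_of_odd hXd (hHd k hk.1.1) (hX k (hH hk.1.1) hk2.1 hk2.2) n hn
  obtain ⟨g5, hg5H, hg5⟩ := exists_order Hab 5 (by rw [hHabcard]; norm_num)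
  obtain ⟨g3, hg3H, hg3⟩ := exists_order Hab 3 (by rw [hHabcard]; norm_num)
  have hg5pow : g5 ^ 5 = 1 := by rw [← hg5]; exact pow_orderOf_eq_one g5
  have hg3pow : g3 ^ 3 = 1 := by rw [← hg3]; exact pow_orderOf_eq_one g3
  have hg5X : g5 • X = X := hXfix g5 hg5H 2 hg5pow
  have hg3X : g3 • X = X := hXfix g3 hg3H 1 hg3pow
  have hg5a : g5 a = a := hg5H.1.2
  have hg5b : g5 b = b := hg5H.2
  have hg3a : g3 a = a := hg3H.1.2
  have hg3b : g3 b = b := hg3H.2
  have hg5d : g5 • d = d := hHd g5 hg5H.1.1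
  have hg3d : g3 • d = d := hHd g3 hg3H.1.1
  have hinvX : ∀ g : Equiv.Perm GolayPt, g • d = d → g • X = X → ∀ y ∈ d \ X, g y ∈ d \ X := by
    intro g hgd hgX y hy
    rw [Finset.mem_sdiff] at hy ⊢
    exact ⟨(apply_mem_iff hgd y).mpr hy.1, fun h => hy.2 ((apply_mem_iff hgX y).mp h)⟩
  -- the fixed points of `g5` in `d` are `a` and `b`
  have hf5 := fix_five hd (hH hg5H.1.1) hg5
  have hfix5 : ∀ y ∈ d, g5 y = y → y = a ∨ y = b := by
    intro y hy hgy
    by_contra hcon
    push Not at hcon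
    have hsub : ({y, a, b} : Finset GolayPt) ⊆ d.filter (fun y => g5 y = y) := by
      intro z hz
      rw [Finset.mem_insert, Finset.mem_insert, Finset.mem_singleton] at hz
      rcases hz with rfl | rfl | rfl
      · exact Finset.mem_filter.mpr ⟨hy, hgy⟩
      · exact Finset.mem_filter.mpr ⟨had, hg5a⟩
      · exact Finset.mem_filter.mpr ⟨hbd, hg5b⟩
    have h1 := Finset.card_le_card hsub
    rw [hf5, Finset.card_insert_of_notMem (by
      rw [Finset.mem_insert, Finset.mem_singleton, not_or]; exact hcon),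
      Finset.card_pair (Ne.symm hba)] at h1
    omega
  have h5X := card_fixed_modEq g5 (p := 5) (n := 1) (by rw [pow_one]; exact hg5pow) X
    (fun y hy => (apply_mem_iff hg5X y).mpr hy)
  have h5X' := card_fixed_modEq g5 (p := 5) (n := 1) (by rw [pow_one]; exact hg5pow) (d \ X)
    (hinvX g5 hg5d hg5X)
  rw [hXcard] at h5X
  rw [Finset.card_sdiff_of_subset hXd, card_dodecad hd, hXcard] at h5X'
  have hex1 : ∃ p ∈ X, g5 p = p := by
    by_contra hcon
    push Not at hcon
    have h1 : X.filter (fun y => g5 y = y) = ∅ := Finset.filter_eq_empty_iff.mpr hcon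
    rw [h1, Finset.card_empty] at h5X
    exact absurd h5X (by decide)
  have hex2 : ∃ q ∈ d \ X, g5 q = q := by
    by_contra hcon
    push Not at hcon
    have h1 : (d \ X).filter (fun y => g5 y = y) = ∅ := Finset.filter_eq_empty_iff.mpr hcon
    rw [h1, Finset.card_empty] at h5X'
    exact absurd h5X' (by decide)
  obtain ⟨p, hpX, hgp⟩ := hex1
  obtain ⟨q, hqX, hgq⟩ := hex2
  have hpab := hfix5 p (hXd hpX) hgp
  have hqab := hfix5 q (Finset.mem_sdiff.mp hqX).1 hgq
  have hp3 : g3 p = p := by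
    rcases hpab with rfl | rfl
    · exact hg3a
    · exact hg3b
  have hq3 : g3 q = q := by
    rcases hqab with rfl | rfl
    · exact hg3a
    · exact hg3b
  -- the fixed points of `g3`
  have hf3 := fix_three hd (hH hg3H.1.1) hg3
  have h3X := card_fixed_modEq g3 (p := 3) (n := 1) (by rw [pow_one]; exact hg3pow) X
    (fun y hy => (apply_mem_iff hg3X y).mpr hy)
  have h3X' := card_fixed_modEq g3 (p := 3) (n := 1) (by rw [pow_one]; exact hg3pow) (d \ X)
    (hinvX g3 hg3d hg3X)
  rw [hXcard] at h3X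
  rw [Finset.card_sdiff_of_subset hXd, card_dodecad hd, hXcard] at h3X'
  have hsplit : (d.filter (fun y => g3 y = y)).card =
      (X.filter (fun y => g3 y = y)).card + ((d \ X).filter (fun y => g3 y = y)).card := by
    rw [← Finset.card_union_of_disjoint (Finset.disjoint_filter_filter Finset.disjoint_sdiff),
      ← Finset.filter_union, Finset.union_sdiff_of_subset hXd]
  have hc1 : 0 < (X.filter (fun y => g3 y = y)).card :=
    Finset.card_pos.mpr ⟨p, Finset.mem_filter.mpr ⟨hpX, hp3⟩⟩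
  have hc2 : 0 < ((d \ X).filter (fun y => g3 y = y)).card :=
    Finset.card_pos.mpr ⟨q, Finset.mem_filter.mpr ⟨hqX, hq3⟩⟩
  have e1 : 6 % 3 = (X.filter (fun y => g3 y = y)).card % 3 := h3X
  have e2 : 6 % 3 = ((d \ X).filter (fun y => g3 y = y)).card % 3 := h3X'
  omega

theorem card_SD (hd : d ∈ dodecads) : Nat.card (SD d) = 95040 := by
  rw [← card_stab d hd, ← Subgroup.card_subtype M24 (MulAction.stabilizer M24 d)]
  congr 2
  ext g
  simp only [Subgroup.mem_map, MulAction.mem_stabilizer_iff, Subgroup.coe_subtype,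
    Subtype.exists, exists_and_right, exists_eq_right, mem_SD]
  constructor
  · rintro ⟨hg, hgd⟩
    exact ⟨hg, hgd⟩
  · rintro ⟨hg, hgd⟩
    exact ⟨hg, hgd⟩

theorem orb_SD (hd : d ∈ dodecads) {x : GolayPt} (hx : x ∈ d) : orb (SD d) x = d := by
  ext y
  rw [mem_orb]
  constructor
  · rintro ⟨g, hg, rfl⟩
    exact (apply_mem_iff (mem_SD.mp hg).2 x).mpr hx
  · intro hy
    exact exists_map_in1 hd hx hy

/-- Every point stabiliser in the stabiliser of a dodecad has order 7920. -/
theorem card_stab_pt (hd : d ∈ dodecads) (x : GolayPt) :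
    Nat.card ↥(SD d ⊓ MulAction.stabilizer (Equiv.Perm GolayPt) x) = 7920 := by
  by_cases hx : x ∈ d
  · have h := card_eq_mul_orb (SD d) x
    rw [orb_SD hd hx, card_dodecad hd, card_SD hd] at h
    omega
  · have hd' := compl_mem_dodecads hd
    have h := card_eq_mul_orb (SD (Finset.univ \ d)) x
    rw [orb_SD hd' (mem_compl.mpr hx), card_compl hd, card_SD hd', SD_compl] at h
    omega

theorem exists_fix_move_aux (hd : d ∈ dodecads) {a b : GolayPt} (ha : a ∈ d) (hab : a ≠ b) :
    ∃ g ∈ SD d, g a = a ∧ g b ≠ b := by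
  by_cases hb : b ∈ d
  · obtain ⟨c, hcd, hcab⟩ := Finset.exists_mem_notMem_of_card_lt_card (s := {a, b}) (t := d)
      (by rw [card_dodecad hd]; exact lt_of_le_of_lt Finset.card_le_two (by norm_num))
    rw [Finset.mem_insert, Finset.mem_singleton, not_or] at hcab
    obtain ⟨g, hg, hga, hgb⟩ := exists_map_in2 hd ha hb ha hcd hab (Ne.symm hcab.1)
    exact ⟨g, hg, hga, by rw [hgb]; exact hcab.2⟩
  · obtain ⟨c, hcd, hcb⟩ := exists_ne_mem (compl_mem_dodecads hd) b
    obtain ⟨g, hg, hga, hgb⟩ := exists_map_out hd ha hb (mem_compl.mp hcd)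
    exact ⟨g, hg, hga, by rw [hgb]; exact hcb⟩

/-- Distinct points have distinct stabilisers in the stabiliser of a dodecad. -/
theorem exists_fix_move (hd : d ∈ dodecads) {a b : GolayPt} (hab : a ≠ b) :
    ∃ g ∈ SD d, g a = a ∧ g b ≠ b := by
  by_cases ha : a ∈ d
  · exact exists_fix_move_aux hd ha hab
  · have := exists_fix_move_aux (compl_mem_dodecads hd) (mem_compl.mpr ha) hab
    rwa [SD_compl] at this

/-- Every automorphism of the stabiliser of a dodecad is conjugation by a permutation of the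
24 points. -/
theorem aut_SD (hd : d ∈ dodecads) (α : MulAut (SD d)) :
    ∃ π : Equiv.Perm GolayPt, ∀ g : SD d, (α g : Equiv.Perm GolayPt) = π * g * π⁻¹ := by
  obtain ⟨π, -, hπ⟩ := aut_conj_of_stab (SD d) Finset.univ
    (fun g hg x hx => absurd (Finset.mem_univ x) hx)
    (fun a _ b _ hab => exists_fix_move hd hab) α (by
      intro a _
      obtain ⟨H, hHle, hHcard, hHmem⟩ := exists_image_stab (SD d) α a
      rw [card_stab_pt hd a] at hHcard
      obtain ⟨b, hb⟩ := index12_fix hd H hHle hHcard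
      exact ⟨b, Finset.mem_univ _, stab_iff_of_card (SD d) α a b
        (by rw [card_stab_pt hd a, card_stab_pt hd b]) (fun s hs => hb _ (hHmem s hs))⟩)
  exact ⟨π, hπ⟩

theorem aut_of_eq_SD (hd : d ∈ dodecads) (G : Subgroup (Equiv.Perm GolayPt)) (hG : G = SD d)
    (α : MulAut G) :
    ∃ π : Equiv.Perm GolayPt, ∀ g : G, (α g : Equiv.Perm GolayPt) = π * g * π⁻¹ := by
  subst hG
  exact aut_SD hd α

/-- Every automorphism of `M12` is conjugation by an element of `M24` mapping the dodecad of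
squares to itself or to its complement. -/
theorem aut_M12 (α : MulAut Spor.M12) : ∃ ρ ∈ M24,
    (∀ g : Spor.M12, (α g : Equiv.Perm GolayPt) = ρ * g * ρ⁻¹) ∧
    (ρ • mk d0 = mk d0 ∨ ρ • mk d0 = Finset.univ \ mk d0) := by
  obtain ⟨π, hπ⟩ := aut_of_eq_SD mk_d0_mem Spor.M12 M12_eq α
  have hM11 : Spor.M11 ≤ Spor.M12 := inf_le_left
  have hπM : π ∈ M24 := mem_M24_of_conj π (fun g hg => by
    have h := hπ ⟨g, hM11 hg⟩
    have h2 : π * g * π⁻¹ = (α ⟨g, hM11 hg⟩ : Equiv.Perm GolayPt) := h.symm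
    rw [h2]
    exact (α ⟨g, hM11 hg⟩).2.1)
  refine ⟨π, hπM, hπ, ?_⟩
  have hSD : ∀ h, h ∈ Spor.M12 ↔ h ∈ SD (mk d0) := fun h => by rw [M12_eq]
  have hinv : ∀ h ∈ Spor.M12, h • (π • mk d0) = π • mk d0 := by
    intro h hh
    obtain ⟨g, hg⟩ := α.surjective ⟨h, hh⟩
    have e : h = π * g * π⁻¹ := by rw [← hπ g, hg]
    have hgd : (g : Equiv.Perm GolayPt) • mk d0 = mk d0 := (mem_SD.mp ((hSD _).mp g.2)).2
    rw [e, mul_smul, mul_smul, inv_smul_smul, hgd]
  by_cases hex : ∃ x ∈ π • mk d0, x ∈ mk d0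
  · left
    obtain ⟨x, hx, hxd⟩ := hex
    symm
    apply Finset.eq_of_subset_of_card_le
    · intro y hy
      obtain ⟨h, hh, hhx⟩ := exists_map_in1 mk_d0_mem hxd hy
      rw [← hhx, ← hinv h ((hSD h).mpr hh)]
      exact Finset.smul_mem_smul_finset hx
    · rw [Finset.card_smul_finset]
  · right
    push Not at hex
    apply Finset.eq_of_subset_of_card_le
    · intro y hy
      exact mem_compl.mpr (hex y hy)
    · rw [Finset.card_smul_finset, card_compl mk_d0_mem, card_dodecad mk_d0_mem]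

/-- An element of `M24` exchanging a dodecad and its complement normalises the stabiliser. -/
theorem swap_normalizes_SD {τ : Equiv.Perm GolayPt} (hτ : τ ∈ M24)
    (h1 : τ • d = Finset.univ \ d) :
    (∀ g ∈ SD d, τ * g * τ⁻¹ ∈ SD d) ∧ ∀ g ∈ SD d, τ⁻¹ * g * τ ∈ SD d := by
  have h2 : τ • (Finset.univ \ d) = d := by
    rw [Finset.smul_finset_sdiff, Finset.smul_finset_univ, h1,
      Finset.sdiff_sdiff_eq_self (Finset.subset_univ _)]
  have h3 : τ⁻¹ • d = Finset.univ \ d := by rw [inv_smul_eq_iff, h2]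
  have h4 : τ⁻¹ • (Finset.univ \ d) = d := by rw [inv_smul_eq_iff, h1]
  constructor
  · intro g hg
    have hg' : g • (Finset.univ \ d) = Finset.univ \ d := (smul_compl_iff g d).mpr hg.2
    refine ⟨M24.mul_mem (M24.mul_mem hτ hg.1) (M24.inv_mem hτ), ?_⟩
    show (τ * g * τ⁻¹) • d = d
    rw [mul_smul, mul_smul, h3, hg', h2]
  · intro g hg
    have hg' : g • (Finset.univ \ d) = Finset.univ \ d := (smul_compl_iff g d).mpr hg.2
    refine ⟨M24.mul_mem (M24.mul_mem (M24.inv_mem hτ) hg.1) hτ, ?_⟩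
    show (τ⁻¹ * g * τ) • d = d
    rw [mul_smul, mul_smul, h1, hg', h4]

/-- No permutation exchanging a dodecad and its complement centralises the stabiliser. -/
theorem not_centralize_SD (hd : d ∈ dodecads) {z : Equiv.Perm GolayPt}
    (hz : z • d = Finset.univ \ d) (hcomm : ∀ g ∈ SD d, z * g = g * z) : False := by
  obtain ⟨a, ha⟩ : d.Nonempty := Finset.card_pos.mp (by rw [card_dodecad hd]; norm_num)
  have hza : z a ∈ Finset.univ \ d := by
    rw [← hz]
    exact Finset.smul_mem_smul_finset ha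
  have hne : a ≠ z a := fun h => (mem_compl.mp hza) (h ▸ ha)
  obtain ⟨g, hg, hga, hgza⟩ := exists_fix_move hd hne
  have e : z (g a) = g (z a) := congrArg (fun f : Equiv.Perm GolayPt => f a) (hcomm g hg)
  rw [hga] at e
  exact hgza e.symm

end Cfsg.Agent.Lib.Helper35.M12Aut
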