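-- Automorphisms of M11 are inner (helper35): subgroups of index 11 fix one of the eleven
-- points, subgroups of index 12 fix one of the twelve points outside the dodecad, so
-- automorphisms are induced by permutations of the 23 points, which lie in M24 (hence in M11).
import Cfsg.Agent.Lib.Helper35.M12Aut

set_option autoImplicit false

namespace Cfsg.Agent.Lib.Helper35.M11Aut

open Cfsg Cfsg.Spor Cfsg.Agent.Lib.Helper7.GolayBase Cfsg.Agent.Lib.Helper7.GolayCode
  Cfsg.Agent.Lib.Helper7.M24Mem Cfsg.Agent.Lib.Helper7.GolayRigid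
  Cfsg.Agent.Lib.Helper7.M24Main Cfsg.Agent.Lib.Helper7.M24Octad
  Cfsg.Agent.Lib.Helper7.M24Octad2 Cfsg.Agent.Lib.Helper7.GolayCount
  Cfsg.Agent.Lib.Helper7.M12Core Cfsg.Agent.Lib.Helper7.M12Main Cfsg.Agent.Lib.Helper7.M12Thm
  Cfsg.Agent.Lib.Helper7.M12Hexad Cfsg.Agent.Lib.Helper7.M12Hexad2
  Cfsg.Agent.Lib.Helper7.M11Twist Cfsg.Agent.Lib.Helper7.ChainGen
  Cfsg.Agent.Lib.Helper7.M24Core
  Cfsg.Agent.Lib.Helper35.PermAut Cfsg.Agent.Lib.Helper35.M24Fix Cfsg.Agent.Lib.Helper35.M24Aut
  Cfsg.Agent.Lib.Helper35.PermAut3 Cfsg.Agent.Lib.Helper35.M12Base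
  Cfsg.Agent.Lib.Helper35.M12Aut
open scoped Pointwise

section General

variable {Ω : Type*} [Fintype Ω] [DecidableEq Ω]

omit [DecidableEq Ω] in
/-- A subgroup `H` of the symmetric group preserving the finset `Y` whose order does not divide
`|Y|!` contains a non-identity element fixing `Y` pointwise. -/
theorem exists_ne_one_fixing (H : Subgroup (Equiv.Perm Ω)) (Y : Finset Ω)
    (hY : ∀ h ∈ H, ∀ y ∈ Y, h y ∈ Y) (hcard : ¬ Nat.card H ∣ Y.card.factorial) :
    ∃ t ∈ H, t ≠ 1 ∧ ∀ y ∈ Y, t y = y := by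
  classical
  have hiff : ∀ h : H, ∀ x, (h : Equiv.Perm Ω) x ∈ Y ↔ x ∈ Y := by
    intro h x
    constructor
    · intro hx
      have := hY _ (H.inv_mem h.2) _ hx
      rwa [Equiv.Perm.inv_eq_iff_eq.mpr rfl] at this
    · exact hY h h.2 x
  let ρ : H →* Equiv.Perm {x // x ∈ Y} := MonoidHom.mk'
    (fun h => (h : Equiv.Perm Ω).subtypePerm (hiff h)) (by
      intro a b
      ext x
      rfl)
  by_contra hno
  push Not at hno
  have hinj : Function.Injective ρ := by
    rw [injective_iff_map_eq_one]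
    intro h hh
    by_contra h1
    obtain ⟨y, hy, hne⟩ := hno h h.2 (fun e => h1 (Subtype.ext e))
    have := congrArg (fun f : Equiv.Perm {x // x ∈ Y} => ((f ⟨y, hy⟩ : {x // x ∈ Y}) : Ω)) hh
    exact hne this
  apply hcard
  have h1 : Nat.card H = Nat.card ρ.range := Nat.card_congr (MonoidHom.ofInjective hinj).toEquiv
  have h2 := Subgroup.card_subgroup_dvd_card ρ.range
  rw [Nat.card_perm] at h2
  have hc : Nat.card {x // x ∈ Y} = Y.card := by
    rw [Nat.card_eq_fintype_card, Fintype.card_coe]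
  rw [hc, ← h1] at h2
  exact h2

end General

variable {d : Finset GolayPt}

/-- The stabiliser of a point of a dodecad is 2-transitive on the complement. -/
theorem exists_map_out2 (hd : d ∈ dodecads) {p : GolayPt} (hp : p ∈ d) {x y x' y' : GolayPt}
    (hx : x ∉ d) (hy : y ∉ d) (hx' : x' ∉ d) (hy' : y' ∉ d) (hxy : x ≠ y) (hxy' : x' ≠ y') :
    ∃ g ∈ SD d, g p = p ∧ g x = x' ∧ g y = y' := by
  obtain ⟨t, ht, htd, htp, hm⟩ := exists_to_base11 hd hp [x, y] (by simp [hxy])
    (by simp [hx, hy]) (by simp)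
  obtain ⟨t', ht', htd', htp', hm'⟩ := exists_to_base11 hd hp [x', y'] (by simp [hxy'])
    (by simp [hx', hy']) (by simp)
  simp only [List.map_cons, List.map_nil, List.length_cons, List.length_nil, cbase, List.take,
    List.cons.injEq, and_true] at hm hm'
  refine ⟨t'⁻¹ * t, ⟨M24.mul_mem (M24.inv_mem ht') ht, ?_⟩, ?_, ?_, ?_⟩
  · show (t'⁻¹ * t) • d = d
    rw [mul_smul, htd, ← htd', inv_smul_smul]
  · show t'⁻¹ (t p) = p
    rw [htp, ← htp']; exact pinv t' p
  · show t'⁻¹ (t x) = x'
    rw [hm.1, ← hm'.1]; exact pinv t' x'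
  · show t'⁻¹ (t y) = y'
    rw [hm.2, ← hm'.2]; exact pinv t' y'

theorem zero_mem : (some 0 : GolayPt) ∈ mk d0 := by
  rw [mem_mk]; decide +kernel

theorem M11_le_SD : Spor.M11 ≤ SD (mk d0) := fun _ hg =>
  ⟨(mem_M11.mp hg).1, (mem_M11.mp hg).2.1⟩

theorem M11_eq : Spor.M11 =
    SD (mk d0) ⊓ MulAction.stabilizer (Equiv.Perm GolayPt) (some 0 : GolayPt) := by
  ext g
  rw [mem_M11, Subgroup.mem_inf, mem_SD, MulAction.mem_stabilizer_iff]
  exact ⟨fun h => ⟨⟨h.1, h.2.1⟩, h.2.2⟩, fun h => ⟨h.1.1, h.1.2, h.2⟩⟩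

theorem card_M11 : Nat.card Spor.M11 = 7920 := by
  rw [M11_eq]
  exact card_stab_pt mk_d0_mem _

/-- `M11` is transitive on the eleven other points of the dodecad. -/
theorem exists_map_M11_in {x y : GolayPt} (hx : x ∈ mk d0) (hy : y ∈ mk d0)
    (hx0 : x ≠ some 0) (hy0 : y ≠ some 0) : ∃ g ∈ Spor.M11, g x = y := by
  obtain ⟨g, hg, hg0, hgx⟩ := exists_map_in2 mk_d0_mem zero_mem hx zero_mem hy (Ne.symm hx0)
    (Ne.symm hy0)
  exact ⟨g, mem_M11.mpr ⟨hg.1, hg.2, hg0⟩, hgx⟩

/-- `M11` is transitive on the twelve points outside the dodecad. -/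
theorem exists_map_M11_out {x y : GolayPt} (hx : x ∉ mk d0) (hy : y ∉ mk d0) :
    ∃ g ∈ Spor.M11, g x = y := by
  obtain ⟨g, hg, hg0, hgx⟩ := exists_map_out mk_d0_mem zero_mem hx hy
  exact ⟨g, mem_M11.mpr ⟨hg.1, hg.2, hg0⟩, hgx⟩

theorem orb_M11_in {x : GolayPt} (hx : x ∈ mk d0) (hx0 : x ≠ some 0) :
    orb Spor.M11 x = (mk d0).erase (some 0) := by
  ext y
  rw [mem_orb, Finset.mem_erase]
  constructor
  · rintro ⟨g, hg, rfl⟩
    have hg' := mem_M11.mp hg
    refine ⟨fun h => hx0 (g.injective (by rw [h, hg'.2.2])), (apply_mem_iff hg'.2.1 x).mpr hx⟩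
  · rintro ⟨hy0, hy⟩
    exact exists_map_M11_in hx hy hx0 hy0

theorem orb_M11_out {x : GolayPt} (hx : x ∉ mk d0) :
    orb Spor.M11 x = Finset.univ \ mk d0 := by
  ext y
  rw [mem_orb, mem_compl]
  constructor
  · rintro ⟨g, hg, rfl⟩
    have hg' := mem_M11.mp hg
    exact fun h => hx ((apply_mem_iff hg'.2.1 x).mp h)
  · intro hy
    exact exists_map_M11_out hx hy

theorem card_stab_in {x : GolayPt} (hx : x ∈ mk d0) (hx0 : x ≠ some 0) :
    Nat.card ↥(Spor.M11 ⊓ MulAction.stabilizer (Equiv.Perm GolayPt) x) = 720 := by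
  have h := card_eq_mul_orb Spor.M11 x
  rw [orb_M11_in hx hx0, Finset.card_erase_of_mem zero_mem, card_dodecad mk_d0_mem,
    card_M11] at h
  omega

theorem card_stab_out {x : GolayPt} (hx : x ∉ mk d0) :
    Nat.card ↥(Spor.M11 ⊓ MulAction.stabilizer (Equiv.Perm GolayPt) x) = 660 := by
  have h := card_eq_mul_orb Spor.M11 x
  rw [orb_M11_out hx, card_compl mk_d0_mem, card_M11] at h
  omega

/-- Every subgroup of order 720 (index 11) of `M11` fixes one of the eleven points. -/
theorem index11_fix (L : Subgroup (Equiv.Perm GolayPt)) (hL : L ≤ Spor.M11)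
    (hcard : Nat.card L = 720) : ∃ c ∈ mk d0, c ≠ some 0 ∧ ∀ h ∈ L, h c = c := by
  have hp5 : Fact (Nat.Prime 5) := ⟨by norm_num⟩
  have hd := mk_d0_mem
  have hLS : L ≤ SD (mk d0) := hL.trans M11_le_SD
  have hL0 : ∀ h ∈ L, h (some 0) = some 0 := fun h hh => (mem_M11.mp (hL hh)).2.2
  have hLd : ∀ h ∈ L, h • mk d0 = mk d0 := fun h hh => (mem_M11.mp (hL hh)).2.1
  obtain ⟨g5, hg5L, hg5⟩ := exists_order L 5 (by rw [hcard]; norm_num)
  have hf5 := fix_five hd (hLS hg5L) hg5
  -- the second fixed point of `g5`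
  obtain ⟨c, hc, hc0⟩ := Finset.exists_mem_notMem_of_card_lt_card (s := {some 0})
    (t := (mk d0).filter (fun y => g5 y = y)) (by rw [hf5]; simp)
  rw [Finset.mem_filter] at hc
  rw [Finset.mem_singleton] at hc0
  have hfix5 : ∀ y ∈ mk d0, g5 y = y → y = some 0 ∨ y = c := by
    intro y hy hgy
    by_contra hcon
    push Not at hcon
    have hsub : ({y, some 0, c} : Finset GolayPt) ⊆ (mk d0).filter (fun y => g5 y = y) := by
      intro z hz
      rw [Finset.mem_insert, Finset.mem_insert, Finset.mem_singleton] at hz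
      rcases hz with rfl | rfl | rfl
      · exact Finset.mem_filter.mpr ⟨hy, hgy⟩
      · exact Finset.mem_filter.mpr ⟨zero_mem, hL0 _ hg5L⟩
      · exact Finset.mem_filter.mpr hc
    have h1 := Finset.card_le_card hsub
    rw [hf5, Finset.card_insert_of_notMem (by
      rw [Finset.mem_insert, Finset.mem_singleton, not_or]; exact hcon),
      Finset.card_pair (Ne.symm hc0)] at h1
    omega
  have hinv : ∀ k ∈ L, ∀ y ∈ (mk d0).erase (some 0), k y ∈ (mk d0).erase (some 0) := by
    intro k hk y hy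
    rw [Finset.mem_erase] at hy ⊢
    exact ⟨fun h => hy.1 (k.injective (by rw [h, hL0 k hk])),
      (apply_mem_iff (hLd k hk) y).mpr hy.2⟩
  have hsub : orb L c ⊆ (mk d0).erase (some 0) :=
    orb_subset hinv (Finset.mem_erase.mpr ⟨hc0, hc.1⟩)
  have hmod := orb_card_mod_one (K := L) (x := c) hg5L hg5 hc.2 (fun y hy hgy => by
    have hy' := Finset.mem_erase.mp (hsub hy)
    rcases hfix5 y hy'.2 hgy with h | h
    · exact absurd h hy'.1
    · exact h)
  have hle := Finset.card_le_card hsub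
  rw [Finset.card_erase_of_mem zero_mem, card_dodecad hd] at hle
  have hpos := orb_card_pos L c
  have hdvd := card_eq_mul_orb L c
  rw [hcard] at hdvd
  have hcases : (orb L c).card = 1 ∨ (orb L c).card = 6 := by
    have h11 : (orb L c).card ≠ 11 := by
      intro h
      rw [h] at hdvd
      omega
    omega
  rcases hcases with h1 | h6
  · refine ⟨c, hc.1, hc0, fun h hh => ?_⟩
    obtain ⟨w, hw⟩ := Finset.card_eq_one.mp h1
    have e1 : c ∈ orb L c := self_mem_orb L c
    have e2 : h c ∈ orb L c := apply_mem_orb e1 hh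
    rw [hw, Finset.mem_singleton] at e1 e2
    rw [e2, e1]
  · exfalso
    set R := (mk d0).erase (some 0) \ orb L c with hR
    have hRcard : R.card = 5 := by
      rw [hR, Finset.card_sdiff_of_subset hsub, Finset.card_erase_of_mem zero_mem,
        card_dodecad hd, h6]
    have hRinv : ∀ k ∈ L, ∀ y ∈ R, k y ∈ R := by
      intro k hk y hy
      rw [hR, Finset.mem_sdiff] at hy ⊢
      refine ⟨hinv k hk y hy.1, fun h => hy.2 ?_⟩
      have := apply_mem_orb h (L.inv_mem hk)
      rwa [Equiv.Perm.inv_eq_iff_eq.mpr rfl] at this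
    obtain ⟨t, htL, ht1, htR⟩ := exists_ne_one_fixing L R hRinv (by
      rw [hRcard, hcard]; decide)
    have h4 := fix_le_four hd (hLS htL) ht1
    have hsub6 : insert (some 0) R ⊆ (mk d0).filter (fun y => t y = y) := by
      intro z hz
      rcases Finset.mem_insert.mp hz with rfl | hz
      · exact Finset.mem_filter.mpr ⟨zero_mem, hL0 t htL⟩
      · have hz' : z ∈ (mk d0).erase (some 0) := (Finset.mem_sdiff.mp hz).1
        exact Finset.mem_filter.mpr ⟨(Finset.mem_erase.mp hz').2, htR z hz⟩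
    have h0R : (some 0 : GolayPt) ∉ R := by
      intro h
      have hz' : (some 0 : GolayPt) ∈ (mk d0).erase (some 0) := (Finset.mem_sdiff.mp h).1
      exact (Finset.mem_erase.mp hz').1 rfl
    have h6' := Finset.card_le_card hsub6
    rw [Finset.card_insert_of_notMem h0R, hRcard] at h6'
    omega

/-- If every element of `K` fixing `a` also fixes `b`, the order of the stabiliser of `a`
divides that of the stabiliser of `b`. -/
theorem stab_dvd_of_fix (K : Subgroup (Equiv.Perm GolayPt)) (a b : GolayPt)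
    (h : ∀ g ∈ K, g a = a → g b = b) :
    Nat.card ↥(K ⊓ MulAction.stabilizer (Equiv.Perm GolayPt) a) ∣
      Nat.card ↥(K ⊓ MulAction.stabilizer (Equiv.Perm GolayPt) b) :=
  Subgroup.card_dvd_of_le (fun g hg => ⟨hg.1, h g hg.1 hg.2⟩)

/-- Distinct points other than the residue 0 have distinct stabilisers in `M11`. -/
theorem exists_fix_move_M11 {a b : GolayPt} (ha : a ≠ some 0) (hb : b ≠ some 0) (hab : a ≠ b) :
    ∃ g ∈ Spor.M11, g a = a ∧ g b ≠ b := by
  have hd := mk_d0_mem
  by_cases had : a ∈ mk d0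
  · by_cases hbd : b ∈ mk d0
    · obtain ⟨c, hcd, hc⟩ := Finset.exists_mem_notMem_of_card_lt_card
        (s := {some 0, a, b}) (t := mk d0)
        (by rw [card_dodecad hd]; exact lt_of_le_of_lt Finset.card_le_three (by norm_num))
      rw [Finset.mem_insert, Finset.mem_insert, Finset.mem_singleton, not_or, not_or] at hc
      obtain ⟨g, hg, hm⟩ := exists_map_in hd [some 0, a, b] [some 0, a, c]
        (by simp [Ne.symm ha, Ne.symm hb, hab])
        (by
          simp [Ne.symm ha]
          exact ⟨fun h => hc.1 h.symm, fun h => hc.2.1 h.symm⟩)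
        (by simp [zero_mem, had, hbd]) (by simp [zero_mem, had, hcd]) rfl (by simp)
      simp only [List.map_cons, List.map_nil, List.cons.injEq, and_true] at hm
      exact ⟨g, mem_M11.mpr ⟨hg.1, hg.2, hm.1⟩, hm.2.1, by rw [hm.2.2]; exact hc.2.2⟩
    · by_contra hno
      push Not at hno
      have h := stab_dvd_of_fix Spor.M11 a b hno
      rw [card_stab_in had ha, card_stab_out hbd] at h
      omega
  · by_cases hbd : b ∈ mk d0
    · by_contra hno
      push Not at hno
      have h := stab_dvd_of_fix Spor.M11 a b hno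
      rw [card_stab_out had, card_stab_in hbd hb] at h
      omega
    · obtain ⟨c, hcd, hc⟩ := Finset.exists_mem_notMem_of_card_lt_card
        (s := {a, b}) (t := Finset.univ \ mk d0)
        (by rw [card_compl hd]; exact lt_of_le_of_lt Finset.card_le_two (by norm_num))
      rw [Finset.mem_insert, Finset.mem_singleton, not_or] at hc
      obtain ⟨g, hg, hg0, hga, hgb⟩ := exists_map_out2 hd zero_mem had hbd had
        (mem_compl.mp hcd) hab (fun h => hc.1 h.symm)
      exact ⟨g, mem_M11.mpr ⟨hg.1, hg.2, hg0⟩, hga, by rw [hgb]; exact hc.2⟩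

/-- Every automorphism of `M11` is inner. -/
theorem aut_M11_inner (α : MulAut Spor.M11) : ∃ g : Spor.M11, α = MulAut.conj g := by
  have hd := mk_d0_mem
  obtain ⟨π, hπΔ, hπ⟩ := aut_conj_of_stab Spor.M11 (Finset.univ.erase (some 0))
    (by
      intro g hg x hx
      have : x = some 0 := by
        by_contra h
        exact hx (Finset.mem_erase.mpr ⟨h, Finset.mem_univ x⟩)
      rw [this]
      exact (mem_M11.mp hg).2.2)
    (fun a ha b hb hab => exists_fix_move_M11 (Finset.mem_erase.mp ha).1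
      (Finset.mem_erase.mp hb).1 hab) α (by
      intro a ha
      have ha0 := (Finset.mem_erase.mp ha).1
      obtain ⟨H, hHle, hHcard, hHmem⟩ := exists_image_stab Spor.M11 α a
      by_cases had : a ∈ mk d0
      · rw [card_stab_in had ha0] at hHcard
        obtain ⟨b, hbd, hb0, hb⟩ := index11_fix H hHle hHcard
        exact ⟨b, Finset.mem_erase.mpr ⟨hb0, Finset.mem_univ _⟩,
          stab_iff_of_card Spor.M11 α a b
            (by rw [card_stab_in had ha0, card_stab_in hbd hb0]) (fun s hs => hb _ (hHmem s hs))⟩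
      · rw [card_stab_out had] at hHcard
        obtain ⟨b, hbd, hb⟩ := order660_fix hd zero_mem H (hHle.trans M11_le_SD)
          (fun h hh => (mem_M11.mp (hHle hh)).2.2) hHcard
        have hb0 : b ≠ some 0 := fun h => hbd (h ▸ zero_mem)
        exact ⟨b, Finset.mem_erase.mpr ⟨hb0, Finset.mem_univ _⟩,
          stab_iff_of_card Spor.M11 α a b
            (by rw [card_stab_out had, card_stab_out hbd]) (fun s hs => hb _ (hHmem s hs))⟩)
  have hπ0 : π (some 0) = some 0 := hπΔ _ (by simp)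
  have hπM : π ∈ M24 := mem_M24_of_conj π (fun g hg => by
    have h2 : π * g * π⁻¹ = (α ⟨g, hg⟩ : Equiv.Perm GolayPt) := (hπ ⟨g, hg⟩).symm
    rw [h2]
    exact (mem_M11.mp (α ⟨g, hg⟩).2).1)
  have hinv : ∀ h ∈ Spor.M11, h • (π • mk d0) = π • mk d0 := by
    intro h hh
    obtain ⟨g, hg⟩ := α.surjective ⟨h, hh⟩
    have e : h = π * g * π⁻¹ := by rw [← hπ g, hg]
    have hgd : (g : Equiv.Perm GolayPt) • mk d0 = mk d0 := (mem_M11.mp g.2).2.1
    rw [e, mul_smul, mul_smul, inv_smul_smul, hgd]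
  have h0mem : (some 0 : GolayPt) ∈ π • mk d0 := by
    rw [← hπ0]
    exact Finset.smul_mem_smul_finset zero_mem
  have hcardπ : (π • mk d0).card = 12 := by rw [Finset.card_smul_finset, card_dodecad hd]
  obtain ⟨x, hx, hx0⟩ := Finset.exists_mem_notMem_of_card_lt_card (s := {some 0})
    (t := π • mk d0) (by rw [hcardπ]; simp)
  rw [Finset.mem_singleton] at hx0
  have hπD : π • mk d0 = mk d0 := by
    by_cases hxd : x ∈ mk d0
    · symm
      apply Finset.eq_of_subset_of_card_le
      · intro y hy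
        by_cases hy0 : y = some 0
        · rw [hy0]; exact h0mem
        · obtain ⟨h, hh, hhx⟩ := exists_map_M11_in hxd hy hx0 hy0
          rw [← hhx, ← hinv h hh]
          exact Finset.smul_mem_smul_finset hx
      · rw [hcardπ, card_dodecad hd]
    · exfalso
      have hsub : insert (some 0) (Finset.univ \ mk d0) ⊆ π • mk d0 := by
        intro y hy
        rcases Finset.mem_insert.mp hy with rfl | hy
        · exact h0mem
        · obtain ⟨h, hh, hhx⟩ := exists_map_M11_out hxd (mem_compl.mp hy)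
          rw [← hhx, ← hinv h hh]
          exact Finset.smul_mem_smul_finset hx
      have hc := Finset.card_le_card hsub
      rw [Finset.card_insert_of_notMem (by rw [mem_compl]; exact not_not.mpr zero_mem),
        card_compl hd, hcardπ] at hc
      omega
  refine ⟨⟨π, mem_M11.mpr ⟨hπM, hπD, hπ0⟩⟩, ?_⟩
  apply MulEquiv.ext
  intro g
  apply Subtype.ext
  rw [hπ g]
  rfl

end Cfsg.Agent.Lib.Helper35.M11Aut
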