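-- Data for the Schur multiplier of PSL(3, 4), realised as the pointwise stabiliser of three
-- points in M24: tables of explicit elements, words in the two generators of M22, and the
-- points used to evaluate commutators in the covers of M22.
import Cfsg.Agent.Lib.Helper7.M24Data

set_option autoImplicit false

namespace Cfsg.Agent.Lib.Helper35.M21Data

open Cfsg.Agent.Lib.Helper7.GolayPerm

/-- Table of the element of M24 permuting the three fixed points cyclically. -/
def lnT : List Nat := [1, 23, 22, 11, 15, 17, 9, 19, 13, 20, 5, 16, 2, 21, 7, 18, 3, 10, 4, 14, 6, 8, 12, 0]

/-- Straight-line program over the tables of `M24Data.tabs`. -/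
def rowsN : List (Nat × Nat × List Nat) := [(2, 1, lnT)]

theorem rowsN_chk : chk Cfsg.Agent.Lib.Helper7.M24Data.tabs [] rowsN = true := by decide +kernel

/-- Table of an explicit element. -/
def lsT : List Nat := [0, 1, 2, 14, 4, 17, 7, 6, 12, 15, 20, 18, 8, 13, 3, 9, 16, 5, 11, 21, 10, 19, 22, 23]

/-- Table of an explicit element. -/
def lspT : List Nat := [0, 1, 2, 17, 4, 14, 19, 21, 18, 20, 15, 12, 11, 13, 5, 10, 16, 3, 8, 6, 9, 7, 22, 23]

/-- Table of an explicit element. -/
def lg0T : List Nat := [0, 1, 17, 13, 14, 19, 10, 22, 8, 4, 6, 20, 21, 3, 15, 9, 2, 18, 16, 7, 12, 11, 5, 23]

/-- Table of an explicit element. -/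
def lt2T : List Nat := [0, 1, 2, 5, 21, 3, 4, 22, 15, 18, 8, 9, 10, 7, 17, 12, 6, 14, 20, 13, 11, 16, 19, 23]

/-- Table of an explicit element. -/
def lt3T : List Nat := [0, 1, 5, 3, 13, 2, 20, 22, 4, 12, 19, 8, 7, 11, 17, 16, 21, 14, 15, 6, 10, 18, 9, 23]

/-- Table of an explicit element. -/
def lcpT : List Nat := [0, 1, 3, 4, 2, 11, 15, 12, 8, 9, 7, 13, 10, 5, 19, 18, 17, 20, 6, 22, 16, 21, 14, 23]

/-- Table of an explicit element. -/
def lu1T : List Nat := [0, 1, 2, 3, 22, 5, 7, 6, 18, 10, 9, 12, 11, 16, 14, 20, 13, 17, 8, 21, 15, 19, 4, 23]

/-- Table of an explicit element. -/
def lu2T : List Nat := [0, 1, 2, 3, 16, 5, 21, 19, 12, 20, 15, 18, 8, 22, 14, 10, 4, 17, 11, 7, 9, 6, 13, 23]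

/-- Table of an explicit element. -/
def lvf1T : List Nat := [0, 1, 2, 3, 9, 5, 12, 11, 21, 4, 22, 7, 6, 15, 14, 13, 20, 17, 19, 18, 16, 8, 10, 23]

/-- Table of an explicit element. -/
def lvf2T : List Nat := [0, 1, 2, 3, 12, 5, 9, 10, 16, 6, 7, 22, 4, 18, 14, 19, 8, 17, 13, 15, 21, 20, 11, 23]

/-- The four elements of the complement. -/
def V4L : List (List Nat) := [
  [0, 1, 2, 5, 4, 3, 21, 19, 11, 10, 9, 8, 18, 13, 17, 20, 16, 14, 12, 7, 15, 6, 22, 23],
  [0, 1, 2, 17, 4, 14, 19, 21, 18, 20, 15, 12, 11, 13, 5, 10, 16, 3, 8, 6, 9, 7, 22, 23],
  [0, 1, 2, 14, 4, 17, 7, 6, 12, 15, 20, 18, 8, 13, 3, 9, 16, 5, 11, 21, 10, 19, 22, 23],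
  [0, 1, 2, 3, 4, 5, 6, 7, 8, 9, 10, 11, 12, 13, 14, 15, 16, 17, 18, 19, 20, 21, 22, 23]]

/-- The four elements of the subgroup of commutator elements. -/
def U4L : List (List Nat) := [
  [0, 1, 2, 3, 13, 5, 19, 21, 11, 15, 20, 8, 18, 4, 14, 9, 22, 17, 12, 6, 10, 7, 16, 23],
  [0, 1, 2, 3, 16, 5, 21, 19, 12, 20, 15, 18, 8, 22, 14, 10, 4, 17, 11, 7, 9, 6, 13, 23],
  [0, 1, 2, 3, 22, 5, 7, 6, 18, 10, 9, 12, 11, 16, 14, 20, 13, 17, 8, 21, 15, 19, 4, 23],
  [0, 1, 2, 3, 4, 5, 6, 7, 8, 9, 10, 11, 12, 13, 14, 15, 16, 17, 18, 19, 20, 21, 22, 23]]

/-- A word in the two generators. -/
def y_s : List Bool := [true, false, true, false, true, false, true, false, true, false, true, true, false, true, false, true, false, true, false, true, false]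

/-- A word in the two generators. -/
def y_g0 : List Bool := [true, false, true, false, true, false, true, false, true, true, true, false, true, false, true, false]

/-- A word in the two generators. -/
def y_t2 : List Bool := [true, false, true, false, true, true, false, true, false, true, true, true, false, true, false, true, true, false, true, false, true, true, true, false, true]

/-- A word in the two generators. -/
def y_t3 : List Bool := [false, true, false, true, true, true, false, true, false, true, false, true, true, false, true, true, true, false, true, true, false, true, false, true, false, true, true, true]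

/-- A word in the two generators. -/
def y_cp : List Bool := [false, true, true, false, true, true, true, false, true, true, false, true, false, true, true, true, false, true, false, true, false, true, false, true, true, false]

/-- A word in the two generators. -/
def y_c : List Bool := [true, false, true, true, false, true, false, true, false, true, true, false, true, false, true, false, true, true, false, true, false, true, false, true, true, false, true, true, false, true, false, true, false, true, false, true, false]

/-- A word in the two generators. -/
def y_p1 : List Bool := [false, true, true, false, true, false, true, false, true, false, true, false, true, false, true, true, false, true, false, true, false, true, false, true, false]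

/-- A word in the two generators. -/
def y_q1 : List Bool := [false, true, true, true, false, true, true, true, false, true, false, true, false, true, true, true, false, true, true, false, true, false, true]

/-- A word in the two generators. -/
def y_pn1 : List Bool := [true, false, true, true, true, false, true, false, true, false, true, false, true, true, false, true, true, true, false, true, false, true, true, false, true, false, true]

/-- A word in the two generators. -/
def y_qn1 : List Bool := [false, true, false, true, true, true, false, true, false, true, false, true, true, false, true, false, true, false, true, false, true, false, true, false, true, true]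

/-- A word in the two generators. -/
def y_p2 : List Bool := [false, true, true, true, false, true, true, false, true, false, true, false, true, false, true, false, true, true, false, true, true, false, true, false, true, true, false, true]

/-- A word in the two generators. -/
def y_q2 : List Bool := [false, true, false, true, true, true, false, true, false, true, false, true, true, true, false, true, true, false, true, false, true]

/-- A word in the two generators. -/
def y_pn2 : List Bool := [true, false, true, true, false, true, false, true, false, true, false, true, false, true, true, false, true, false, true, false, true, true, false, true, false, true, true, false, true]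

/-- A word in the two generators. -/
def y_qn2 : List Bool := [true, false, true, false, true, true, false, true, true, false, true, false, true, true, false, true, false, true, true, false, true, true, true, false, true, true, false, true]

end Cfsg.Agent.Lib.Helper35.M21Data
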