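-- Data for the (p,q,r)-generation of M23: words in the generators `y` (order 7) and `t`
-- (order 2) for the elements of the local subgroups, a Sylow 2-subgroup, cyclic subgroups of
-- orders 5 and 7, and for each generating triple words for the pair and for the generators.
import Cfsg.Agent.Lib.Helper7.M24Data

set_option autoImplicit false

namespace Cfsg.Agent.Lib.Helper35.M23GenData

/-- Word in `y`, `t` (`false` for `y`, `true` for `t`) for an explicit element. -/
def w_e1 : List Bool := [true, false, false, false, false, true, false, false, true, false, false, true, false, false, false, false, true, false, true, false, true, false, false, false, false, true, false, true, false, false, false, false, false, true]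

/-- Word in `y`, `t` (`false` for `y`, `true` for `t`) for an explicit element. -/
def w_e2 : List Bool := [false, true, false, true, false, false, true, false, false, true, false, false, false, false, true, false, false, false, true, false, true, false, true, false, false, false, true, false, false, true, false, true, false]

/-- Word in `y`, `t` (`false` for `y`, `true` for `t`) for an explicit element. -/
def w_e3 : List Bool := [true, false, false, true, false, true, false, false, false, true, false, true, false, true, false, false, false, false, false, true, false, false, true, false, true, false, true, false, true, false, false]

/-- Word in `y`, `t` (`false` for `y`, `true` for `t`) for an explicit element. -/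
def w_e4 : List Bool := [true, false, false, false, false, true, false, false, false, false, false, true, false, false, false, true, false, false, false, false, true, false, false, true, false, false, false, true]

/-- Word in `y`, `t` (`false` for `y`, `true` for `t`) for an explicit element. -/
def w_s1 : List Bool := [false, false, false, true, false, false, false, false, true, false, false, true, false, false, true, false, false, false, true, false, true, false, true, false, false, true, false, false, true, false]

/-- Word in `y`, `t` (`false` for `y`, `true` for `t`) for an explicit element. -/
def w_s2 : List Bool := [false, false, false, false, false, true, false, false, false, true, false, false, false, false, false, false, true, false, true, false, false, false, false, true, false, false]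

/-- Word in `y`, `t` (`false` for `y`, `true` for `t`) for an explicit element. -/
def w_c : List Bool := [false, false, false, true, false, false, false, true, false, false, true, false, true, false, true, false, false, false, false, true, false, true, false, true, false, true, false, false, false, true, false, false, false, true]

/-- Word in `y`, `t` (`false` for `y`, `true` for `t`) for an explicit element. -/
def w_b : List Bool := [false, true, false, false, false, false, true, false, false, true, false, false, true, false, true, false, false, true, false, true, false, true, false, false, true, false, false, true, false, false, false]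

/-- Word for an element of order 5. -/
def w5 : List Bool := [false, false, false, true, false, true, false, false, true]

/-- Word for an element of order 11. -/
def w11 : List Bool := [false, false, false, true]

/-- Table of the element of order 5. -/
def v5T : List Nat := [4, 17, 12, 15, 7, 21, 16, 13, 3, 9, 0, 11, 22, 10, 18, 1, 5, 8, 2, 19, 6, 20, 14, 23]

/-- The elements of a Sylow 2-subgroup. -/
def P128L : List (List Nat) := [
  [2, 3, 0, 1, 10, 5, 6, 12, 15, 9, 4, 11, 7, 18, 14, 8, 19, 17, 13, 16, 21, 20, 22, 23],
  [2, 3, 0, 1, 15, 5, 21, 8, 10, 20, 16, 18, 19, 11, 14, 12, 7, 17, 22, 4, 6, 9, 13, 23],
  [2, 3, 0, 1, 20, 5, 19, 18, 9, 15, 13, 8, 21, 12, 14, 11, 6, 17, 4, 22, 7, 10, 16, 23],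
  [2, 3, 0, 1, 21, 5, 15, 13, 6, 19, 18, 16, 20, 4, 14, 22, 9, 17, 12, 11, 10, 7, 8, 23],
  [2, 3, 0, 1, 9, 5, 7, 11, 20, 10, 22, 12, 6, 8, 14, 18, 21, 17, 16, 13, 19, 15, 4, 23],
  [2, 3, 0, 1, 8, 5, 13, 15, 12, 18, 19, 20, 16, 9, 14, 10, 4, 17, 6, 7, 22, 11, 21, 23],
  [2, 3, 0, 1, 13, 5, 8, 21, 22, 16, 20, 19, 18, 7, 14, 6, 11, 17, 10, 9, 12, 4, 15, 23],
  [2, 3, 0, 1, 6, 5, 10, 22, 21, 7, 11, 4, 9, 16, 14, 13, 20, 17, 8, 18, 15, 19, 12, 23],
  [2, 3, 0, 1, 18, 5, 16, 20, 11, 8, 21, 15, 13, 10, 14, 9, 22, 17, 7, 6, 4, 12, 19, 23],
  [2, 3, 0, 1, 12, 5, 22, 10, 8, 11, 7, 9, 4, 20, 14, 15, 16, 17, 21, 19, 13, 18, 6, 23],
  [2, 3, 0, 1, 19, 5, 20, 16, 7, 21, 8, 13, 15, 22, 14, 4, 10, 17, 11, 12, 9, 6, 18, 23],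
  [2, 1, 0, 3, 18, 5, 16, 13, 10, 19, 21, 15, 20, 11, 17, 7, 12, 14, 9, 4, 6, 22, 8, 23],
  [2, 3, 0, 1, 22, 5, 12, 6, 13, 4, 9, 7, 11, 19, 14, 21, 18, 17, 15, 20, 8, 16, 10, 23],
  [2, 3, 0, 1, 16, 5, 18, 19, 4, 13, 15, 21, 8, 6, 14, 7, 12, 17, 9, 10, 11, 22, 20, 23],
  [3, 2, 1, 0, 15, 5, 20, 8, 12, 21, 16, 13, 19, 6, 14, 10, 4, 17, 9, 7, 11, 22, 18, 23],
  [3, 2, 1, 0, 20, 5, 15, 18, 11, 19, 13, 16, 21, 7, 14, 9, 22, 17, 10, 6, 12, 4, 8, 23],
  [2, 3, 0, 1, 7, 5, 9, 4, 19, 6, 12, 22, 10, 13, 14, 16, 15, 17, 18, 8, 20, 21, 11, 23],
  [2, 1, 0, 3, 16, 5, 18, 8, 6, 20, 15, 21, 19, 4, 17, 9, 22, 14, 7, 11, 10, 12, 13, 23],
  [3, 2, 1, 0, 10, 5, 9, 12, 8, 6, 4, 22, 7, 21, 14, 15, 16, 17, 20, 19, 18, 13, 11, 23],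
  [3, 2, 1, 0, 16, 5, 13, 19, 7, 18, 15, 20, 8, 11, 14, 4, 10, 17, 22, 12, 6, 9, 21, 23],
  [2, 3, 0, 1, 11, 5, 4, 9, 18, 12, 6, 10, 22, 15, 14, 20, 13, 17, 19, 21, 16, 8, 7, 23],
  [2, 1, 0, 3, 13, 5, 8, 18, 7, 15, 20, 19, 21, 22, 17, 10, 4, 14, 6, 12, 9, 11, 16, 23],
  [2, 1, 0, 3, 10, 5, 6, 7, 18, 22, 4, 11, 12, 15, 17, 13, 20, 14, 8, 21, 16, 19, 9, 23],
  [2, 1, 0, 3, 19, 5, 20, 15, 22, 18, 8, 13, 16, 7, 17, 11, 6, 14, 4, 9, 12, 10, 21, 23],
  [3, 2, 1, 0, 21, 5, 19, 13, 22, 15, 18, 8, 20, 10, 14, 6, 11, 17, 7, 9, 4, 12, 16, 23],
  [2, 1, 0, 3, 22, 5, 12, 11, 19, 10, 9, 7, 6, 13, 17, 15, 16, 14, 21, 8, 20, 18, 4, 23],
  [3, 2, 1, 0, 9, 5, 10, 11, 18, 7, 22, 4, 6, 19, 14, 20, 13, 17, 15, 21, 8, 16, 12, 23],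
  [3, 2, 1, 0, 8, 5, 18, 15, 10, 13, 19, 21, 16, 22, 14, 12, 7, 17, 11, 4, 9, 6, 20, 23],
  [3, 2, 1, 0, 13, 5, 16, 21, 6, 8, 20, 15, 18, 12, 14, 22, 9, 17, 4, 11, 7, 10, 19, 23],
  [3, 2, 1, 0, 6, 5, 7, 22, 13, 10, 11, 12, 9, 15, 14, 21, 18, 17, 19, 20, 16, 8, 4, 23],
  [3, 2, 1, 0, 18, 5, 8, 20, 9, 16, 21, 19, 13, 4, 14, 11, 6, 17, 12, 22, 10, 7, 15, 23],
  [3, 2, 1, 0, 12, 5, 11, 10, 15, 22, 7, 6, 4, 13, 14, 8, 19, 17, 18, 16, 20, 21, 9, 23],
  [2, 3, 0, 1, 4, 5, 11, 7, 16, 22, 10, 6, 12, 21, 14, 19, 8, 17, 20, 15, 18, 13, 9, 23],
  [2, 1, 0, 3, 8, 5, 13, 16, 9, 21, 19, 20, 15, 12, 17, 6, 11, 14, 10, 22, 7, 4, 18, 23],
  [2, 1, 0, 3, 6, 5, 10, 9, 16, 12, 11, 4, 22, 21, 17, 8, 19, 14, 13, 15, 18, 20, 7, 23],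
  [2, 1, 0, 3, 15, 5, 21, 19, 11, 13, 16, 18, 8, 10, 17, 22, 9, 14, 12, 6, 4, 7, 20, 23],
  [2, 1, 0, 3, 7, 5, 9, 10, 13, 11, 12, 22, 4, 19, 17, 18, 21, 14, 16, 20, 8, 15, 6, 23],
  [2, 1, 0, 3, 20, 5, 19, 21, 12, 16, 13, 8, 18, 9, 17, 4, 10, 14, 11, 7, 22, 6, 15, 23],
  [3, 0, 1, 2, 21, 5, 19, 20, 10, 16, 18, 8, 13, 22, 17, 7, 12, 14, 6, 4, 9, 11, 15, 23],
  [3, 2, 1, 0, 11, 5, 12, 9, 20, 4, 6, 7, 22, 16, 14, 18, 21, 17, 8, 13, 15, 19, 10, 23],
  [2, 1, 0, 3, 9, 5, 7, 6, 8, 4, 22, 12, 11, 20, 17, 16, 15, 14, 18, 19, 13, 21, 10, 23],
  [3, 2, 1, 0, 19, 5, 21, 16, 4, 20, 8, 18, 15, 9, 14, 7, 12, 17, 6, 10, 22, 11, 13, 23],
  [1, 2, 3, 0, 18, 5, 19, 13, 7, 16, 21, 8, 20, 6, 17, 10, 4, 14, 22, 12, 11, 9, 15, 23],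
  [2, 1, 0, 3, 21, 5, 15, 20, 4, 8, 18, 16, 13, 6, 17, 12, 7, 14, 22, 10, 11, 9, 19, 23],
  [3, 0, 1, 2, 19, 5, 21, 15, 9, 13, 8, 18, 16, 4, 17, 6, 11, 14, 7, 22, 10, 12, 20, 23],
  [3, 0, 1, 2, 20, 5, 15, 21, 7, 8, 13, 16, 18, 11, 17, 10, 4, 14, 9, 12, 6, 22, 19, 23],
  [3, 0, 1, 2, 15, 5, 20, 19, 6, 18, 16, 13, 8, 12, 17, 9, 22, 14, 10, 11, 7, 4, 21, 23],
  [3, 2, 1, 0, 7, 5, 6, 4, 16, 9, 12, 11, 10, 20, 14, 19, 8, 17, 21, 15, 13, 18, 22, 23],
  [1, 2, 3, 0, 19, 5, 18, 15, 11, 20, 8, 21, 16, 12, 17, 22, 9, 14, 10, 6, 7, 4, 13, 23],
  [1, 2, 3, 0, 10, 5, 22, 7, 13, 6, 4, 9, 12, 16, 17, 18, 21, 14, 19, 20, 15, 8, 11, 23],
  [2, 1, 0, 3, 12, 5, 22, 4, 20, 6, 7, 9, 10, 8, 17, 21, 18, 14, 15, 13, 19, 16, 11, 23],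
  [1, 2, 3, 0, 22, 5, 10, 11, 15, 12, 9, 4, 6, 20, 17, 19, 8, 14, 18, 16, 13, 21, 7, 23],
  [3, 2, 1, 0, 22, 5, 4, 6, 21, 12, 9, 10, 11, 8, 14, 13, 20, 17, 16, 18, 19, 15, 7, 23],
  [1, 2, 3, 0, 21, 5, 8, 20, 12, 15, 18, 19, 13, 11, 17, 4, 10, 14, 9, 7, 6, 22, 16, 23],
  [1, 2, 3, 0, 13, 5, 15, 18, 10, 8, 20, 16, 21, 9, 17, 7, 12, 14, 11, 4, 22, 6, 19, 23],
  [2, 1, 0, 3, 11, 5, 4, 22, 15, 7, 6, 10, 9, 18, 17, 19, 8, 14, 20, 16, 21, 13, 12, 23],
  [3, 0, 1, 2, 10, 5, 9, 7, 21, 11, 4, 22, 12, 8, 17, 20, 13, 14, 15, 18, 19, 16, 6, 23],
  [3, 0, 1, 2, 16, 5, 13, 8, 11, 21, 15, 20, 19, 7, 17, 22, 9, 14, 4, 6, 12, 10, 18, 23],
  [1, 0, 3, 2, 16, 5, 20, 19, 10, 21, 15, 13, 8, 9, 14, 12, 7, 17, 6, 4, 22, 11, 18, 23],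
  [1, 2, 3, 0, 16, 5, 20, 8, 9, 18, 15, 13, 19, 10, 17, 6, 11, 14, 12, 22, 4, 7, 21, 23],
  [1, 0, 3, 2, 19, 5, 18, 16, 12, 13, 8, 21, 15, 11, 14, 10, 4, 17, 22, 7, 6, 9, 20, 23],
  [3, 0, 1, 2, 11, 5, 12, 22, 16, 10, 6, 7, 9, 20, 17, 8, 19, 14, 18, 15, 13, 21, 4, 23],
  [1, 0, 3, 2, 10, 5, 22, 12, 16, 11, 4, 9, 7, 13, 14, 19, 8, 17, 18, 15, 20, 21, 6, 23],
  [0, 1, 2, 3, 19, 5, 13, 16, 10, 18, 8, 20, 15, 6, 14, 12, 7, 17, 9, 4, 11, 22, 21, 23],
  [3, 2, 1, 0, 4, 5, 22, 7, 19, 11, 10, 9, 12, 18, 14, 16, 15, 17, 13, 8, 21, 20, 6, 23],
  [1, 2, 3, 0, 8, 5, 21, 16, 6, 13, 19, 18, 15, 7, 17, 9, 22, 14, 4, 11, 12, 10, 20, 23],
  [1, 2, 3, 0, 6, 5, 12, 9, 8, 10, 11, 7, 22, 18, 17, 16, 15, 14, 20, 19, 21, 13, 4, 23],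
  [1, 2, 3, 0, 15, 5, 13, 19, 22, 21, 16, 20, 8, 4, 17, 11, 6, 14, 7, 9, 10, 12, 18, 23],
  [1, 2, 3, 0, 7, 5, 11, 10, 18, 9, 12, 6, 4, 8, 17, 13, 20, 14, 15, 21, 19, 16, 22, 23],
  [2, 1, 0, 3, 4, 5, 11, 12, 21, 9, 10, 6, 7, 16, 17, 20, 13, 14, 19, 18, 15, 8, 22, 23],
  [3, 0, 1, 2, 9, 5, 10, 6, 19, 12, 22, 4, 11, 18, 17, 15, 16, 14, 20, 8, 21, 13, 7, 23],
  [3, 0, 1, 2, 8, 5, 18, 16, 22, 20, 19, 21, 15, 10, 17, 11, 6, 14, 12, 9, 4, 7, 13, 23],
  [3, 0, 1, 2, 7, 5, 6, 10, 20, 22, 12, 11, 4, 16, 17, 21, 18, 14, 19, 13, 15, 8, 9, 23],
  [3, 0, 1, 2, 13, 5, 16, 18, 12, 19, 20, 15, 21, 6, 17, 4, 10, 14, 22, 7, 11, 9, 8, 23],
  [1, 2, 3, 0, 11, 5, 7, 22, 19, 4, 6, 12, 9, 21, 17, 15, 16, 14, 13, 8, 18, 20, 10, 23],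
  [3, 0, 1, 2, 6, 5, 7, 9, 15, 4, 11, 12, 22, 13, 17, 19, 8, 14, 21, 16, 20, 18, 10, 23],
  [1, 0, 3, 2, 20, 5, 16, 18, 22, 8, 13, 15, 21, 4, 14, 6, 11, 17, 12, 9, 10, 7, 19, 23],
  [1, 2, 3, 0, 20, 5, 16, 21, 4, 19, 13, 15, 18, 22, 17, 12, 7, 14, 6, 10, 9, 11, 8, 23],
  [0, 3, 2, 1, 15, 5, 18, 19, 9, 20, 16, 21, 8, 7, 17, 6, 11, 14, 4, 22, 12, 10, 13, 23],
  [0, 3, 2, 1, 21, 5, 16, 20, 7, 19, 18, 15, 13, 9, 17, 10, 4, 14, 11, 12, 22, 6, 8, 23],
  [3, 0, 1, 2, 18, 5, 8, 13, 4, 15, 21, 19, 20, 9, 17, 12, 7, 14, 11, 10, 22, 6, 16, 23],
  [1, 0, 3, 2, 18, 5, 19, 20, 6, 15, 21, 8, 13, 7, 14, 22, 9, 17, 10, 11, 12, 4, 16, 23],
  [1, 2, 3, 0, 12, 5, 6, 4, 21, 22, 7, 11, 10, 19, 17, 20, 13, 14, 16, 18, 8, 15, 9, 23],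
  [0, 3, 2, 1, 16, 5, 21, 8, 22, 13, 15, 18, 19, 12, 17, 11, 6, 14, 10, 9, 7, 4, 20, 23],
  [0, 3, 2, 1, 10, 5, 11, 7, 20, 9, 4, 6, 12, 19, 17, 21, 18, 14, 16, 13, 8, 15, 22, 23],
  [3, 0, 1, 2, 12, 5, 11, 4, 13, 9, 7, 6, 10, 15, 17, 18, 21, 14, 8, 20, 16, 19, 22, 23],
  [0, 3, 2, 1, 11, 5, 10, 22, 8, 12, 6, 4, 9, 13, 17, 16, 15, 14, 21, 19, 20, 18, 7, 23],
  [1, 0, 3, 2, 22, 5, 10, 6, 20, 7, 9, 4, 11, 15, 14, 18, 21, 17, 19, 13, 16, 8, 12, 23],
  [0, 3, 2, 1, 18, 5, 15, 13, 12, 8, 21, 16, 20, 22, 17, 4, 10, 14, 6, 7, 9, 11, 19, 23],
  [0, 1, 2, 3, 13, 5, 19, 21, 11, 15, 20, 8, 18, 4, 14, 9, 22, 17, 12, 6, 10, 7, 16, 23],
  [1, 2, 3, 0, 9, 5, 4, 6, 16, 7, 22, 10, 11, 13, 17, 8, 19, 14, 21, 15, 20, 18, 12, 23],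
  [0, 3, 2, 1, 20, 5, 8, 21, 10, 15, 13, 19, 18, 6, 17, 7, 12, 14, 22, 4, 11, 9, 16, 23],
  [3, 0, 1, 2, 22, 5, 4, 11, 8, 7, 9, 10, 6, 21, 17, 16, 15, 14, 13, 19, 18, 20, 12, 23],
  [1, 0, 3, 2, 21, 5, 8, 13, 11, 16, 18, 19, 20, 12, 14, 9, 22, 17, 4, 6, 7, 10, 15, 23],
  [1, 0, 3, 2, 12, 5, 6, 10, 19, 9, 7, 11, 4, 21, 14, 16, 15, 17, 20, 8, 18, 13, 22, 23],
  [0, 3, 2, 1, 19, 5, 13, 15, 6, 21, 8, 20, 16, 10, 17, 9, 22, 14, 12, 11, 4, 7, 18, 23],
  [1, 0, 3, 2, 13, 5, 15, 21, 9, 19, 20, 16, 18, 10, 14, 11, 6, 17, 7, 22, 4, 12, 8, 23],
  [0, 1, 2, 3, 16, 5, 21, 19, 12, 20, 15, 18, 8, 22, 14, 10, 4, 17, 11, 7, 9, 6, 13, 23],
  [1, 0, 3, 2, 11, 5, 7, 9, 21, 10, 6, 12, 22, 19, 14, 13, 20, 17, 15, 18, 8, 16, 4, 23],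
  [0, 1, 2, 3, 10, 5, 11, 12, 19, 22, 4, 6, 7, 20, 14, 16, 15, 17, 21, 8, 13, 18, 9, 23],
  [0, 1, 2, 3, 18, 5, 15, 20, 22, 19, 21, 16, 13, 12, 14, 6, 11, 17, 4, 9, 7, 10, 8, 23],
  [1, 2, 3, 0, 4, 5, 9, 12, 20, 11, 10, 22, 7, 15, 17, 21, 18, 14, 8, 13, 16, 19, 6, 23],
  [0, 3, 2, 1, 9, 5, 12, 6, 15, 10, 22, 7, 11, 21, 17, 19, 8, 14, 13, 16, 18, 20, 4, 23],
  [0, 3, 2, 1, 8, 5, 20, 16, 11, 18, 19, 13, 15, 4, 17, 22, 9, 14, 7, 6, 10, 12, 21, 23],
  [0, 3, 2, 1, 7, 5, 22, 10, 21, 6, 12, 9, 4, 15, 17, 20, 13, 14, 8, 18, 16, 19, 11, 23],
  [3, 0, 1, 2, 4, 5, 22, 12, 18, 6, 10, 9, 7, 19, 17, 13, 20, 14, 16, 21, 8, 15, 11, 23],
  [1, 0, 3, 2, 8, 5, 21, 15, 7, 20, 19, 18, 16, 6, 14, 4, 10, 17, 9, 12, 11, 22, 13, 23],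
  [0, 3, 2, 1, 22, 5, 7, 11, 16, 4, 9, 12, 6, 18, 17, 8, 19, 14, 20, 15, 21, 13, 10, 23],
  [1, 0, 3, 2, 6, 5, 12, 22, 18, 4, 11, 7, 9, 8, 14, 20, 13, 17, 16, 21, 19, 15, 10, 23],
  [0, 3, 2, 1, 13, 5, 19, 18, 4, 16, 20, 8, 21, 11, 17, 12, 7, 14, 9, 10, 6, 22, 15, 23],
  [1, 0, 3, 2, 15, 5, 13, 8, 4, 18, 16, 20, 19, 22, 14, 7, 12, 17, 11, 10, 9, 6, 21, 23],
  [0, 1, 2, 3, 21, 5, 16, 13, 9, 8, 18, 15, 20, 7, 14, 11, 6, 17, 10, 22, 12, 4, 19, 23],
  [0, 3, 2, 1, 12, 5, 9, 4, 18, 11, 7, 22, 10, 16, 17, 13, 20, 14, 19, 21, 15, 8, 6, 23],
  [1, 0, 3, 2, 7, 5, 11, 4, 8, 22, 12, 6, 10, 18, 14, 15, 16, 17, 13, 19, 21, 20, 9, 23],
  [0, 1, 2, 3, 11, 5, 10, 9, 13, 7, 6, 4, 22, 8, 14, 21, 18, 17, 16, 20, 19, 15, 12, 23],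
  [0, 1, 2, 3, 15, 5, 18, 8, 7, 13, 16, 21, 19, 9, 14, 4, 10, 17, 6, 12, 22, 11, 20, 23],
  [0, 3, 2, 1, 6, 5, 4, 9, 19, 7, 11, 10, 22, 20, 17, 15, 16, 14, 18, 8, 13, 21, 12, 23],
  [1, 0, 3, 2, 9, 5, 4, 11, 13, 12, 22, 10, 6, 16, 14, 21, 18, 17, 8, 20, 15, 19, 7, 23],
  [0, 1, 2, 3, 12, 5, 9, 10, 16, 6, 7, 22, 4, 18, 14, 19, 8, 17, 13, 15, 21, 20, 11, 23],
  [0, 1, 2, 3, 20, 5, 8, 18, 6, 16, 13, 19, 21, 10, 14, 22, 9, 17, 7, 11, 4, 12, 15, 23],
  [0, 1, 2, 3, 22, 5, 7, 6, 18, 10, 9, 12, 11, 16, 14, 20, 13, 17, 8, 21, 15, 19, 4, 23],
  [0, 3, 2, 1, 4, 5, 6, 12, 13, 22, 10, 11, 7, 8, 17, 18, 21, 14, 15, 20, 19, 16, 9, 23],
  [1, 0, 3, 2, 4, 5, 9, 7, 15, 6, 10, 22, 12, 20, 14, 8, 19, 17, 21, 16, 13, 18, 11, 23],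
  [0, 1, 2, 3, 9, 5, 12, 11, 21, 4, 22, 7, 6, 15, 14, 13, 20, 17, 19, 18, 16, 8, 10, 23],
  [0, 1, 2, 3, 8, 5, 20, 15, 4, 21, 19, 13, 16, 11, 14, 7, 12, 17, 22, 10, 6, 9, 18, 23],
  [0, 1, 2, 3, 7, 5, 22, 4, 15, 11, 12, 9, 10, 21, 14, 8, 19, 17, 20, 16, 18, 13, 6, 23],
  [0, 1, 2, 3, 6, 5, 4, 22, 20, 12, 11, 10, 9, 19, 14, 18, 21, 17, 15, 13, 8, 16, 7, 23],
  [0, 1, 2, 3, 4, 5, 6, 7, 8, 9, 10, 11, 12, 13, 14, 15, 16, 17, 18, 19, 20, 21, 22, 23]]

/-- The elements of a subgroup of order 5. -/
def U5L : List (List Nat) := [
  [13, 3, 14, 17, 10, 6, 21, 0, 1, 9, 7, 11, 18, 4, 12, 8, 20, 15, 22, 19, 5, 16, 2, 23],
  [7, 8, 22, 1, 13, 20, 5, 10, 15, 9, 4, 11, 14, 0, 2, 17, 21, 3, 12, 19, 16, 6, 18, 23],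
  [10, 15, 18, 8, 0, 16, 20, 4, 17, 9, 13, 11, 2, 7, 22, 3, 6, 1, 14, 19, 21, 5, 12, 23],
  [4, 17, 12, 15, 7, 21, 16, 13, 3, 9, 0, 11, 22, 10, 18, 1, 5, 8, 2, 19, 6, 20, 14, 23],
  [0, 1, 2, 3, 4, 5, 6, 7, 8, 9, 10, 11, 12, 13, 14, 15, 16, 17, 18, 19, 20, 21, 22, 23]]

/-- The elements of a subgroup of order 7. -/
def U7L : List (List Nat) := [
  [5, 14, 17, 0, 4, 1, 11, 6, 19, 21, 18, 16, 15, 7, 2, 13, 12, 3, 8, 9, 20, 22, 10, 23],
  [3, 5, 14, 17, 4, 0, 7, 13, 18, 19, 22, 6, 16, 15, 1, 12, 11, 2, 10, 8, 20, 9, 21, 23],
  [14, 17, 0, 1, 4, 2, 12, 16, 21, 10, 19, 15, 7, 11, 3, 6, 13, 5, 9, 22, 20, 18, 8, 23],
  [2, 3, 5, 14, 4, 17, 15, 12, 22, 18, 9, 13, 6, 16, 0, 11, 7, 1, 21, 10, 20, 8, 19, 23],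
  [17, 0, 1, 2, 4, 3, 13, 15, 10, 8, 21, 7, 11, 12, 5, 16, 6, 14, 22, 18, 20, 19, 9, 23],
  [1, 2, 3, 5, 4, 14, 16, 11, 9, 22, 8, 12, 13, 6, 17, 7, 15, 0, 19, 21, 20, 10, 18, 23],
  [0, 1, 2, 3, 4, 5, 6, 7, 8, 9, 10, 11, 12, 13, 14, 15, 16, 17, 18, 19, 20, 21, 22, 23]]

/-- Generating triples: `(p, q, r, wx, wy, ua, ub)` with `x = wx(y, t)`, `y' = wy(y, t)` of orders
`p`, `q`, product of order `r`, and `y = ua(x, y')`, `t = ub(x, y')`. -/
def posData : List (Nat × Nat × Nat × List Bool × List Bool × List Bool × List Bool) := [
  (2, 5, 11, [false, false, false, true, false, true, false, true, false, false, true, false, false, true, false, false, false, true, false, false, true, false, false, false, false, false, false, true, false, false, false, true, false],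
    [false, true, false, false, true, false, false, true, false, true, false, false, false, false, true, false, false, false, true, false, true, false, true, false, false, true, false, true, false, false, true, false, false, false],
    [false, true, true, false, true, true, true, false, true, false, true, false, true, false, true, true, true, false, true, true, false, true, true, false, true, true, false, true, true, false, true, false, true, false, true],
    [true, false, true, true, false, true, true, false, true, false, true, true, true, false, true, false, true, false, true, false, true, false, true, true, false, true, true, true, true, false, true, false, true, true]),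
  (2, 5, 23, [false, true, false, false, false, true, false, true, false, false, true, false, false, true, false, false, true, false, true, false, false, false, false, true, false, true, false, false, false, false, false],
    [false, false, true, false, true, false, false, true, false],
    [true, true, false, true, true, false, true, true, false, true, false, true, true, false, true, true, true, true, false, true, true, false, true, false, true, false, true, true, true, false, true, false, true, false, true, true, false],
    [true, true, false, true, false, true, false, true, true, false, true, true, true, false, true, true, true, false, true, true, true, false, true, true, false, true, false, true, true, false, true, true, true, false, true, false]),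
  (2, 7, 7, [false, false, false, true, false, false, false, true, false, true, false, true, false, true, false, true, false, false, false, false, false, true, false, true, false, true, false, false, false, false, false, true, false, false, false],
    [false, false, true, false, true, false, true, false, false, false, false, false, true, false, true, false, false, true, false, true, false, false, true, false, true, false, true, false, false, true],
    [false, true, true, true, true, false, true, false, true, true, true, false, true, true, false, true, true, true, false, true, true, true, true, false, true, true, false, true, false, true, false],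
    [true, true, true, false, true, true, false, true, false, true, true, false, true, false, true, false, true, true, true, false, true, false, true, false, true, false, true, true, true, true, true]),
  (2, 7, 11, [false, false, true, false, false, true, false, false, true, false, false, false, true, false, false, false, false, false, false, true, false, false, true, false, false, false, true, false, false, false, false, false, false, true],
    [false, false, true, false, true, false, true, false, false, true, false, false, true, false, false, true, false, false, false, false, false, true, false, false, true, false, false, false, true, false, true, false],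
    [true, false, true, true, true, true, true, false, true, true, true, true, true, false, true, true, true, true, false, true, true, false, true, true, true, true, false, true, true, true, false, true, true, true, true],
    [false, true, false, true, false, true, true, true, false, true, false, true, false, true, true, true, true, false, true, true, true, false, true, true, false]),
  (2, 7, 23, [false, false, false, false, false, true, false, false, true, false, true, false, false, false, false, false, true, false, false, true, false, false, false, false, true, false, false, false, true, false, true, false],
    [false, false, false, false, false, true, false, true, false, true, false, false, false, false, true, false, false, false, false, true, false, false, true, false, true, false, false, false, false, true, false, false, true],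
    [true, false, true, true, false, true, true, false, true, false, true, false, true, false, true, false, true, true, true, false, true, true, false, true, true, false, true, true],
    [true, false, true, false, true, true, false, true, true, false, true, true, true, false, true, true, false, true, true, true, false, true, false, true, true, true, true, false, true, false, true, true, true, false]),
  (2, 11, 11, [false, false, false, false, false, true, false, false, false, true, false, false, false, false, true, false, false, false, true, false, false, true, false, false, true, false, false, false, true, false, false, true, false, false, true],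
    [false, false, false, false, false, false, true, false, true, false, true, false, true, false, true, false, true, false, true, false, false, true, false, false, false, false, false],
    [true, false, true, true, true, false, true, true, false, true, true, true, true, false, true, true, false, true, true, true, true, true, true, true, false, true, true, true, true],
    [false, true, true, false, true, false, true, false, true, true, true, true, false, true, false, true, true, true, true, true, true, true, true, true, false, true, true, true, false]),
  (2, 11, 23, [true, false, false, false, false, false, true, false, true, false, false, false, false, true, false, false, false, false, false, true, false, true, false, false, true, false, false, false, false, false],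
    [true, false, false, true, false, false, false, false, true, false, false, false, false, false, true, false, true, false, true, false, false, false, false, false],
    [true, false, true, true, true, true, false, true, true, false, true, true, false, true, true, false, true, false, true, false, true, true, false, true, false, true, true, true, false, true],
    [true, true, true, true, true, true, true, true, false, true, true, false, true, true, true, true, true, true, true, true, true, false, true, true, false, true]),
  (2, 23, 23, [true, false, true, false, false, true, false, true, false, true, false, true, false, false, true, false, false, true, false, true, false, true, false, false, false, false, true, false, false, true],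
    [false, true, false, false, false, true, false, true, false, false, false, true, false, false, false, true, false, false, false, false, true, false, false, true, false, false, false, true],
    [true, false, true, false, true, false, true, true, false, true, true, false, true, true, false, true, true, true, true, false, true, true, false, true, true, true, false],
    [false, true, true, true, true, true, false, true, false, true, true, false, true, true, false, true, false, true, true, true, true, true, true, true, false, true, true, false, true, true, false]),
  (3, 3, 11, [true, false, false, false, true, false, false, true, false, false, false, true, false, false, false, true, false, true, false, false, false, true, false, false, true, false, true],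
    [false, true, false, true, false, true, false, true, false, true, false, false, false, true, false, true, false, true, false, true, false, false, false, false, true, false, false, false, false, true, false, true, false, false, false],
    [true, false, false, true, false, false, true, false, false, true, false, true, false, true, true, false, false, true, true, false, true, false, true, true, false],
    [false, true, false, false, true, false, true, false, true, false, true, false, false, true, false, true, true, false, false, true, true, false, false, true, false, false]),
  (3, 3, 23, [false, false, false, false, true, false, false, false, true, false, true, false, false, false, false, false, false, true, false, false, false, false, false, true, false, true, false, false, false, true, false, true, false, true, false],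
    [true, false, false, false, true, false, false, true, false, false, true, false, false, false, true, false, false, false, false, false, true, false, true, false, false, false, false, true],
    [false, true, false, true, false, true, false, false, true, false, false, true, true, false, false, true, false, true, false, false, true, false, false, true, false, true, true, false, true, false, true, false],
    [false, false, true, true, false, false, true, false, true, false, true, false, true, false, true, false, true, false, true, false, true, false, true, false, false, true, false, false, true, false, true, false]),
  (3, 5, 5, [false, true, false, true, false, false, true, false, false, false, false, false, true, false, false, false, true, false, false, true, false, false, false, true, false, true, false, false, false, false, false],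
    [false, false, true, false, true, false, true, false, true, false, true, false, false, true, false, true, false, false, true, false, true, false, true, false, true, false, false, false, false, false, true, false, true],
    [false, true, false, true, true, false, true, true, true, false, false, true, true, true, false, true, true, false, false, true, true, false, false, true, true, true, false],
    [true, false, true, false, false, true, false, true, false, false, true, true, true, false, true, true, false, true, true, false, true, true, true, false, false]),
  (3, 5, 7, [false, false, true, false, false, false, true, false, true, false, true, false, true, false, false, false, true, false, true, false, false, false, true, false, false, false, false, false, true, false, false, false, true],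
    [true, false, false, false, true, false, false, false, false, false, true, false, false, false, false, false, false, true, false, true, false, true, false, false, false, false],
    [false, true, true, false, false, true, false, false, true, true, true, true, false, false, true, false, false, true, false, true, true, false, true],
    [true, true, false, true, false, true, true, true, false, false, true, true, false, false, true, true, true, false, true, false, true, false, true, false, true, true, true]),
  (3, 5, 11, [false, false, false, false, true, false, false, false, false, true, false, false, true, false, true, false, true, false, false, false, true, false, false, false, true, false, false, false, true, false, false, true, false, false, true],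
    [false, false, false, false, false, false, true, false, false, false, false, false, true, false, false, true, false, false, false, false, true, false, true, false, false, false, false, false, false],
    [false, false, true, false, true, false, false, true, true, false, true, false, false, true, true, false, true, false, true, false, false],
    [false, false, true, true, false, true, false, true, false, true, true, true, false, false, true, false, true, true, false, true, false, true, false, true, false, true]),
  (3, 5, 23, [true, false, false, true, false, false, true, false, true, false, true, false, true, false, false, true, false, false, true, false, false, true, false, true, false, false, false, true, false, false, false],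
    [true, false, false, false, true, false, true, false, true, false, true, false, true, false, true, false, false, false, false, true, false, false, false, true, false, false, false, false, false, true, false],
    [false, false, true, true, false, true, true, true, true, false, true, true, true, true, false, true, true, false, false, true, true, false, true, false, true, false, true, true, false],
    [true, true, false, true, false, true, true, false, true, true, false, false, true, false, true, false, true, true, true, true, false, true, false, false, true, false, true]),
  (3, 7, 7, [false, false, false, true, false, false, true, false, false, false, false, false, true, false, true, false, true, false, true, false, false, true, false, false, false, true, false, false, false, false, true, false, true, false],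
    [false, false, false, true, false, true, false, true, false, true, false, true, false, false, false, false, false, true, false, false, false, true, false, true, false, false, true, false, false, false, true, false, false],
    [true, true, true, false, false, true, false, false, true, false, false, true, true, false, true, true, true, true, false, false, true, true, true],
    [false, true, false, false, true, true, true, false, true, true, true, true, true, false, true, false, true, true, false, false, true, true]),
  (3, 7, 11, [false, false, false, true, false, true, false, false, true, false, true, false, true, false, true, false, false, false, false, true, false, true, false, true, false, false, false, true, false, true, false, false, false],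
    [false, true, false, true, false, false, false, false, true, false, false, true, false, false, false, false, false, false, true, false, false, false, false, true, false, true, false, true, false, false, true, false, true],
    [true, false, false, true, false, false, true, true, false, false, true, false, false, true, true, true, false, true, true, true, true],
    [false, true, false, true, false, true, true, false, true, true, true, true, true, false, false, true, true, true, true, false, true, true, false, true, false, true]),
  (3, 7, 23, [false, true, false, false, false, true, false, false, true, false, true, false, false, false, false, false, false, true, false, false, false, true, false, false, true, false, true, false, false, true, false],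
    [false, true, false, false, true, false, false, false, false, true, false, true, false, false, false, false, true, false, true, false, false, false, false, true, false, false, false, true, false, false, false],
    [true, true, false, true, true, true, true, true, false, true, true, true, true, false, true, false, true, true],
    [false, true, false, true, false, true, true, true, false, true, false, false, true, true, true, false, true, false, true, false, true, false, false, true, false]),
  (3, 11, 11, [false, false, true, false, false, false, false, true, false, false, false, true, false, false, false, false, true, false, false, false, true, false, true, false, false, false, false],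
    [false, false, true, false, true, false, true, false, false, true, false, true, false, true, false, true, false, false, false, false, false, true, false, false, false, false, false, true, false, false, true, false, true],
    [true, false, true, false, true, true, false, true, true, true, true, false, false, true, true, false, false, true, true, true, false, true, false, true, false, true, false],
    [false, false, true, false, true, true, false, true, true, false, true, true, false, true, true, false, true, true, false, true, true, false, true, false]),
  (3, 11, 23, [false, true, false, false, false, false, false, true, false, true, false, false, false, true, false, false, true, false, false, true, false, true, false, false, false, true, false, false, true, false, true],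
    [false, true, false, false, true, false, true, false, false, true, false, true, false, false, false, true, false, false, false, true, false, false, false, false, false, false, true, false, false, false, true],
    [false, false, true, false, true, false, false, true, true, true, false, true, true, true, true, true, false, true, false, true, true, false, false, true, false, false],
    [false, false, true, false, true, false, true, false, false, true, false, false, true, true, false, true, true, false, true, true, true, false, false, true, false, true]),
  (3, 23, 23, [false, true, false, false, false, false, true, false, true, false, false, true, false, false, true, false, false, false, false, false, false, true, false, true],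
    [false, false, false, false, true, false, true, false, false, false, false, false, false, true, false, true, false, false, true, false, true, false, false, true, false, true, false, false, true, false, false, true],
    [true, false, true, false, false, true, false, false, true, false, true, true, true, false, false, true, false, true, true, true, false, true],
    [false, false, true, true, true, true, true, true, false, false, true, false, true, true, false, true, true, false, false, true, false, true, true, false, false, true, true]),
  (5, 5, 5, [false, false, true, false, true, false, false, false, false, false, true, false, true, false, false, true, false, false, true, false, false, true, false, true, false],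
    [false, true, false, true, false, false, false, false, true, false, false, false, true, false, true, false, false, false, true, false, true, false, true, false, true, false, false, true],
    [true, false, false, false, true, false, true, true, true, true, false, true, true, true, false, true, true, true, true, false, true],
    [false, false, true, false, false, true, false, true, true, true, false, true, false, true, true, false, false, false, true, true, true, false, false]),
  (5, 5, 7, [false, false, false, false, true, false, false, false, true, false, false, true, false, false, false, false, true, false, false, false, true, false, false, false, true, false, false, false, true, false],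
    [false, false, true, false, false, true, false, true, false, true, false, true, false, false, true, false, true, false, true, false, true, false, false, true, false, false, false, false, true],
    [false, true, false, true, true, true, true, false, true, false, false, false, true, true, true, false, true, true, true, false, true, false, false],
    [true, true, true, true, false, false, true, false, true, true, true, false, false, false, false, true, false, true, false, false, true, false, false]),
  (5, 5, 11, [false, false, false, true, false, true, false, false, false, false, true, false, true, false, false, false, true, false, false, false, false, true, false, false, true, false, false, false, true, false, false, false, true],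
    [true, false, false, true, false, false, true, false, true, false, false, false, false, false, true, false, false, true, false, false, false, false, false, false, true, false, false, true, false, false, false, false],
    [false, false, false, false, true, true, true, false, false, true, false, false, false, true, false, false, true, true, false, true, true, false, true],
    [false, false, false, false, true, true, false, true, false, false, false, true, true, true, false, true, true, true, true, false, false]),
  (5, 5, 23, [true, false, true, false, true, false, false, true, false, false, false, false, false, true, false, true, false, false, false, false, true, false, false, true, false, false, true, false, true, false, true, false, true],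
    [false, true, false, true, false, false, false, false, true, false, false, false, true, false, true, false, true, false, false, false, true, false, false, false, true, false, true, false, true, false, false, true],
    [true, false, true, false, false, true, false, true, true, true, false, false, false, false, true, true, false, true, true, true],
    [false, false, true, false, true, false, false, true, false, false, true, false, false, true, true, false, false, true, true, false, true, true, true]),
  (5, 7, 7, [false, false, true, false, false, false, true, false, false, true, false, true, false, false, false, false, true, false, true, false, true, false, true, false, false, false],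
    [true, false, false, false, false, true, false, false, false, true, false, false, true, false, false, false, true, false, false, true, false, true, false, true, false, false, true, false],
    [true, true, true, false, true, true, true, true, false, false, true, true, true, false, false, false, false, true, true, true, true, false, false, true],
    [true, false, true, false, false, false, false, true, true, false, true, false, true, false, true, false, false, true, false, false, true]),
  (5, 7, 11, [false, false, false, false, false, false, true, false, false, true, false, false, false, true, false, true, false, true, false, false, false, true, false, false, false, true, false, false, true, false],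
    [false, false, true, false, true, false, false, false, true, false, false, false, false, true, false, true, false, true, false, false, false, false, true, false, true, false, true, false, true, false, false],
    [false, false, false, true, true, false, true, false, true, true, true, false, false, true, false, true, true, true, false, true, true, false],
    [true, false, true, true, false, true, true, false, true, true, false, true, true, false, true, true, false, true, true, false, true]),
  (5, 7, 23, [false, false, false, true, false, true, false, true, false, false, true, false, true, false, true, false, false, false, true, false, false, true, false, false, false, false, false, true, false, true, false, false, false],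
    [false, false, false, false, false, true, false, false, false, true, false, false, true, false, true, false, true, false, true, false, true, false, false, false, false, true, false, true, false, true, false, true, false],
    [false, true, false, false, true, true, false, true, false, false, true, true, true, true, false, true, true, false, true],
    [false, false, true, false, false, true, false, false, true, true, false, false, false, true, true, false, false, true, false, false, false, true, false]),
  (5, 11, 11, [false, false, false, false, false, true, false, true, false, true, false, false, false, true, false, true, false, false, false, true, false, true, false, false, true, false, true, false, true],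
    [true, false, false, true, false, false, false, false, true, false, true, false, true, false, true, false, false, false, false, false, true, false, false],
    [false, false, false, true, true, false, true, false, true, false, true, true, true, false, false, true, false, true, false, false, false],
    [false, true, true, true, false, true, true, true, true, false, true, false, false, true, true, false, true, false, true, true, false, false, true, false, true]),
  (5, 11, 23, [false, true, false, false, false, true, false, false, false, true, false, true, false, false, false, false, true, false, false, true, false, false, false, false, false, false],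
    [false, false, true, false, false, true, false, true, false, true, false, false, false, true, false, false, true, false, false, false, true, false, false, false, true, false, true, false, false, true, false, false],
    [false, true, false, false, false, true, false, false, true, true, true, true, true, false, false, false, false, true, true, true, true, true, false, true],
    [true, false, false, false, true, true, true, true, false, false, true, false, false, false, true, true, true, true, false, true, false, false, false]),
  (5, 23, 23, [true, false, false, false, false, true, false, false, true, false, true, false, false, false, false, true, false, false, false, true, false, false, true, false, true, false],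
    [true, false, false, false, false, true, false, false, true, false, false, true, false, true, false, true, false, false, false, false],
    [true, false, false, true, true, false, true, true, false, false, true, true, true, false, true, true, true, false, true, false, true, true],
    [false, true, true, true, false, true, false, false, true, false, false, false, true, true, false, true, false, true, true, true, true, false, false, true]),
  (7, 7, 7, [false, false, false, false, false, false, true, false, false, false, true, false, false, true, false, true, false, false, true, false, false, false, false, false, true, false, false, false, true, false, true, false, true, false, false, true],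
    [false, false, false, false, false, true, false, true, false, true, false, false, true, false, false, false, false, false, true, false, false, true, false, false, false, false, false, true, false, false, false, true],
    [false, true, false, true, false, false, false, false, false, true, true, false, false, true, false, false, false, true, false],
    [false, false, false, true, true, false, true, true, true, false, true, true, false, true, true, true, false, false, true, false, true, false, true, false]),
  (7, 7, 11, [false, true, false, false, false, false, false, false, true, false, true, false, true, false, false, false, false, true, false, true, false, false, false, false, false, false, true, false, true, false, true, false, false, false],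
    [false, false, false, true, false, false, false, true, false, false, false, false, false, false, true, false, true, false, false, false, false, true, false, false, true, false, false, false, false, false],
    [false, true, true, false, true, false, true, false, false, false, false, false, false, true, false, true, false, true, false, true, false, true, true],
    [true, false, false, false, false, true, false, true, true, true, true, true, false, true, true, false, true, false, false, false, false, true, false, false]),
  (7, 7, 23, [false, false, false, false, true, false, false, false, false, true, false, true, false, true, false, false, false, false, true, false, true, false, false, false, false, true, false, false, false, false, true, false, true, false],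
    [false, true, false, false, true, false, true, false, true, false, true, false, false, true, false, true, false, true, false, false, true, false, true, false, false, true, false, true, false, false, true, false, false, true],
    [true, false, false, true, true, false, true, true, true, true, false, false, false, true, true, false, false, false, false, true],
    [true, false, false, true, false, false, true, false, true, false, false, true, true, false, true, true, false, false]),
  (7, 11, 11, [false, true, false, true, false, false, false, false, true, false, true, false, false, false, false, true, false, false, false, false, true, false, false, true, false, true, false, false, true],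
    [false, true, false, false, false, false, false, false, true, false, true, false, false, false, true],
    [true, true, true, false, false, false, true, false, false, true, true, true, true, false, false, true, false, false, false, false],
    [false, false, true, false, true, false, true, true, false, false, true, false, true, true, true, false, false, true, true, false]),
  (7, 11, 23, [true, false, false, false, true, false, true, false, false, true, false, false, false, false, false, true, false, false, false, false, true, false, true, false, true, false, false, false, true, false, true],
    [true, false, false, true, false, false, true, false, false, false, false, true, false, true, false, true, false, true, false, false, true, false, false, false, false, true, false, false, false, true, false, false],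
    [true, true, true, true, false, false, true, false, false, true, false, true, true, true, true, true, false, true, false, false, false, false, false, true],
    [true, true, true, false, false, false, false, true, true, false, true, false, true, false, false, true, false, true, false, true, false, true, true, true]),
  (7, 23, 23, [true, false, true, false, false, false, false, false, true, false, false, false, false, false, false, true, false, false, false, true, false, true, false, false, true, false, false],
    [false, false, true, false, true, false, true, false, true, false, false, true, false, false, true, false, false, false, false, true, false, false, false, true, false, false, false, false, true, false, false, false, true, false],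
    [true, true, false, false, true, true, false, false, false, true, true, false, true, false, true, true, false, false, false, false, true, false, false, true],
    [false, true, true, false, false, true, true, true, true, true, true, false, true, true, true, false, true, false, false, true, true, true]),
  (11, 11, 11, [true, false, false, false, false, true, false, false, false, true, false, true, false, false, false, false, false, true, false, false, false, true, false, false, false, false, true, false, false, false, true, false],
    [false, false, false, false, true, false, false, true, false, false, false, false, false, true, false, true, false, false, false, false, false, false, true, false, true, false, false, false, true, false, false, false],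
    [false, true, false, true, true, true, true, false, false, true, false, true, true, true, true, false, false, false, false, true, true],
    [true, false, true, false, true, false, false, false, true, false, false, true, true, true, false, true, false, false, true, true, true]),
  (11, 11, 23, [false, true, false, false, false, false, false, true, false, false, true, false, true, false, true, false, false, false, false, false, true, false, true, false, false, false, false, true, false, true, false],
    [true, false, true, false, false, false, true, false, false, false, false, false, false, true, false, false, false, false, false, true, false, false, false, true, false, false, true, false, false, false],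
    [false, true, true, false, false, false, false, false, false, false, true, true, false, false, false, false, false, false, false, false],
    [false, true, true, true, false, false, true, true, true, true, false, false, true, true, true, false, true, false, false, false, false, false, true]),
  (11, 23, 23, [false, true, false, false, true, false, true, false, false, true, false, false, false, false, false, true, false, false, false, false, true, false, true, false, false, false, false, true, false, true, false, true, false],
    [false, false, false, true, false, true, false, false, false, false, false, true, false, false, false, false, true, false, false, false, true, false, false, false, false, true, false, true, false, true, false, false],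
    [false, true, false, true, false, true, false, false, true, false, false, true, false, true, false, true, true, true, true, false, false, true],
    [false, true, true, true, true, true, true, true, true, true, true, true, true, false, true, true, true, true, true, false, true, false]),
  (23, 23, 23, [true, false, true, false, false, true, false, true, false, false, true, false, false, false, false, false, true, false, false, true, false, true, false, true, false, false, false, true, false, false, false, false, false, true, false],
    [true, false, true, false, true, false, false, true, false, false, false, false, true, false, true, false, false, true, false, true, false, false, true, false, false, false],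
    [false, false, false, true, true, false, true, true, true, true, true, true, true, true, false, true, true, true, true, true, false, true, false],
    [true, false, false, false, false, false, true, false, false, true, true, false, true, true, true, true, true, false, false, false, false, true, true])]

end Cfsg.Agent.Lib.Helper35.M23GenData
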