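import Mathlib
import Cfsg.Agent.Lib.Helper35.M24P

/-!
# Packed permutations of the Golay points: the computed tests

Definitions only (all evaluated by the kernel): validity of a packed permutation, membership in
`M24` through the images of twelve octads, a class label for elements of order 11, 15, 21, 23.
-/

set_option autoImplicit false

namespace Cfsg.Agent.Lib.Helper35.M24D

open Cfsg Cfsg.Agent.Lib.Helper35.M24P

/-- Some entry satisfies `f`. -/
noncomputable def anyL {α : Type} (f : α → Bool) (l : List α) : Bool :=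
  List.rec (motive := fun _ => Bool) false (fun a _ ih => cond (f a) true ih) l

/-- All entries satisfy `f`. -/
noncomputable def allL {α : Type} (f : α → Bool) (l : List α) : Bool :=
  List.rec (motive := fun _ => Bool) true (fun a _ ih => cond (f a) ih false) l

/-- The byte positions of the 24 points. -/
def pts8 : List Nat := [0, 8, 16, 24, 32, 40, 48, 56, 64, 72, 80, 88, 96, 104, 112, 120, 128, 136, 144, 152, 160, 168, 176, 184]

/-- `d` steps along the packed permutation `c`. -/
noncomputable def stepN (c d x : Nat) : Nat :=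
  Nat.rec (motive := fun _ => Nat) x (fun _ y => ent c y) d

/-- The mask of the point at byte position `y`. -/
def bit (y : Nat) : Nat := Nat.shiftLeft 1 (Nat.shiftRight y 3)

/-- The mask of the points reached from `x` after the partial sums of `steps` steps. -/
noncomputable def omask (c : Nat) (steps : List Nat) : Nat → Nat :=
  List.rec (motive := fun _ => Nat → Nat) (fun x => bit x)
    (fun d _ ih x => Nat.lor (bit x) (ih (stepN c d x))) steps

/-- The mask of the images of the points at the byte positions in `l`. -/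
noncomputable def imgL (c : Nat) (l : List Nat) : Nat :=
  List.rec (motive := fun _ => Nat) 0 (fun i8 _ acc => Nat.lor (bit (ent c i8)) acc) l

/-- The 759 octads as a search tree of masks. -/
def octT : T := (T.node (T.node (T.node (T.node (T.node (T.node (T.node (T.node (T.node (T.node T.leaf 5279 T.leaf) 10558 T.leaf) 15777 (T.node (T.node T.leaf 18147 T.leaf) 21116 T.leaf)) 31554 (T.node (T.node (T.node T.leaf 36294 T.leaf) 39257 T.leaf) 42232 (T.node (T.node T.leaf 45159 T.leaf) 52005 T.leaf))) 57883 (T.node (T.node (T.node (T.node T.leaf 63108 T.leaf) 69395 T.leaf) 72588 (T.node (T.node T.leaf 75309 T.leaf) 78514 T.leaf)) 84464 (T.node (T.node (T.node T.leaf 90318 T.leaf) 95313 T.leaf) 99029 (T.node (T.node T.leaf 104010 T.leaf) 115766 T.leaf)))) 118953 (T.node (T.node (T.node (T.node (T.node T.leaf 126216 T.leaf) 133817 T.leaf) 138790 (T.node (T.node T.leaf 140167 T.leaf) 145176 T.leaf)) 150618 (T.node (T.node (T.node T.leaf 153797 T.leaf) 157028 T.leaf) 168928 (T.node (T.node T.leaf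 175681 T.leaf) 180636 T.leaf))) 185603 (T.node (T.node (T.node (T.node T.leaf 190626 T.leaf) 198058 T.leaf) 201013 (T.node (T.node T.leaf 208020 T.leaf) 210955 T.leaf)) 213833 (T.node (T.node (T.node T.leaf 231532 T.leaf) 237906 T.leaf) 252432 (T.node (T.node T.leaf 262637 T.leaf) 267634 T.leaf))))) 272595 (T.node (T.node (T.node (T.node (T.node (T.node T.leaf 277580 T.leaf) 280334 T.leaf) 283537 (T.node (T.node T.leaf 290352 T.leaf) 298027 T.leaf)) 301236 (T.node (T.node (T.node T.leaf 304405 T.leaf) 307594 T.leaf) 314056 (T.node (T.node T.leaf 334433 T.leaf) 337856 T.leaf))) 346141 (T.node (T.node (T.node (T.node T.leaf 351362 T.leaf) 352547 T.leaf) 361272 (T.node (T.node T.leaf 371206 T.leaf) 381252 T.leaf)) 396116 (T.node (T.node (T.node T.leaf 402026 T.leaf) 416040 T.leaf) 418953 (T.node (T.node T.leaf 421910 T.leaf) 427666 T.leaf)))) 430605 (T.node (T.node (T.node (T.node (T.node T.leaf 442481 T.leaf) 459847 T.leaf) 463064 (T.node (T.node T.leaf 475812 T.leaf) 493953 T.leaf)) 504864 (T.node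 (T.node (T.node T.leaf 525274 T.leaf) 530245 T.leaf) 535268 (T.node (T.node T.leaf 542009 T.leaf) 545190 T.leaf))) 551943 (T.node (T.node (T.node (T.node T.leaf 555160 T.leaf) 560668 T.leaf) 563843 (T.node (T.node T.leaf 567074 T.leaf) 580704 T.leaf)) 582081 (T.node (T.node (T.node T.leaf 593097 T.leaf) 596054 T.leaf) 602472 (T.node T.leaf 608810 T.leaf)))))) 615188 (T.node (T.node (T.node (T.node (T.node (T.node (T.node T.leaf 622863 T.leaf) 628112 T.leaf) 632881 (T.node (T.node T.leaf 657763 T.leaf) 663645 T.leaf)) 668866 (T.node (T.node (T.node T.leaf 675712 T.leaf) 684577 T.leaf) 689317 (T.node (T.node T.leaf 692282 T.leaf) 702724 T.leaf))) 705094 (T.node (T.node (T.node (T.node T.leaf 722544 T.leaf) 737427 T.leaf) 742412 (T.node (T.node T.leaf 762504 T.leaf) 786999 T.leaf)) 792232 (T.node (T.node (T.node T.leaf 797449 T.leaf) 804052 T.leaf) 806987 (T.node (T.node T.leaf 832080 T.leaf) 837906 T.leaf)))) 843820 (T.node (T.node (T.node (T.node (T.node T.leaf 855332 T.leaf) 861210 T.leaf) 864389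 (T.node (T.node T.leaf 884962 T.leaf) 902657 T.leaf)) 919694 (T.node (T.node (T.node T.leaf 924689 T.leaf) 926128 T.leaf) 951624 (T.node (T.node T.leaf 987906 T.leaf) 1009728 T.leaf))) 1050548 (T.node (T.node (T.node (T.node T.leaf 1053483 T.leaf) 1060490 T.leaf) 1063445 (T.node (T.node T.leaf 1065303 T.leaf) 1070536 T.leaf)) 1075305 (T.node (T.node (T.node T.leaf 1084018 T.leaf) 1090380 T.leaf) 1100945 (T.node (T.node T.leaf 1103886 T.leaf) 1110320 T.leaf))))) 1116327 (T.node (T.node (T.node (T.node (T.node (T.node T.leaf 1121336 T.leaf) 1122713 T.leaf) 1127686 (T.node (T.node T.leaf 1134148 T.leaf) 1148257 T.leaf)) 1161408 (T.node (T.node (T.node T.leaf 1164162 T.leaf) 1182989 T.leaf) 1186194 (T.node (T.node T.leaf 1188915 T.leaf) 1192108 T.leaf))) 1204944 (T.node (T.node (T.node (T.node T.leaf 1212619 T.leaf) 1217620 T.leaf) 1230376 (T.node (T.node T.leaf 1245726 T.leaf) 1250945 T.leaf)) 1256224 (T.node (T.node (T.node T.leaf 1265762 T.leaf) 1302533 T.leaf) 1312345 (T.node (T.node T.leaf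 1315526 T.leaf) 1327290 T.leaf)))) 1332261 (T.node (T.node (T.node (T.node (T.node T.leaf 1337732 T.leaf) 1351424 T.leaf) 1352353 (T.node (T.node T.leaf 1369154 T.leaf) 1378634 T.leaf)) 1384564 (T.node (T.node (T.node T.leaf 1405448 T.leaf) 1410188 T.leaf) 1413139 (T.node (T.node T.leaf 1445088 T.leaf) 1454401 T.leaf))) 1460739 (T.node (T.node (T.node (T.node T.leaf 1474854 T.leaf) 1484824 T.leaf) 1525008 (T.node (T.node T.leaf 1573998 T.leaf) 1577201 T.leaf)) 1584464 (T.node (T.node (T.node T.leaf 1589901 T.leaf) 1594898 T.leaf) 1608104 (T.node T.leaf 1613974 T.leaf))))))) 1618953 (T.node (T.node (T.node (T.node (T.node (T.node (T.node (T.node T.leaf 1647171 T.leaf) 1661185 T.leaf) 1664160 (T.node (T.node T.leaf 1675812 T.leaf) 1687640 T.leaf)) 1710664 (T.node (T.node (T.node T.leaf 1722420 T.leaf) 1728778 T.leaf) 1737489 (T.node (T.node T.leaf 1769924 T.leaf) 1805314 T.leaf))) 1836419 (T.node (T.node (T.node (T.node T.leaf 1839388 T.leaf) 1849378 T.leaf) 1852256 (T.node (T.node T.leaf 1869893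 T.leaf) 1903248 T.leaf)) 1975812 (T.node (T.node (T.node T.leaf 2019456 T.leaf) 2031657 T.leaf) 2101096 (T.node (T.node T.leaf 2106966 T.leaf) 2110153 T.leaf)))) 2115979 (T.node (T.node (T.node (T.node (T.node T.leaf 2120980 T.leaf) 2121909 T.leaf) 2126890 (T.node (T.node T.leaf 2130606 T.leaf) 2135601 T.leaf)) 2141072 (T.node (T.node (T.node T.leaf 2147405 T.leaf) 2150610 T.leaf) 2162811 (T.node (T.node T.leaf 2168036 T.leaf) 2173253 T.leaf))) 2180760 (T.node (T.node (T.node (T.node T.leaf 2183687 T.leaf) 2201890 T.leaf) 2204803 (T.node (T.node T.leaf 2207772 T.leaf) 2220640 T.leaf)) 2229713 (T.node (T.node (T.node T.leaf 2232654 T.leaf) 2242672 T.leaf) 2245426 (T.node (T.node T.leaf 2255372 T.leaf) 2263063 T.leaf))))) 2268296 (T.node (T.node (T.node (T.node (T.node (T.node T.leaf 2269481 T.leaf) 2296514 T.leaf) 2313249 (T.node (T.node T.leaf 2322816 T.leaf) 2328324 T.leaf)) 2363013 (T.node (T.node (T.node T.leaf 2365978 T.leaf) 2372388 T.leaf) 2377830 (T.node (T.node T.leaf 2384216 T.leaf)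 2392899 T.leaf))) 2409888 (T.node (T.node (T.node (T.node T.leaf 2422785 T.leaf) 2425238 T.leaf) 2430217 (T.node (T.node T.leaf 2435240 T.leaf) 2460752 T.leaf)) 2491452 (T.node (T.node (T.node T.leaf 2494627 T.leaf) 2501890 T.leaf) 2512448 (T.node (T.node T.leaf 2531524 T.leaf) 2564625 T.leaf)))) 2605066 (T.node (T.node (T.node (T.node (T.node T.leaf 2624690 T.leaf) 2627629 T.leaf) 2631052 (T.node (T.node T.leaf 2634003 T.leaf) 2640465 T.leaf)) 2654580 (T.node (T.node (T.node T.leaf 2664522 T.leaf) 2675464 T.leaf) 2687905 (T.node (T.node T.leaf 2702848 T.leaf) 2704706 T.leaf))) 2738308 (T.node (T.node (T.node (T.node T.leaf 2754059 T.leaf) 2757268 T.leaf) 2769128 (T.node (T.node T.leaf 2810896 T.leaf) 2820376 T.leaf)) 2826278 (T.node (T.node (T.node T.leaf 2854977 T.leaf) 2890176 T.leaf) 2892897 (T.node T.leaf 2908802 T.leaf)))))) 2916505 (T.node (T.node (T.node (T.node (T.node (T.node (T.node T.leaf 2921478 T.leaf) 2949708 T.leaf) 2969648 (T.node (T.node T.leaf 3031301 T.leaf) 3050016 T.leaf))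 3147996 (T.node (T.node (T.node T.leaf 3152963 T.leaf) 3154402 T.leaf) 3168928 (T.node (T.node T.leaf 3172097 T.leaf) 3179802 T.leaf))) 3182981 (T.node (T.node (T.node (T.node T.leaf 3189796 T.leaf) 3216208 T.leaf) 3227948 (T.node (T.node T.leaf 3237906 T.leaf) 3246601 T.leaf)) 3277413 (T.node (T.node (T.node T.leaf 3294342 T.leaf) 3297305 T.leaf) 3322370 (T.node (T.node T.leaf 3328320 T.leaf) 3351624 T.leaf)))) 3375280 (T.node (T.node (T.node (T.node (T.node T.leaf 3410225 T.leaf) 3416079 T.leaf) 3421328 (T.node (T.node T.leaf 3444840 T.leaf) 3457556 T.leaf)) 3474978 (T.node (T.node (T.node T.leaf 3489985 T.leaf) 3539848 T.leaf) 3610628 (T.node (T.node T.leaf 3672838 T.leaf) 3678776 T.leaf))) 3698756 (T.node (T.node (T.node (T.node T.leaf 3704512 T.leaf) 3719203 T.leaf) 3736597 (T.node (T.node T.leaf 3739786 T.leaf) 3806496 T.leaf)) 3811457 (T.node (T.node (T.node T.leaf 3951624 T.leaf) 4038912 T.leaf) 4063314 (T.node (T.node T.leaf 4196943 T.leaf) 4202192 T.leaf))))) 4203377 (T.node (T.node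 (T.node (T.node (T.node (T.node T.leaf 4213932 T.leaf) 4216883 T.leaf) 4220306 (T.node (T.node T.leaf 4223245 T.leaf) 4229001 T.leaf)) 4231958 (T.node (T.node (T.node T.leaf 4241960 T.leaf) 4243818 T.leaf) 4253780 (T.node (T.node T.leaf 4261212 T.leaf) 4264387 T.leaf))) 4271202 (T.node (T.node (T.node (T.node T.leaf 4282144 T.leaf) 4287105 T.leaf) 4294810 (T.node (T.node T.leaf 4299781 T.leaf) 4301220 T.leaf)) 4325622 (T.node (T.node (T.node T.leaf 4330601 T.leaf) 4336072 T.leaf) 4343317 (T.node (T.node T.leaf 4346506 T.leaf) 4361520 T.leaf)))) 4367374 (T.node (T.node (T.node (T.node (T.node T.leaf 4370577 T.leaf) 4403780 T.leaf) 4409606 (T.node (T.node T.leaf 4415544 T.leaf) 4424227 T.leaf)) 4441280 (T.node (T.node (T.node T.leaf 4459426 T.leaf) 4465308 T.leaf) 4470275 (T.node (T.node T.leaf 4476225 T.leaf) 4485344 T.leaf))) 4490852 (T.node (T.node (T.node (T.node T.leaf 4505735 T.leaf) 4510744 T.leaf) 4523185 (T.node (T.node T.leaf 4526126 T.leaf) 4536592 T.leaf)) 4538962 (T.node (T.node (T.node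 T.leaf 4563017 T.leaf) 4587803 T.leaf) 4593028 (T.node T.leaf 4597797 T.leaf)))))))) 4626498 (T.node (T.node (T.node (T.node (T.node (T.node (T.node (T.node (T.node T.leaf 4645632 T.leaf) 4656648 T.leaf) 4721045 (T.node (T.node T.leaf 4726026 T.leaf) 4726955 T.leaf)) 4731956 (T.node (T.node (T.node T.leaf 4744776 T.leaf) 4752467 T.leaf) 4755660 (T.node (T.node T.leaf 4768432 T.leaf) 4785798 T.leaf))) 4788761 (T.node (T.node (T.node (T.node T.leaf 4800613 T.leaf) 4819776 T.leaf) 4845570 (T.node (T.node T.leaf 4850476 T.leaf) 4860434 T.leaf)) 4870480 (T.node (T.node (T.node T.leaf 4900873 T.leaf) 4921504 T.leaf) 4924673 (T.node (T.node T.leaf 4982904 T.leaf) 4989254 T.leaf)))) 5003780 (T.node (T.node (T.node (T.node (T.node T.leaf 5017889 T.leaf) 5024896 T.leaf) 5063048 (T.node (T.node T.leaf 5112513 T.leaf) 5129250 T.leaf)) 5210132 (T.node (T.node (T.node T.leaf 5249380 T.leaf) 5252293 T.leaf) 5255258 (T.node (T.node T.leaf 5262104 T.leaf) 5268006 T.leaf))) 5275709 (T.node (T.node (T.node (T.node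 T.leaf 5280930 T.leaf) 5286147 T.leaf) 5296705 (T.node (T.node T.leaf 5309160 T.leaf) 5325835 T.leaf)) 5329044 (T.node (T.node (T.node T.leaf 5350928 T.leaf) 5375810 T.leaf) 5390753 (T.node (T.node T.leaf 5405696 T.leaf) 5409412 T.leaf))))) 5441617 (T.node (T.node (T.node (T.node (T.node (T.node T.leaf 5476616 T.leaf) 5508118 T.leaf) 5511305 (T.node (T.node T.leaf 5514536 T.leaf) 5538256 T.leaf)) 5571333 (T.node (T.node (T.node T.leaf 5621792 T.leaf) 5640752 T.leaf) 5652556 (T.node (T.node T.leaf 5709954 T.leaf) 5770785 T.leaf))) 5780352 (T.node (T.node (T.node (T.node T.leaf 5785794 T.leaf) 5817604 T.leaf) 5833010 (T.node (T.node T.leaf 5842956 T.leaf) 5899416 T.leaf)) 5902343 (T.node (T.node (T.node T.leaf 5939296 T.leaf) 6053905 T.leaf) 6062602 (T.node (T.node T.leaf 6100032 T.leaf) 6292775 T.leaf)))) 6295992 (T.node (T.node (T.node (T.node (T.node T.leaf 6302745 T.leaf) 6305926 T.leaf) 6308804 (T.node (T.node T.leaf 6326497 T.leaf) 6337856 T.leaf)) 6344194 (T.node (T.node (T.node T.leaf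 6359604 T.leaf) 6365962 T.leaf) 6379592 (T.node (T.node T.leaf 6406417 T.leaf) 6429441 T.leaf))) 6432416 (T.node (T.node (T.node (T.node T.leaf 6447171 T.leaf) 6455896 T.leaf) 6475812 (T.node (T.node T.leaf 6488205 T.leaf) 6493202 T.leaf)) 6554826 (T.node (T.node (T.node T.leaf 6557781 T.leaf) 6570537 T.leaf) 6588684 (T.node T.leaf 6594610 T.leaf)))))) 6644740 (T.node (T.node (T.node (T.node (T.node (T.node (T.node T.leaf 6656640 T.leaf) 6703248 T.leaf) 6750560 (T.node (T.node T.leaf 6820450 T.leaf) 6832158 T.leaf)) 6837377 (T.node (T.node (T.node T.leaf 6842656 T.leaf) 6857221 T.leaf) 6889680 (T.node (T.node T.leaf 6915112 T.leaf) 6949956 T.leaf))) 6979970 (T.node (T.node (T.node (T.node T.leaf 7079696 T.leaf) 7145475 T.leaf) 7221256 (T.node (T.node T.leaf 7340691 T.leaf) 7345676 T.leaf)) 7357552 (T.node (T.node (T.node T.leaf 7397512 T.leaf) 7409024 T.leaf) 7417889 (T.node (T.node T.leaf 7438406 T.leaf) 7473194 T.leaf)))) 7479572 (T.node (T.node (T.node (T.node (T.node T.leaf 7612992 T.leaf)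 7622914 T.leaf) 7767041 (T.node (T.node T.leaf 7864649 T.leaf) 7903248 T.leaf)) 8077824 (T.node (T.node (T.node T.leaf 8126628 T.leaf) 8391797 T.leaf) 8394986 (T.node (T.node T.leaf 8398155 T.leaf) 8401364 T.leaf))) 8407702 (T.node (T.node (T.node (T.node T.leaf 8412681 T.leaf) 8414120 T.leaf) 8421811 (T.node (T.node T.leaf 8426796 T.leaf) 8431757 T.leaf)) 8436754 (T.node (T.node (T.node T.leaf 8439632 T.leaf) 8455014 T.leaf) 8464984 (T.node (T.node T.leaf 8471941 T.leaf) 8474906 T.leaf))))) 8484900 (T.node (T.node (T.node (T.node (T.node (T.node T.leaf 8490656 T.leaf) 8499969 T.leaf) 8505411 (T.node (T.node T.leaf 8521420 T.leaf) 8524371 T.leaf)) 8536111 (T.node (T.node (T.node T.leaf 8541360 T.leaf) 8546577 T.leaf) 8555274 (T.node (T.node T.leaf 8561204 T.leaf) 8581192 T.leaf))) 8592704 (T.node (T.node (T.node (T.node T.leaf 8593633 T.leaf) 8611330 T.leaf) 8619033 (T.node (T.node T.leaf 8622214 T.leaf) 8654232 T.leaf)) 8657159 (T.node (T.node (T.node T.leaf 8660134 T.leaf) 8663097 T.leaf)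 8675909 (T.node (T.node T.leaf 8683614 T.leaf) 8688833 T.leaf)))) 8694112 (T.node (T.node (T.node (T.node (T.node T.leaf 8704546 T.leaf) 8716939 T.leaf) 8721940 (T.node (T.node T.leaf 8733800 T.leaf) 8773776 T.leaf)) 8783649 (T.node (T.node (T.node T.leaf 8796800 T.leaf) 8798658 T.leaf) 8834052 (T.node (T.node T.leaf 8849458 T.leaf) 8855820 T.leaf))) 8919856 (T.node (T.node (T.node (T.node T.leaf 8922769 T.leaf) 8925710 T.leaf) 8931660 (T.node (T.node T.leaf 8937586 T.leaf) 8946281 T.leaf)) 8963210 (T.node (T.node (T.node T.leaf 8966165 T.leaf) 8978620 T.leaf) 8983587 (T.node T.leaf 8989058 T.leaf))))))) 8999616 (T.node (T.node (T.node (T.node (T.node (T.node (T.node (T.node T.leaf 9020484 T.leaf) 9045270 T.leaf) 9048457 (T.node (T.node T.leaf 9055272 T.leaf) 9078992 T.leaf)) 9112069 (T.node (T.node (T.node T.leaf 9158944 T.leaf) 9178690 T.leaf) 9193633 (T.node (T.node T.leaf 9204992 T.leaf) 9208708 T.leaf))) 9240913 (T.node (T.node (T.node (T.node T.leaf 9279496 T.leaf) 9310308 T.leaf) 9323032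 (T.node (T.node T.leaf 9347075 T.leaf) 9440193 T.leaf)) 9451104 (T.node (T.node (T.node T.leaf 9456930 T.leaf) 9462812 T.leaf) 9465987 (T.node (T.node T.leaf 9471495 T.leaf) 9474712 T.leaf)))) 9486564 (T.node (T.node (T.node (T.node (T.node T.leaf 9503954 T.leaf) 9506893 T.leaf) 9519665 (T.node (T.node T.leaf 9537812 T.leaf) 9543722 T.leaf)) 9568632 (T.node (T.node (T.node T.leaf 9578566 T.leaf) 9589508 T.leaf) 9607201 (T.node (T.node T.leaf 9610624 T.leaf) 9652360 T.leaf))) 9701932 (T.node (T.node (T.node (T.node T.leaf 9708306 T.leaf) 9721936 T.leaf) 9748745 (T.node (T.node T.leaf 9769376 T.leaf) 9776129 T.leaf)) 9830549 (T.node (T.node (T.node T.leaf 9835530 T.leaf) 9929280 T.leaf) 9963547 (T.node (T.node T.leaf 9968772 T.leaf) 9969957 T.leaf))))) 9998658 (T.node (T.node (T.node (T.node (T.node (T.node T.leaf 10021376 T.leaf) 10028808 T.leaf) 10093218 (T.node (T.node T.leaf 10110017 T.leaf) 10170384 T.leaf)) 10232008 (T.node (T.node (T.node T.leaf 10257456 T.leaf) 10305542 T.leaf) 10486557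 (T.node (T.node T.leaf 10491778 T.leaf) 10496547 T.leaf))) 10506593 (T.node (T.node (T.node (T.node T.leaf 10513600 T.leaf) 10525252 T.leaf) 10537016 (T.node (T.node T.leaf 10543366 T.leaf) 10554382 T.leaf)) 10557585 (T.node (T.node (T.node T.leaf 10560816 T.leaf) 10584520 T.leaf) 10619300 (T.node (T.node T.leaf 10625178 T.leaf) 10630149 T.leaf)))) 10650722 (T.node (T.node (T.node (T.node (T.node T.leaf 10666625 T.leaf) 10687016 T.leaf) 10698836 (T.node (T.node T.leaf 10748656 T.leaf) 10765331 T.leaf)) 10768524 (T.node (T.node (T.node T.leaf 10790408 T.leaf) 10825794 T.leaf) 10832640 (T.node (T.node T.leaf 10846245 T.leaf) 10881097 T.leaf))) 10916112 (T.node (T.node (T.node (T.node T.leaf 11010247 T.leaf) 11015256 T.leaf) 11028004 (T.node (T.node T.leaf 11046145 T.leaf) 11055264 T.leaf)) 11100169 (T.node (T.node (T.node T.leaf 11108882 T.leaf) 11150144 T.leaf) 11163650 (T.node T.leaf 11272490 T.leaf)))))) 11282452 (T.node (T.node (T.node (T.node (T.node (T.node (T.node T.leaf 11469952 T.leaf)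 11535529 T.leaf) 11538486 (T.node (T.node T.leaf 11548936 T.leaf) 11551306 T.leaf)) 11575377 (T.node (T.node (T.node T.leaf 11608708 T.leaf) 11654144 T.leaf) 11669008 (T.node (T.node T.leaf 11731203 T.leaf) 11797828 T.leaf))) 11831426 (T.node (T.node (T.node (T.node T.leaf 11952160 T.leaf) 12075408 T.leaf) 12126304 (T.node (T.node T.leaf 12222476 T.leaf) 12325377 T.leaf)) 12584506 (T.node (T.node (T.node T.leaf 12587685 T.leaf) 12594948 T.leaf) 12599513 (T.node (T.node T.leaf 12604486 T.leaf) 12624578 T.leaf)))) 12638592 (T.node (T.node (T.node (T.node (T.node T.leaf 12641313 T.leaf) 12650793 T.leaf) 12656663 (T.node (T.node T.leaf 12661896 T.leaf) 12685424 T.leaf)) 12698124 (T.node (T.node (T.node T.leaf 12717187 T.leaf) 12720156 T.leaf) 12726562 (T.node (T.node T.leaf 12733024 T.leaf) 12747077 T.leaf))) 12780432 (T.node (T.node (T.node (T.node T.leaf 12849992 T.leaf) 12861748 T.leaf) 12871690 (T.node (T.node T.leaf 12880401 T.leaf) 12912836 T.leaf)) 12944642 (T.node (T.node (T.node T.leaf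 12985424 T.leaf) 13009064 T.leaf) 13062145 (T.node (T.node T.leaf 13108704 T.leaf) 13121601 T.leaf))))) 13124355 (T.node (T.node (T.node (T.node (T.node (T.node T.leaf 13142054 T.leaf) 13148440 T.leaf) 13192208 (T.node (T.node T.leaf 13262980 T.leaf) 13276672 T.leaf)) 13303882 (T.node (T.node (T.node T.leaf 13370381 T.leaf) 13373586 T.leaf) 13443616 (T.node (T.node T.leaf 13631886 T.leaf) 13636881 T.leaf))) 13641904 (T.node (T.node (T.node (T.node T.leaf 13667400 T.leaf) 13703682 T.leaf) 13721920 (T.node (T.node T.leaf 13771273 T.leaf) 13811730 T.leaf)) 13829156 (T.node (T.node (T.node T.leaf 13893731 T.leaf) 13911680 T.leaf) 13938692 (T.node (T.node T.leaf 14156372 T.leaf) 14176296 T.leaf)))) 14254209 (T.node (T.node (T.node (T.node (T.node T.leaf 14551296 T.leaf) 14682450 T.leaf) 14688364 (T.node (T.node T.leaf 14709264 T.leaf) 14714004 T.leaf)) 14716939 (T.node (T.node (T.node T.leaf 14747201 T.leaf) 14762146 T.leaf) 14828808 (T.node (T.node T.leaf 14919680 T.leaf) 14949408 T.leaf))) 14950785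 (T.node (T.node (T.node (T.node T.leaf 15073798 T.leaf) 15207048 T.leaf) 15274244 (T.node (T.node T.leaf 15335473 T.leaf) 15515712 T.leaf)) 15747077 (T.node (T.node (T.node T.leaf 15762208 T.leaf) 15864000 T.leaf) 16056344 (T.node T.leaf 16262146 T.leaf)))))))))

/-- Twelve octads spanning the code, as lists of `8 *` point indices. -/
def basis12 : List (List Nat) := [[0, 8, 16, 24, 32, 56, 80, 96], [8, 16, 24, 32, 40, 64, 88, 104], [0, 8, 40, 48, 56, 72, 80, 112], [8, 16, 48, 56, 64, 80, 88, 120], [0, 8, 32, 64, 72, 80, 88, 128], [0, 24, 32, 40, 56, 72, 88, 136], [0, 16, 24, 40, 48, 56, 64, 144], [8, 24, 32, 48, 56, 64, 72, 152], [16, 32, 40, 56, 64, 72, 80, 160], [24, 40, 48, 64, 72, 80, 88, 168], [0, 8, 16, 24, 48, 72, 88, 176], [0, 16, 32, 40, 48, 80, 88, 184]]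

/-- The masks of the twelve octads. -/
def basis12M : List Nat := [5279, 10558, 18147, 36294, 69395, 133817, 262637, 525274, 1050548, 2101096, 4196943, 8391797]

/-- The octad test of the pattern `steps` along the cycles of `c`. -/
noncomputable def invP (steps : List Nat) (c : Nat) : Bool :=
  anyL (fun i8 => octT.mem (omask c steps i8)) pts8

/-- `c` has a cycle of length two. -/
noncomputable def has2 (c : Nat) : Bool :=
  anyL (fun i8 => cond (Nat.beq (ent c i8) i8) false (Nat.beq (ent c (ent c i8)) i8)) pts8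

/-- The patterns separating the two classes of elements of order 15, 21, 23. -/
def E15 : List Nat := [1, 1, 1, 2, 2, 1, 3]
def E21 : List Nat := [1, 1, 1, 1, 3, 4, 8]
def E23 : List Nat := [1, 1, 1, 1, 11, 2, 3]

noncomputable def lab6 (c c5 c7 c16 : Nat) : Nat :=
  cond (Nat.beq (mulP c16 c5) idP) (cond (invP E21 c) 4 5)
    (cond (Nat.beq (mulP c16 c7) idP) (cond (invP E23 c) 6 7) 0)

noncomputable def lab5 (c c3 c5 c7 c8 : Nat) : Nat :=
  cond (Nat.beq (mulP c8 c3) idP) 1
    (cond (Nat.beq (mulP c8 c7) idP) (cond (invP E15 c) 2 3) (lab6 c c5 c7 (mulP c8 c8)))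

noncomputable def lab4 (c c3 c5 c7 : Nat) : Nat :=
  cond (Nat.beq c7 idP) 0 (lab5 c c3 c5 c7 (mulP c7 c))

noncomputable def lab3 (c c2 c3 c5 : Nat) : Nat :=
  cond (Nat.beq c5 idP) 0 (lab4 c c3 c5 (mulP c5 c2))

noncomputable def lab2 (c c2 c3 : Nat) : Nat :=
  cond (Nat.beq c3 idP) 0 (lab3 c c2 c3 (mulP c3 c2))

noncomputable def lab1 (c c2 : Nat) : Nat := lab2 c c2 (mulP c2 c)

/-- The label: `1` for order 11, `2, 3` for order 15, `4, 5` for order 21, `6, 7` for order 23,
`0` otherwise. -/
noncomputable def labP (c : Nat) : Nat := cond (has2 c) 0 (lab1 c (mulP c c))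

/-- Powers of a packed permutation. -/
noncomputable def powP (c k : Nat) : Nat :=
  Nat.rec (motive := fun _ => Nat) idP (fun _ acc => mulP acc c) k

/-- The table of a packed permutation. -/
def unpk (c : Nat) : List Nat := [Nat.shiftRight (ent c 0) 3, Nat.shiftRight (ent c 8) 3, Nat.shiftRight (ent c 16) 3, Nat.shiftRight (ent c 24) 3, Nat.shiftRight (ent c 32) 3, Nat.shiftRight (ent c 40) 3, Nat.shiftRight (ent c 48) 3, Nat.shiftRight (ent c 56) 3, Nat.shiftRight (ent c 64) 3, Nat.shiftRight (ent c 72) 3, Nat.shiftRight (ent c 80) 3, Nat.shiftRight (ent c 88) 3, Nat.shiftRight (ent c 96) 3, Nat.shiftRight (ent c 104) 3, Nat.shiftRight (ent c 112) 3, Nat.shiftRight (ent c 120) 3, Nat.shiftRight (ent c 128) 3, Nat.shiftRight (ent c 136) 3, Nat.shiftRight (ent c 144) 3, Nat.shiftRight (ent c 152) 3, Nat.shiftRight (ent c 160) 3, Nat.shiftRight (ent c 168) 3, Nat.shiftRight (ent c 176) 3, Nat.shiftRight (ent c 184) 3]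

/-- `c` is the packed code of a table with entries below 24. -/
noncomputable def structP (c : Nat) : Bool :=
  cond (Nat.beq (pkT (unpk c)) c) (allL (fun a => Nat.blt a 24) (unpk c)) false

/-- The images of the twelve octads are octads. -/
noncomputable def octOK (c : Nat) : Bool := allL (fun l => octT.mem (imgL c l)) basis12

/-- `c` and `c'` are the codes of an element of `M24` and of its inverse. -/
noncomputable def vP (c c' : Nat) : Bool :=
  cond (structP c) (cond (structP c') (cond (Nat.beq (mulP c c') idP)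
    (cond (Nat.beq (mulP c' c) idP) (octOK c) false) false) false) false

/-- `c` is the code of an element of `M24` of order at most two. -/
noncomputable def vI (c : Nat) : Bool :=
  cond (structP c) (cond (Nat.beq (mulP c c) idP) (octOK c) false) false

/-- Conjugation. -/
def conjP (g g' c : Nat) : Nat := mulP (mulP g c) g'

/-- No fixed point. -/
noncomputable def fpfP (c : Nat) : Bool := allL (fun i8 => cond (Nat.beq (ent c i8) i8) false true) pts8

/-- The label of `c * s` as a power of two. -/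
noncomputable def parF (s c : Nat) : Nat := Nat.shiftLeft 1 (labP (mulP c s))

/-- The generators of `M24`, packed. -/
def shP : Nat := 4511732968176064278980880083674264839297219782765320867848
def shP' : Nat := 4527818161568721343802041322176883672748025881826200912048
def projP : Nat := 802259447308833187252921042708756954885681620016738488
def cubeP : Nat := 4522454322127937782213337024549119027874428880267624091648
def cubeP' : Nat := 4526240791759023455507556377481945000638274089924123701248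

end Cfsg.Agent.Lib.Helper35.M24D
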