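import Mathlib
import Cfsg.Agent.Lib.Helper35.M24D

/-!
# Packed permutations: the class label computed from one long cycle

Definitions only.  `labW c` looks for the first point whose cycle under `c` has length at least
`7`; the length is then the order of `c` (for elements of `M24`), and for the orders 15, 21, 23
the class is read off from an octad test along that cycle.
-/

set_option autoImplicit false

namespace Cfsg.Agent.Lib.Helper35.M24W

open Cfsg Cfsg.Agent.Lib.Helper35.M24P Cfsg.Agent.Lib.Helper35.M24D

/-- The search for the first return to `x0`: `y` is the point after `k` steps. -/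
noncomputable def retGo (c x0 fuel : Nat) : Nat → Nat → Nat :=
  Nat.rec (motive := fun _ => Nat → Nat → Nat) (fun _ _ => 0)
    (fun _ ih y k => cond (Nat.beq y x0) k (ih (ent c y) (Nat.succ k))) fuel

/-- The first return time of the point at byte position `x0` (`0` if there is none within 24
steps). -/
noncomputable def ret (c x0 : Nat) : Nat := retGo c x0 24 (ent c x0) 1

/-- The label from a point `x` with return time `k`. -/
noncomputable def labAt (c x k : Nat) : Nat :=
  cond (Nat.beq k 11) 1
    (cond (Nat.beq k 15) (cond (octT.mem (omask c E15 x)) 2 3)
      (cond (Nat.beq k 21) (cond (octT.mem (omask c E21 x)) 4 5)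
        (cond (Nat.beq k 23) (cond (octT.mem (omask c E23 x)) 6 7) 0)))

/-- The label from the first point of the list with return time at least `7`. -/
noncomputable def labL (c : Nat) (l : List Nat) : Nat :=
  List.rec (motive := fun _ => Nat) 0
    (fun x _ ih => (fun k => cond (Nat.blt 6 k) (labAt c x k) ih) (ret c x)) l

/-- The label: `1` for order 11, `2, 3` for order 15, `4, 5` for order 21, `6, 7` for order 23,
`0` otherwise. -/
noncomputable def labW (c : Nat) : Nat := labL c pts8

/-- The label of `c * s` as a power of two. -/
noncomputable def parW (s c : Nat) : Nat := Nat.shiftLeft 1 (labW (mulP c s))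

end Cfsg.Agent.Lib.Helper35.M24W
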