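-- The kernel of a finite stem extension of the Suzuki group `Sz(8)` has order dividing 4.
-- In a central extension of `Sz(q)` the commutators of lifts of central elements of the
-- unipotent subgroup with lifts of arbitrary elements of it form a subgroup `BB`, the image of
-- an additive map on the field killing `1`; modulo `BB` the argument for the larger Suzuki
-- groups (Helper65.SzMult) applies and shows that the kernel lies in `BB`.
import Cfsg.Agent.Lib.Helper65.SzMult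

set_option autoImplicit false

namespace Cfsg.Agent.Lib.Helper35.Sz8Bound

open Cfsg.Agent.Lib.Helper6.Sz0 Cfsg.Agent.Lib.Helper6.Sz1 Cfsg.Agent.Lib.Helper6.Sz2
  Cfsg.Agent.Lib.Helper6.Sz3 Cfsg.Agent.Lib.Helper6.Sz4 Cfsg.Agent.Lib.Helper6.Sz5
  Cfsg.Agent.Lib.Helper6.Sz6 Cfsg.Agent.Lib.Helper6.Sz7 Cfsg.Agent.Lib.Helper6.Sz8
  Cfsg.Agent.Lib.Helper6.Sz9 Cfsg.Agent.Lib.Helper6.Sz10 Cfsg.Agent.Lib.Helper6.Sz11
  Cfsg.Agent.Lib.Helper6.Sz12
open Cfsg.Agent.Lib.Helper65 Cfsg.Agent.Lib.Helper65.SzMult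

open scoped commutatorElement

/-! ### The argument of the large Suzuki groups, when lifts of central elements are central -/

section Gen

variable {F : Type*} [Field F] [Fintype F] {m : ℕ} {Γ : Type*} [Group Γ]
  (σ : Γ →* ↥(Cfsg.Sz F m)) (hs : Function.Surjective σ)
  (hF : Fintype.card F = 2 ^ (2 * m + 1))
  (hc : σ.ker ≤ Subgroup.center Γ) (hm : 1 ≤ m)
  (huz : ∀ a b : F, cm σ hs (uS hF a 0) (uS hF 0 b) = 1)
include hc hm huz

theorem u_z_triv (a c b : F) : cm σ hs (uS hF a c) (uS hF 0 b) = 1 := by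
  rw [SzAut.uS_split hF a c, cm_mul_left_one σ hs hc (zz_trivial σ hs hF hc hm _ _), huz]

theorem z_u_triv (a c b : F) : cm σ hs (uS hF 0 b) (uS hF a c) = 1 := by
  rw [← cm_inv, u_z_triv σ hs hF hc hm huz, inv_one]

theorem cm_uu' (a c a' c' : F) :
    cm σ hs (uS hF a c) (uS hF a' c') = cm σ hs (uS hF a 0) (uS hF a' 0) := by
  rw [SzAut.uS_split hF a c, cm_mul_left_one σ hs hc (z_u_triv σ hs hF hc hm huz _ _ _),
    SzAut.uS_split hF a' c', cm_mul_right_one σ hs hc (u_z_triv σ hs hF hc hm huz _ _ _)]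

theorem cm_add_left' (a a'' a' : F) :
    cm σ hs (uS hF (a + a'') 0) (uS hF a' 0) =
      cm σ hs (uS hF a'' 0) (uS hF a' 0) * cm σ hs (uS hF a 0) (uS hF a' 0) := by
  have hcomm : sec σ hs (uS hF a 0) * cm σ hs (uS hF a'' 0) (uS hF a' 0) =
      cm σ hs (uS hF a'' 0) (uS hF a' 0) * sec σ hs (uS hF a 0) := by
    apply comm_of_cm σ hs hc
    rw [sec_spec, map_cm_uu]
    exact u_z_triv σ hs hF hc hm huz _ _ _
  rw [uS_a_add, cm_mul_left σ hs hc, cm_uu' σ hs hF hc hm huz a'' _ a' 0, hcomm,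
    mul_inv_cancel_right]

theorem kk_add_left' (k₀ : Fˣ) (hk₀ : sg m (k₀ : F) * k₀ + 1 ≠ 0) (a a'' a' : F) :
    kk σ hs hF k₀ (a + a'') a' = kk σ hs hF k₀ a a' * kk σ hs hF k₀ a'' a' := by
  have h1 : kk σ hs hF k₀ (a + a'') a' = cm σ hs (uS hF (a + a'') 0) (uS hF a' 0) *
      (El σ hs hF k₀ (gam m (a + a'') a'))⁻¹ := rfl
  rw [h1, cm_add_left' σ hs hF hc hm huz, gam_add_left hF, El_add σ hs hF hc hm,
    cm_eq_kk σ hs hF k₀ a'' a', cm_eq_kk σ hs hF k₀ a a']
  have c1 := kk_central σ hs hF hc k₀ hk₀ a a'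
  have c2 := kk_central σ hs hF hc k₀ hk₀ a'' a'
  calc kk σ hs hF k₀ a'' a' * El σ hs hF k₀ (gam m a'' a') *
        (kk σ hs hF k₀ a a' * El σ hs hF k₀ (gam m a a')) *
        (El σ hs hF k₀ (gam m a'' a') * El σ hs hF k₀ (gam m a a'))⁻¹
      = kk σ hs hF k₀ a'' a' * (El σ hs hF k₀ (gam m a'' a') * kk σ hs hF k₀ a a') *
        (El σ hs hF k₀ (gam m a'' a'))⁻¹ := by group
    _ = kk σ hs hF k₀ a'' a' * (kk σ hs hF k₀ a a' * El σ hs hF k₀ (gam m a'' a')) *
        (El σ hs hF k₀ (gam m a'' a'))⁻¹ := by rw [c1]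
    _ = kk σ hs hF k₀ a'' a' * kk σ hs hF k₀ a a' := by group
    _ = kk σ hs hF k₀ a a' * kk σ hs hF k₀ a'' a' := by rw [c1]

theorem kk_add_right' (k₀ : Fˣ) (hk₀ : sg m (k₀ : F) * k₀ + 1 ≠ 0) (a a' a'' : F) :
    kk σ hs hF k₀ a (a' + a'') = kk σ hs hF k₀ a a' * kk σ hs hF k₀ a a'' := by
  have c1 := kk_central σ hs hF hc k₀ hk₀ a a'
  rw [← inv_inv (kk σ hs hF k₀ a (a' + a'')), ← kk_symm σ hs hF hc hm k₀ hk₀,
    kk_add_left' σ hs hF hc hm huz k₀ hk₀, kk_symm σ hs hF hc hm k₀ hk₀ a a',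
    kk_symm σ hs hF hc hm k₀ hk₀ a a'', _root_.mul_inv_rev, inv_inv, inv_inv, c1]

theorem kk_triv (k₀ : Fˣ) (hk₀ : sg m (k₀ : F) * k₀ + 1 ≠ 0) (a a' : F) :
    kk σ hs hF k₀ a a' = 1 := by
  have : CharP F 2 := charP hF
  have hcard : 4 < Fintype.card F := by
    rw [hF]
    calc 4 < 2 ^ 3 := by norm_num
      _ ≤ 2 ^ (2 * m + 1) := Nat.pow_le_pow_right (by norm_num) (by omega)
  exact biadd_inv_trivial' hcard (kk σ hs hF k₀)
    (fun x y => hc (kk_mem_ker σ hs hF k₀ hk₀ x y))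
    (fun x x' y => kk_add_left' σ hs hF hc hm huz k₀ hk₀ x x' y)
    (fun x y y' => kk_add_right' σ hs hF hc hm huz k₀ hk₀ x y y')
    (fun k x y hk => kk_smul σ hs hF hc k₀ hk₀ k x y hk) a a'

/-- the commutator of two lifts of unipotent elements is a normalised lift -/
theorem comm_eq_El' (k₀ : Fˣ) (hk₀ : sg m (k₀ : F) * k₀ + 1 ≠ 0) (t t' : Γ)
    (ht : σ t ∈ Usub hF) (ht' : σ t' ∈ Usub hF) : ∃ b, ⁅t, t'⁆ = El σ hs hF k₀ b := by
  obtain ⟨a, c, hac⟩ := ht
  obtain ⟨a', c', hac'⟩ := ht'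
  refine ⟨gam m a a', ?_⟩
  rw [cm_eq σ hs hc, hac, hac', cm_uu' σ hs hF hc hm huz, cm_eq_kk σ hs hF k₀,
    kk_triv σ hs hF hc hm huz k₀ hk₀, one_mul]

include hs in
/-- the kernel meets the commutator subgroup of the preimage of the unipotent subgroup
trivially -/
theorem ker_inf_comm (z : Γ) (hz : z ∈ σ.ker)
    (hz' : z ∈ ⁅(Usub hF).comap σ, (Usub hF).comap σ⁆) : z = 1 := by
  obtain ⟨c, hc0⟩ := exists_sg_ne hm hF
  obtain ⟨l, hl⟩ := mul_sg_surj (m := m) hF c
  have hc1 : c + 1 ≠ 0 := by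
    intro h
    have : c = 1 := eq_of_add_eq_zero hF h
    rw [this, sg_one, add_self hF] at hc0
    exact hc0 rfl
  have hl0 : l ≠ 0 := by
    rintro rfl
    rw [zero_mul] at hl
    rw [← hl, sg_zero, add_zero] at hc0
    exact hc0 rfl
  have hk₀ : sg m ((Units.mk0 l hl0 : Fˣ) : F) * (Units.mk0 l hl0 : Fˣ) + 1 ≠ 0 := by
    rw [Units.val_mk0, mul_comm, hl]
    exact hc1
  let E : Subgroup Γ :=
    { carrier := {x | ∃ b, x = El σ hs hF (Units.mk0 l hl0) b}
      mul_mem' := by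
        rintro _ _ ⟨b, rfl⟩ ⟨b', rfl⟩
        exact ⟨b + b', (El_add σ hs hF hc hm _ b b').symm⟩
      one_mem' := ⟨0, (El_zero σ hs hF hc hm _).symm⟩
      inv_mem' := by
        rintro _ ⟨b, rfl⟩
        exact ⟨b, inv_eq_of_mul_eq_one_right (El_sq σ hs hF hc hm _ b)⟩ }
  have hle : ⁅(Usub hF).comap σ, (Usub hF).comap σ⁆ ≤ E := by
    rw [Subgroup.commutator_le]
    intro t ht t' ht'
    exact comm_eq_El' σ hs hF hc hm huz _ hk₀ t t' ht ht'
  obtain ⟨b, hb⟩ := hle hz'
  have h1 : σ z = uS hF 0 b := by rw [hb, map_El σ hs hF _ hk₀]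
  rw [MonoidHom.mem_ker.mp hz, ← uS_zero hF] at h1
  have hb0 : b = 0 := (uS_inj hF h1).2.symm
  rw [hb, hb0, El_zero σ hs hF hc hm]

end Gen

/-! ### The pairing between the centre of the unipotent subgroup and its quotient -/

section Pair

variable {F : Type*} [Field F] [Fintype F] {m : ℕ} {Γ : Type*} [Group Γ]
  (σ : Γ →* ↥(Cfsg.Sz F m)) (hs : Function.Surjective σ)
  (hF : Fintype.card F = 2 ^ (2 * m + 1))

/-- The commutator of lifts of a central element and an element of the unipotent subgroup. -/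
noncomputable def ff (b a : F) : Γ := cm σ hs (uS hF 0 b) (uS hF a 0)

theorem ff_mem_ker (b a : F) : ff σ hs hF b a ∈ σ.ker :=
  cm_mem_ker σ hs (uS_z_comm hF a 0 b).symm

variable (hc : σ.ker ≤ Subgroup.center Γ) (hm : 1 ≤ m)
include hc

theorem ff_central (b a : F) (g : Γ) : g * ff σ hs hF b a = ff σ hs hF b a * g :=
  cm_central σ hs hc (uS_z_comm hF a 0 b).symm g

theorem ff_add_left (b b' a : F) :
    ff σ hs hF (b + b') a = ff σ hs hF b a * ff σ hs hF b' a := by
  unfold ff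
  rw [← uS_z_mul, cm_mul_left_c σ hs hc (uS_z_comm hF a 0 b').symm]

include hm in
theorem ff_add_right (b a a' : F) :
    ff σ hs hF b (a + a') = ff σ hs hF b a * ff σ hs hF b a' := by
  unfold ff
  rw [uS_a_add, cm_mul_right_c σ hs hc (uS_z_comm hF a' _ b).symm,
    SzAut.uS_split hF a' (sg m a * a'),
    cm_mul_right_c σ hs hc (uS_z_comm hF 0 _ b).symm, zz_trivial σ hs hF hc hm, mul_one]

theorem ff_smul (k : F) (hk : k ≠ 0) (b a : F) :
    ff σ hs hF (sg m k * k * b) (k * a) = ff σ hs hF b a := by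
  unfold ff
  have h3 := conj_cm σ hs hc (sec σ hs (hS hF (Units.mk0 k hk))) (uS hF 0 b) (uS hF a 0)
  rw [sec_spec, hS_conj_uS', hS_conj_uS', mul_zero, mul_zero] at h3
  rw [← h3, cm_central σ hs hc (uS_z_comm hF a 0 b).symm, mul_inv_cancel_right]

theorem ff_one_one : ff σ hs hF 1 1 = 1 := by
  unfold ff
  have e : uS hF (0 : F) 1 = uS hF 1 0 * uS hF 1 0 := by
    rw [uS_mul]
    congr 1
    · exact (add_self hF 1).symm
    · rw [sg_one, mul_one, add_zero, zero_add]
  rw [e]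
  have h := cm_eq σ hs hc (sec σ hs (uS hF (1 : F) 0) * sec σ hs (uS hF (1 : F) 0))
    (sec σ hs (uS hF (1 : F) 0))
  rw [map_mul, sec_spec] at h
  rw [← h, commutatorElement_eq_one_iff_commute]
  exact (Commute.refl _).mul_left (Commute.refl _)

include hm in
theorem ff_zero_right (b : F) : ff σ hs hF b 0 = 1 := by
  have h := ff_add_right σ hs hF hc hm b 0 0
  rw [add_zero] at h
  exact mul_eq_left.mp h.symm

theorem ff_zero_left (a : F) : ff σ hs hF 0 a = 1 := by
  have h := ff_add_left σ hs hF hc 0 0 a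
  rw [add_zero] at h
  exact mul_eq_left.mp h.symm

include hm in
theorem ff_sq (b a : F) : ff σ hs hF b a * ff σ hs hF b a = 1 := by
  rw [← ff_add_right σ hs hF hc hm, add_self hF, ff_zero_right σ hs hF hc hm]

/-- The values of the pairing, as an additive map on the second variable. -/
noncomputable def phi : Multiplicative F →* Γ where
  toFun a := ff σ hs hF 1 (Multiplicative.toAdd a)
  map_one' := ff_zero_right σ hs hF hc hm 1
  map_mul' a b := ff_add_right σ hs hF hc hm 1 (Multiplicative.toAdd a) (Multiplicative.toAdd b)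

/-- The subgroup of the values of the pairing. -/
noncomputable def BB : Subgroup Γ := (phi σ hs hF hc hm).range

include hm in
theorem ff_mem_BB (b a : F) : ff σ hs hF b a ∈ BB σ hs hF hc hm := by
  by_cases hb : b = 0
  · rw [hb, ff_zero_left σ hs hF hc]
    exact Subgroup.one_mem _
  · obtain ⟨l, hl⟩ := mul_sg_surj (m := m) hF b⁻¹
    have hl0 : l ≠ 0 := by
      rintro rfl
      rw [zero_mul] at hl
      exact inv_ne_zero hb hl.symm
    have h := ff_smul σ hs hF hc l hl0 b a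
    have e : sg m l * l * b = 1 := by
      rw [mul_comm (sg m l) l, hl, inv_mul_cancel₀ hb]
    rw [e] at h
    rw [← h]
    exact ⟨Multiplicative.ofAdd (l * a), rfl⟩

theorem BB_le_ker : BB σ hs hF hc hm ≤ σ.ker := by
  rintro _ ⟨a, rfl⟩
  exact ff_mem_ker σ hs hF 1 _

theorem BB_central {x : Γ} (hx : x ∈ BB σ hs hF hc hm) (g : Γ) : g * x = x * g :=
  Subgroup.mem_center_iff.mp (hc (BB_le_ker σ hs hF hc hm hx)) g

theorem BB_normal : (BB σ hs hF hc hm).Normal := by
  constructor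
  intro n hn g
  rw [BB_central σ hs hF hc hm hn g, mul_inv_cancel_right]
  exact hn

include hm in
/-- commutators of lifts of a central element and any element of the unipotent subgroup -/
theorem cm_mem_BB (a c b : F) : cm σ hs (uS hF a c) (uS hF 0 b) ∈ BB σ hs hF hc hm := by
  have h1 : cm σ hs (uS hF 0 b) (uS hF a c) = ff σ hs hF b a := by
    unfold ff
    rw [SzAut.uS_split hF a c, cm_mul_right_c σ hs hc (uS_z_comm hF 0 c b).symm,
      zz_trivial σ hs hF hc hm, mul_one]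
  rw [← cm_inv, h1]
  exact Subgroup.inv_mem _ (ff_mem_BB σ hs hF hc hm b a)

end Pair

/-! ### The bound -/

section Main

variable {F : Type*} [Field F] [Fintype F]

theorem card_BB (hF : Fintype.card F = 2 ^ (2 * 1 + 1)) {Γ : Type*} [Group Γ]
    (σ : Γ →* ↥(Cfsg.Sz F 1)) (hs : Function.Surjective σ) (hc : σ.ker ≤ Subgroup.center Γ) :
    Nat.card (BB σ hs hF hc (le_refl 1)) ∣ 4 := by
  set φ := phi σ hs hF hc (le_refl 1) with hφ
  have h1 : Nat.card φ.ker * φ.ker.index = Nat.card (Multiplicative F) :=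
    Subgroup.card_mul_index φ.ker
  have h2 : φ.ker.index = Nat.card φ.range := Subgroup.index_ker φ
  have h3 : Nat.card (Multiplicative F) = 8 := by
    rw [Nat.card_eq_fintype_card, Fintype.card_multiplicative, hF]
    norm_num
  have h4 : Nat.card φ.ker ≠ 1 := by
    intro h
    have hbot : φ.ker = ⊥ := Subgroup.eq_bot_of_card_eq _ h
    have hmem : Multiplicative.ofAdd (1 : F) ∈ φ.ker := by
      rw [MonoidHom.mem_ker]
      exact ff_one_one σ hs hF hc
    rw [hbot, Subgroup.mem_bot] at hmem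
    have : (1 : F) = 0 := Multiplicative.ofAdd.injective hmem
    exact one_ne_zero this
  show Nat.card φ.range ∣ 4
  rw [← h2]
  rw [h3] at h1
  have hle : Nat.card φ.ker ≤ 8 := Nat.le_of_dvd (by norm_num) ⟨_, h1.symm⟩
  have hcases : φ.ker.index = 4 ∨ φ.ker.index = 2 ∨ φ.ker.index = 1 := by
    generalize Nat.card φ.ker = c at h1 h4 hle
    generalize φ.ker.index = i at h1
    interval_cases c <;> omega
  rcases hcases with h | h | h <;> rw [h] <;> norm_num

/-- The kernel of a finite stem extension of `Sz(8)` lies in the subgroup of the values of the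
pairing. -/
theorem ker_le_BB (hF : Fintype.card F = 2 ^ (2 * 1 + 1)) {Γ : Type*} [Group Γ] [Finite Γ]
    (σ : Γ →* ↥(Cfsg.Sz F 1)) (hs : Function.Surjective σ) (hc : σ.ker ≤ Subgroup.center Γ)
    (hcomm : σ.ker ≤ _root_.commutator Γ) : σ.ker ≤ BB σ hs hF hc (le_refl 1) := by
  have hm1 : 1 ≤ 1 := le_refl 1
  set B := BB σ hs hF hc hm1 with hB
  have hBn : B.Normal := BB_normal σ hs hF hc hm1
  have hBk : B ≤ σ.ker := BB_le_ker σ hs hF hc hm1
  -- the quotient extension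
  let σ' : Γ ⧸ B →* ↥(Cfsg.Sz F 1) := QuotientGroup.lift B σ hBk
  have hσ' : ∀ x : Γ, σ' (QuotientGroup.mk x) = σ x := fun x => rfl
  have hs' : Function.Surjective σ' := by
    intro g
    obtain ⟨x, hx⟩ := hs g
    exact ⟨QuotientGroup.mk x, hx⟩
  have hc' : σ'.ker ≤ Subgroup.center (Γ ⧸ B) := by
    intro x' hx'
    obtain ⟨x, rfl⟩ := QuotientGroup.mk_surjective x'
    have hx : x ∈ σ.ker := hx'
    have hxc := Subgroup.mem_center_iff.mp (hc hx)
    rw [Subgroup.mem_center_iff]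
    intro y'
    obtain ⟨y, rfl⟩ := QuotientGroup.mk_surjective y'
    rw [← QuotientGroup.mk_mul, ← QuotientGroup.mk_mul, hxc y]
  have hcm : ∀ X Y : ↥(Cfsg.Sz F 1),
      cm σ' hs' X Y = QuotientGroup.mk (cm σ hs X Y) := by
    intro X Y
    have h1 : σ' (sec σ' hs' X) = σ' (QuotientGroup.mk (sec σ hs X)) := by
      rw [sec_spec, hσ', sec_spec]
    have h2 : σ' (sec σ' hs' Y) = σ' (QuotientGroup.mk (sec σ hs Y)) := by
      rw [sec_spec, hσ', sec_spec]
    have h3 := Cfsg.Agent.Lib.Helper35.Stem.commutator_eq_of_map_eq σ' hc' h1 h2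
    unfold cm
    rw [h3]
    rfl
  have huz : ∀ a b : F, cm σ' hs' (uS hF a 0) (uS hF 0 b) = 1 := by
    intro a b
    rw [hcm]
    exact (QuotientGroup.eq_one_iff _).mpr (cm_mem_BB σ hs hF hc hm1 a 0 b)
  -- the kernel is a 2-group
  have hodd : ∀ w ∈ σ.ker, (orderOf w).Prime → orderOf w = 2 := by
    intro w hw hprime
    by_contra h2
    have : Fact (orderOf w).Prime := ⟨hprime⟩
    let S : Sylow (orderOf w) Γ := default
    have hp : IsPGroup (orderOf w) ((S : Subgroup Γ).map σ) := S.isPGroup'.map σ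
    obtain ⟨Q, hQ⟩ := hp.exists_le_sylow
    have hcyc : IsCyclic Q := sylow_odd_cyclic hm1 hF h2 Q
    have hcyc' : IsCyclic ((S : Subgroup Γ).map σ) :=
      isCyclic_of_injective (Subgroup.inclusion hQ) (Subgroup.inclusion_injective hQ)
    exact Cfsg.Agent.Lib.Helper35.Stem.not_prime_order_of_sylow_comm S
      (Cfsg.Agent.Lib.Helper35.Stem.comm_of_map_isCyclic σ hc S hcyc') (hc hw) (hcomm hw) rfl
  intro z hz
  have hpos : orderOf z ≠ 0 := (orderOf_pos z).ne'
  have h2pow : ∃ k, orderOf z = 2 ^ k := by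
    rcases Nat.eq_two_pow_or_exists_odd_prime_and_dvd (orderOf z) with h | ⟨p, hp, hdvd, hodd'⟩
    · exact h
    · exfalso
      have ho := orderOf_pow_orderOf_div hpos hdvd
      have h2 := hodd _ (Subgroup.pow_mem _ hz _) (by rw [ho]; exact hp)
      rw [ho] at h2
      rw [h2] at hodd'
      exact (Nat.not_odd_iff_even.mpr even_two) hodd'
  obtain ⟨k, hk⟩ := h2pow
  have hidx : ((Usub hF).comap σ).index = (Usub (m := 1) hF).index :=
    Subgroup.index_comap_of_surjective _ hs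
  have hco : Nat.Coprime ((Usub hF).comap σ).index (orderOf z) := by
    rw [hidx, hk]
    exact Nat.Coprime.pow_right _ (odd_index_Usub hm1 hF)
  have h3 := Cfsg.Agent.Lib.Helper35.Stem.mem_commutator_of_coprime _ (hc hz) (hcomm hz) hco
  -- pass to the quotient
  have h4 : (QuotientGroup.mk z : Γ ⧸ B) ∈ ⁅(Usub hF).comap σ', (Usub hF).comap σ'⁆ := by
    have hmap : ((Usub hF).comap σ).map (QuotientGroup.mk' B) ≤ (Usub hF).comap σ' := by
      rintro _ ⟨x, hx, rfl⟩
      exact hx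
    have h5 : (QuotientGroup.mk' B) z ∈
        (⁅(Usub hF).comap σ, (Usub hF).comap σ⁆).map (QuotientGroup.mk' B) :=
      Subgroup.mem_map_of_mem _ h3
    rw [Subgroup.map_commutator] at h5
    exact Subgroup.commutator_mono hmap hmap h5
  have h6 : (QuotientGroup.mk z : Γ ⧸ B) ∈ σ'.ker := hz
  have h7 := ker_inf_comm σ' hs' hF hc' hm1 huz _ h6 h4
  exact (QuotientGroup.eq_one_iff z).mp h7

/-- The kernel of a finite stem extension of `Sz(8)` has order dividing 4. -/
theorem card_ker_dvd_four (hF : Fintype.card F = 2 ^ (2 * 1 + 1)) {Γ : Type*} [Group Γ]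
    [Finite Γ] (σ : Γ →* ↥(Cfsg.Sz F 1)) (hσ : Cfsg.IsStemExtension σ) :
    Nat.card σ.ker ∣ 4 := by
  obtain ⟨hs, hc, hcomm⟩ := hσ
  exact dvd_trans (Subgroup.card_dvd_of_le (ker_le_BB hF σ hs hc hcomm)) (card_BB hF σ hs hc)

end Main

end Cfsg.Agent.Lib.Helper35.Sz8Bound
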