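-- The Schur multiplier of the Suzuki group `Sz(8)` is the four-group: the bound on the kernels
-- of stem extensions, the fibre product of two double covers built from data with explicit
-- commutators in its kernel, and the Hopf model.
import Cfsg.Agent.Lib.Helper35.Sz8Bound
import Cfsg.Agent.Lib.Helper35.Sz8Frame
import Cfsg.Agent.Lib.Helper35.Sz8C1
import Cfsg.Agent.Lib.Helper35.Sz8C2
import Cfsg.Agent.Lib.Helper35.FibProd
import Cfsg.Agent.Lib.Helper65.SzIso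
import Cfsg.Agent.Lib.Helper66.Hopf

set_option autoImplicit false

namespace Cfsg.Agent.Lib.Helper35.Sz8Mult

open Cfsg Cfsg.Agent.Lib.Helper35 Cfsg.Agent.Lib.Helper66
open Cfsg.Agent.Lib.Helper35.GCover Cfsg.Agent.Lib.Helper35.Sz8Tab
open scoped commutatorElement

universe u w

/-! ### Abelian groups of order dividing 4 -/

/-- A commutative group of order dividing 4 with a homomorphism whose image has exponent two
and contains two independent involutions is the four-group. -/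
theorem exists_equiv_four {T Y : Type*} [CommGroup T] [Finite T] [Group Y]
    (hcard : Nat.card T ∣ 4) (θ : T →* Y) (x y : T)
    (hexp : ∀ t : T, θ t ^ 2 = 1)
    (hind : ∀ a b : ℕ, θ x ^ a * θ y ^ b = 1 → 2 ∣ a ∧ 2 ∣ b) :
    Nonempty (Multiplicative (ZMod 2 × ZMod 2) ≃* T) := by
  let F : ZMod 2 × ZMod 2 → T := fun p => x ^ p.1.val * y ^ p.2.val
  have key : ∀ i j i' j' : ℕ, i < 2 → j < 2 → i' < 2 → j' < 2 →
      x ^ i * y ^ j = x ^ i' * y ^ j' → i = i' ∧ j = j' := by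
    intro i j i' j' hi hj hi' hj' h
    have e : x ^ (i + i') * y ^ (j + j') = (x ^ i' * y ^ j') ^ 2 := by
      rw [pow_add, pow_add, mul_mul_mul_comm, h, sq]
    have h1 := congrArg θ e
    rw [map_mul, map_pow, map_pow, map_pow, hexp] at h1
    obtain ⟨d1, d2⟩ := hind _ _ h1
    omega
  have hF : Function.Injective F := by
    intro p q hpq
    obtain ⟨h1, h2⟩ := key _ _ _ _ (ZMod.val_lt p.1) (ZMod.val_lt p.2) (ZMod.val_lt q.1)
      (ZMod.val_lt q.2) hpq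
    exact Prod.ext (ZMod.val_injective _ h1) (ZMod.val_injective _ h2)
  have hcardS : Nat.card (ZMod 2 × ZMod 2) = 4 := by
    rw [Nat.card_prod, Nat.card_zmod]
  have hle : Nat.card T ≤ 4 := Nat.le_of_dvd (by norm_num) hcard
  have hbij : Function.Bijective F := hF.bijective_of_nat_card_le (by rw [hcardS]; exact hle)
  have hsq : ∀ z : T, z ^ 2 = 1 := by
    intro z
    obtain ⟨p, hp⟩ := hbij.2 (z ^ 2)
    have h1 := congrArg θ hp
    simp only [F, map_mul, map_pow] at h1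
    rw [hexp] at h1
    obtain ⟨d1, d2⟩ := hind _ _ h1
    have hj : p.1.val = 0 := by have := ZMod.val_lt p.1; omega
    have hk : p.2.val = 0 := by have := ZMod.val_lt p.2; omega
    simp only [F, hj, hk, pow_zero, mul_one] at hp
    exact hp.symm
  have hmul : ∀ p q : ZMod 2 × ZMod 2, F (p + q) = F p * F q := by
    intro p q
    simp only [F, Prod.fst_add, Prod.snd_add, ZMod.val_add]
    rw [← pow_eq_pow_mod _ (hsq x), ← pow_eq_pow_mod _ (hsq y), pow_add, pow_add]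
    simp only [mul_assoc, mul_left_comm]
  exact ⟨MulEquiv.mk' (Multiplicative.toAdd.trans (Equiv.ofBijective F hbij))
    (fun p q => hmul (Multiplicative.toAdd p) (Multiplicative.toAdd q))⟩

/-! ### The Hopf model -/

/-- Multiplier `2 × 2`: all stem extensions have kernel of order dividing `4`, and there is a
central extension with two independent involutions in the intersection of its kernel, of
exponent two, with the commutator subgroup. -/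
theorem hasSchur_four {G : Type u} [Group G] [Finite G]
    (hub : ∀ (Γ : Type u) [Group Γ] [Finite Γ] (σ : Γ →* G), Cfsg.IsStemExtension σ →
      Nat.card σ.ker ∣ 4)
    {X : Type w} [Group X] (ξ : X →* G) (hξ : Function.Surjective ξ)
    (hc : ξ.ker ≤ Subgroup.center X) (u v : X)
    (hu : u ∈ _root_.commutator X ⊓ ξ.ker) (hv : v ∈ _root_.commutator X ⊓ ξ.ker)
    (hexp : ∀ k ∈ ξ.ker, k ^ 2 = 1)
    (hind : ∀ a b : ℕ, u ^ a * v ^ b = 1 → 2 ∣ a ∧ 2 ∣ b) :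
    Cfsg.HasSchurMultiplier G (Multiplicative (ZMod 2 × ZMod 2)) := by
  have hπ := Hopf.can_surjective G
  obtain ⟨Γ, i1, i2, σ, hσ, ⟨e⟩⟩ := Hopf.exists_cover (Hopf.can G) hπ
  have hdvd := hub Γ σ hσ
  have hfin : Finite (Hopf.T (Hopf.can G)) := Hopf.finite_T (Hopf.can G) hπ
  have hcardT : Nat.card (Hopf.T (Hopf.can G)) ∣ 4 := by
    rw [← Nat.card_congr e.toEquiv]; exact hdvd
  obtain ⟨θ, hθ⟩ := Hopf.exists_lift (Hopf.can G) ξ hξ hc
  obtain ⟨tu, htu, hmu⟩ := Hopf.commutator_inf_ker_le (Hopf.can G) hπ ξ hc θ hθ hu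
  obtain ⟨tv, htv, hmv⟩ := Hopf.commutator_inf_ker_le (Hopf.can G) hπ ξ hc θ hθ hv
  letI : CommGroup (Hopf.T (Hopf.can G)) :=
    { (inferInstance : Group (Hopf.T (Hopf.can G))) with
      mul_comm := fun a b => Subtype.ext
        (Subgroup.mem_center_iff.mp (Hopf.T_le_center (Hopf.can G) b.2) (a : _)) }
  obtain ⟨e2⟩ := exists_equiv_four hcardT (θ.comp (Hopf.T (Hopf.can G)).subtype) ⟨tu, htu⟩
    ⟨tv, htv⟩
    (fun t => hexp _ (Hopf.map_T_le_ker (Hopf.can G) ξ θ hθ ⟨t.1, t.2, rfl⟩))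
    (by
      intro a b hab
      apply hind
      rw [← hmu, ← hmv]
      exact hab)
  exact Hopf.hasSchurMultiplier_of_equiv (Hopf.can G) hπ e2

/-! ### The fibre product of two double covers -/

section Fib

variable {G : Type*} {Ω : Type*} [Group G] [MulAction G Ω] [Finite G] (Fr : Frame G Ω)
  (d₁ d₂ : Data) (hd₁ : Good d₁ Fr.ng Fr.n0 Fr.t) (hd₂ : Good d₂ Fr.ng Fr.n0 Fr.t)

/-- The commutator of the pairs of lifts of two commuting words. -/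
theorem pair_comm (wp wq : List ℕ) (hwp : okW Fr.ng wp = true) (hwq : okW Fr.ng wq = true)
    (hcomm : wG Fr wp * wG Fr wq = wG Fr wq * wG Fr wp)
    (y₁ k₁ y₂ k₂ : ℕ) (hy₁ : y₁ < d₁.N) (hy₂ : y₂ < d₂.N)
    (e₁ : wF d₁ wq (wF d₁ wp y₁) = 0 ∧ wF d₁ wp (wF d₁ wq y₁) = k₁)
    (e₂ : wF d₂ wq (wF d₂ wp y₂) = 0 ∧ wF d₂ wp (wF d₂ wq y₂) = k₂) :
    ∃ c : ↥(FibProd.Y (proj Fr d₁ hd₁) (proj Fr d₂ hd₂)),
      c ∈ _root_.commutator ↥(FibProd.Y (proj Fr d₁ hd₁) (proj Fr d₂ hd₂)) ⊓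
        (FibProd.η (proj Fr d₁ hd₁) (proj Fr d₂ hd₂)).ker ∧
      (c : ↥(X Fr d₁ hd₁) × ↥(X Fr d₂ hd₂)) = (zX Fr d₁ hd₁ ^ k₁, zX Fr d₂ hd₂ ^ k₂) := by
  have hp : proj Fr d₁ hd₁ (wX Fr d₁ hd₁ wp) = proj Fr d₂ hd₂ (wX Fr d₂ hd₂ wp) := by
    rw [proj_wX Fr d₁ hd₁ wp hwp, proj_wX Fr d₂ hd₂ wp hwp]
  have hq : proj Fr d₁ hd₁ (wX Fr d₁ hd₁ wq) = proj Fr d₂ hd₂ (wX Fr d₂ hd₂ wq) := by
    rw [proj_wX Fr d₁ hd₁ wq hwq, proj_wX Fr d₂ hd₂ wq hwq]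
  have hcm : proj Fr d₁ hd₁ (wX Fr d₁ hd₁ wp) * proj Fr d₁ hd₁ (wX Fr d₁ hd₁ wq)
      = proj Fr d₁ hd₁ (wX Fr d₁ hd₁ wq) * proj Fr d₁ hd₁ (wX Fr d₁ hd₁ wp) := by
    rw [proj_wX Fr d₁ hd₁ wp hwp, proj_wX Fr d₁ hd₁ wq hwq]
    exact hcomm
  obtain ⟨h1, h2⟩ := FibProd.comm_mk (proj Fr d₁ hd₁) (proj Fr d₂ hd₂) _ _ _ _ hp hq hcm
  refine ⟨_, h1, ?_⟩
  rw [h2, comm_eval Fr d₁ hd₁ wp wq hwp hwq hcomm y₁ k₁ hy₁ e₁.1 e₁.2,
    comm_eval Fr d₂ hd₂ wp wq hwp hwq hcomm y₂ k₂ hy₂ e₂.1 e₂.2]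

/-- The fibre product of two double covers with two commutators `(z, 1)` and `(1, z)`. -/
theorem fib_cover (hgen : Subgroup.closure {g : G | ∃ c, c < Fr.ng ∧ g = Fr.gen c} = ⊤)
    (hm₁ : d₁.m = 2) (hm₂ : d₂.m = 2)
    (u v : ↥(FibProd.Y (proj Fr d₁ hd₁) (proj Fr d₂ hd₂)))
    (hu : (u : ↥(X Fr d₁ hd₁) × ↥(X Fr d₂ hd₂)) = (zX Fr d₁ hd₁ ^ 1, zX Fr d₂ hd₂ ^ 0))
    (hv : (v : ↥(X Fr d₁ hd₁) × ↥(X Fr d₂ hd₂)) = (zX Fr d₁ hd₁ ^ 0, zX Fr d₂ hd₂ ^ 1)) :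
    Function.Surjective (FibProd.η (proj Fr d₁ hd₁) (proj Fr d₂ hd₂)) ∧
    (FibProd.η (proj Fr d₁ hd₁) (proj Fr d₂ hd₂)).ker ≤
      Subgroup.center ↥(FibProd.Y (proj Fr d₁ hd₁) (proj Fr d₂ hd₂)) ∧
    (∀ k ∈ (FibProd.η (proj Fr d₁ hd₁) (proj Fr d₂ hd₂)).ker, k ^ 2 = 1) ∧
    (∀ a b : ℕ, u ^ a * v ^ b = 1 → 2 ∣ a ∧ 2 ∣ b) := by
  have ho₁ : orderOf (zX Fr d₁ hd₁) = 2 := by rw [zX_order, hm₁]
  have ho₂ : orderOf (zX Fr d₂ hd₂) = 2 := by rw [zX_order, hm₂]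
  have hz₁ : zX Fr d₁ hd₁ ^ 2 = 1 := by rw [← ho₁]; exact pow_orderOf_eq_one _
  have hz₂ : zX Fr d₂ hd₂ ^ 2 = 1 := by rw [← ho₂]; exact pow_orderOf_eq_one _
  refine ⟨FibProd.η_surjective _ _ (proj_surjective Fr d₁ hd₁ hgen)
    (proj_surjective Fr d₂ hd₂ hgen),
    FibProd.ker_le_center _ _ (ker_le_center Fr d₁ hd₁) (ker_le_center Fr d₂ hd₂), ?_, ?_⟩
  · intro k hk
    obtain ⟨h1, h2⟩ := (FibProd.mem_ker_iff _ _ k).mp hk
    obtain ⟨i, hi⟩ := ker_cases Fr d₁ hd₁ _ h1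
    obtain ⟨j, hj⟩ := ker_cases Fr d₂ hd₂ _ h2
    apply Subtype.ext
    apply Prod.ext
    · show k.1.1 ^ 2 = 1
      rw [hi, ← pow_mul, mul_comm, pow_mul, hz₁, one_pow]
    · show k.1.2 ^ 2 = 1
      rw [hj, ← pow_mul, mul_comm, pow_mul, hz₂, one_pow]
  · intro a b hab
    have h1 : (u : ↥(X Fr d₁ hd₁) × ↥(X Fr d₂ hd₂)) ^ a
        * (v : ↥(X Fr d₁ hd₁) × ↥(X Fr d₂ hd₂)) ^ b = 1 := congrArg Subtype.val hab
    rw [hu, hv] at h1
    have h2 := congrArg Prod.fst h1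
    have h3 := congrArg Prod.snd h1
    simp only [Prod.fst_mul, Prod.snd_mul, Prod.pow_fst, Prod.pow_snd, Prod.fst_one,
      Prod.snd_one, pow_zero, pow_one, one_pow, mul_one, one_mul] at h2 h3
    constructor
    · rw [← ho₁]; exact orderOf_dvd_of_pow_eq_one h2
    · rw [← ho₂]; exact orderOf_dvd_of_pow_eq_one h3

end Fib

/-! ### The checks for the two double covers of `Sz(8)` -/

theorem commA : allLt 65 (fun i => Nat.beq (wT szT ([1, 1] ++ [0, 1, 0, 0, 0, 0, 0, 0]) i)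
    (wT szT ([0, 1, 0, 0, 0, 0, 0, 0] ++ [1, 1]) i)) = true := by
  decide +kernel

theorem commB : allLt 65 (fun i => Nat.beq (wT szT ([1, 1] ++ [0, 0, 0, 0, 1, 0, 0, 0]) i)
    (wT szT ([0, 0, 0, 0, 1, 0, 0, 0] ++ [1, 1]) i)) = true := by
  decide +kernel

theorem evA1 : wF Sz8C1Data.dat [0, 1, 0, 0, 0, 0, 0, 0] (wF Sz8C1Data.dat [1, 1] 131) = 0 ∧
    wF Sz8C1Data.dat [1, 1] (wF Sz8C1Data.dat [0, 1, 0, 0, 0, 0, 0, 0] 131) = 1 := by
  decide +kernel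

theorem evA2 : wF Sz8C2Data.dat [0, 1, 0, 0, 0, 0, 0, 0] (wF Sz8C2Data.dat [1, 1] 131) = 0 ∧
    wF Sz8C2Data.dat [1, 1] (wF Sz8C2Data.dat [0, 1, 0, 0, 0, 0, 0, 0] 131) = 0 := by
  decide +kernel

theorem evB1 : wF Sz8C1Data.dat [0, 0, 0, 0, 1, 0, 0, 0] (wF Sz8C1Data.dat [1, 1] 605) = 0 ∧
    wF Sz8C1Data.dat [1, 1] (wF Sz8C1Data.dat [0, 0, 0, 0, 1, 0, 0, 0] 605) = 0 := by
  decide +kernel

theorem evB2 : wF Sz8C2Data.dat [0, 0, 0, 0, 1, 0, 0, 0] (wF Sz8C2Data.dat [1, 1] 604) = 0 ∧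
    wF Sz8C2Data.dat [1, 1] (wF Sz8C2Data.dat [0, 0, 0, 0, 1, 0, 0, 0] 604) = 1 := by
  decide +kernel

theorem ltN1 : 605 < Sz8C1Data.dat.N := by decide +kernel

theorem ltN2 : 604 < Sz8C2Data.dat.N := by decide +kernel

/-! ### The multiplier -/

open Cfsg.Agent.Lib.Helper6.Sz0 Cfsg.Agent.Lib.Helper6.Sz6 Cfsg.Agent.Lib.Helper35.Sz8Frame in
/-- The Schur multiplier of `Sz(8)`, for any group isomorphic to the ovoid model. -/
theorem sz8_multiplier {F : Type u} [Field F] [Fintype F]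
    (hF : Fintype.card F = 2 ^ (2 * 1 + 1)) {G : Type u} [Group G]
    (e : G ≃* ↥(Cfsg.Sz F 1)) :
    Cfsg.HasSchurMultiplier G (Multiplicative (ZMod 2 × ZMod 2)) := by
  have two : (2 : F) = 0 := two_eq_zero hF
  obtain ⟨ζ, hζ⟩ := exists_zeta hF
  have hζ0 : ζ ≠ 0 := by
    rintro rfl
    have h1 : (1 : F) = 0 := by linear_combination (-1 : F) * hζ
    exact one_ne_zero h1
  have hfaith : FaithfulSMul ↥(Cfsg.Sz F 1) (Cfsg.suzukiOvoid F 1) := faithful (le_refl 1) hF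
  have hfinS : Finite ↥(Cfsg.Sz F 1) := inferInstance
  have hfinG : Finite G := Finite.of_equiv _ e.symm.toEquiv
  have hgen := gen_top hF ζ hζ hζ0
  have hcA : wG (frame hF two ζ hζ hζ0) [1, 1] * wG (frame hF two ζ hζ hζ0) [0, 1, 0, 0, 0, 0, 0, 0]
      = wG (frame hF two ζ hζ hζ0) [0, 1, 0, 0, 0, 0, 0, 0] * wG (frame hF two ζ hζ hζ0) [1, 1] := by
    rw [← wG_append, ← wG_append]
    exact wG_eq (frame hF two ζ hζ hζ0) _ _ rfl rfl commA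
  have hcB : wG (frame hF two ζ hζ hζ0) [1, 1] * wG (frame hF two ζ hζ hζ0) [0, 0, 0, 0, 1, 0, 0, 0]
      = wG (frame hF two ζ hζ hζ0) [0, 0, 0, 0, 1, 0, 0, 0] * wG (frame hF two ζ hζ hζ0) [1, 1] := by
    rw [← wG_append, ← wG_append]
    exact wG_eq (frame hF two ζ hζ hζ0) _ _ rfl rfl commB
  obtain ⟨u, hu1, hu2⟩ := pair_comm (frame hF two ζ hζ hζ0) Sz8C1Data.dat Sz8C2Data.dat
    Sz8C1.good Sz8C2.good [1, 1] [0, 1, 0, 0, 0, 0, 0, 0] rfl rfl hcA 131 1 131 0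
    (lt_trans (by norm_num) ltN1) (lt_trans (by norm_num) ltN2) evA1 evA2
  obtain ⟨v, hv1, hv2⟩ := pair_comm (frame hF two ζ hζ hζ0) Sz8C1Data.dat Sz8C2Data.dat
    Sz8C1.good Sz8C2.good [1, 1] [0, 0, 0, 0, 1, 0, 0, 0] rfl rfl hcB 605 0 604 1
    ltN1 ltN2 evB1 evB2
  obtain ⟨hsurj, hcen, hexp, hind⟩ := fib_cover (frame hF two ζ hζ hζ0) Sz8C1Data.dat
    Sz8C2Data.dat Sz8C1.good Sz8C2.good hgen rfl rfl u v hu2 hv2
  -- transport along the isomorphism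
  have hker : ∀ {A : Type u} [Group A] (f : A →* ↥(Cfsg.Sz F 1)),
      (e.symm.toMonoidHom.comp f).ker = f.ker := by
    intro A _ f
    ext x
    rw [MonoidHom.mem_ker, MonoidHom.mem_ker]
    exact e.symm.map_eq_one_iff
  have hker' : ∀ {A : Type u} [Group A] (f : A →* G),
      (e.toMonoidHom.comp f).ker = f.ker := by
    intro A _ f
    ext x
    rw [MonoidHom.mem_ker, MonoidHom.mem_ker]
    exact e.map_eq_one_iff
  refine hasSchur_four ?_ (e.symm.toMonoidHom.comp (FibProd.η _ _)) (e.symm.surjective.comp hsurj)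
    (by rw [hker]; exact hcen) u v (by rw [hker]; exact hu1) (by rw [hker]; exact hv1)
    (by rw [hker]; exact hexp) hind
  intro Γ _ _ σ hσ
  obtain ⟨hs, hc, hcomm⟩ := hσ
  have h := Sz8Bound.card_ker_dvd_four hF (e.toMonoidHom.comp σ)
    ⟨e.surjective.comp hs, by rw [hker']; exact hc, by rw [hker']; exact hcomm⟩
  rw [hker'] at h
  exact h

end Cfsg.Agent.Lib.Helper35.Sz8Mult
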