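import Mathlib
import Cfsg.Agent.Lib.Helper44.TPStmt
import Cfsg.Agent.Lib.Helper44.QCount
import Cfsg.Agent.Lib.Helper44.NegPairs

/-!
# S5973 piece SINGCNT (call by helper44)

The singular vectors orthogonal to a totally singular frame of length `j ≤ d` of the plus-type form
number `q^(d-1) (q^(d-j) + q - 1)` (all `q`).  Induction on `j`.  Step: for a frame `w` of length
`j+1` with last vector `e`, and `c ≠ 0`, the affine space `{u ⊥ init w, B(e,u) = c}` fibres over its
singular points with fibres the `e`-lines (`Q (u + t e) = Q u + t c`).  Base: explicit count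
(`Helper44.QCount.card_plusForm_mul`).
-/

set_option autoImplicit false

universe u

namespace Cfsg.Agent.Lib.Helper35.TPSINGCNT

open QuadraticMap
open Cfsg.Agent.Lib.Helper44.TPStmt

section general

variable {F : Type u} [Field F] [Fintype F] {V : Type u} [AddCommGroup V] [Module F V] [Finite V]

omit [Fintype F] [Finite V] in
theorem q_add_smul (Q : QuadraticForm F V) (u e : V) (t : F) (he : Q e = 0) :
    Q (u + t • e) = Q u + t * polar Q e u := by
  rw [QuadraticMap.map_add Q u (t • e), QuadraticMap.map_smul, he, polar_smul_right,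
    polar_comm Q u e]
  simp

omit [Fintype F] [Finite V] in
theorem polar_add_smul (Q : QuadraticForm F V) (x u e : V) (t : F) :
    polar Q x (u + t • e) = polar Q x u + t * polar Q x e := by
  rw [polar_add_right, polar_smul_right]
  simp

/-- fibres of a surjective linear map -/
theorem card_fiber {W : Type u} [AddCommGroup W] [Module F W] [Fintype W]
    (L : V →ₗ[F] W) (hL : Function.Surjective L) (b : W) :
    Nat.card {u : V // L u = b} * Fintype.card W = Nat.card V := by
  classical
  have hfib : ∀ b' : W, Nat.card {u : V // L u = b'} = Nat.card {u : V // L u = b} := by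
    intro b'
    obtain ⟨u0, hu0⟩ := hL (b - b')
    apply Nat.card_congr
    refine Equiv.subtypeEquiv (Equiv.addRight u0) (fun u => ?_)
    simp only [Equiv.coe_addRight, map_add, hu0]
    constructor
    · intro h; rw [h]; abel
    · intro h
      rw [eq_sub_of_add_eq h, sub_sub_cancel]
  rw [← Nat.card_congr (Equiv.sigmaFiberEquiv L), Nat.card_sigma]
  simp only [hfib]
  rw [Finset.sum_const, Finset.card_univ, smul_eq_mul, mul_comm]

/-- the polar functionals of a linearly independent family are jointly surjective -/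
theorem surj_polar (Q : QuadraticForm F V) (hS : ∀ x, (∀ y, polar Q x y = 0) → x = 0)
    {m : ℕ} (w : Fin m → V) (hli : LinearIndependent F w) :
    Function.Surjective (LinearMap.pi (fun a => Q.polarBilin (w a)) : V →ₗ[F] (Fin m → F)) := by
  classical
  set L : V →ₗ[F] (Fin m → F) := LinearMap.pi (fun a => Q.polarBilin (w a)) with hLdef
  rw [← LinearMap.range_eq_top]
  by_contra hne
  obtain ⟨f, hf0, hf⟩ :=
    Submodule.exists_le_ker_of_lt_top (LinearMap.range L) (lt_top_iff_ne_top.2 hne)
  apply hf0
  have hfL : ∀ u, f (L u) = 0 := fun u => hf (LinearMap.mem_range_self L u)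
  have hexp : ∀ x : Fin m → F, f x = ∑ a, x a * f (Pi.single a 1) := by
    intro x
    conv_lhs => rw [← Finset.univ_sum_single x]
    rw [map_sum]
    apply Finset.sum_congr rfl
    intro a _
    have : (Pi.single a (x a) : Fin m → F) = x a • Pi.single a 1 := by
      rw [← Pi.single_smul, smul_eq_mul, mul_one]
    rw [this, map_smul, smul_eq_mul]
  have hz : ∑ a, f (Pi.single a 1) • w a = 0 := by
    apply hS
    intro y
    have h1 := hfL y
    rw [hexp] at h1
    have h2 : polar Q (∑ a, f (Pi.single a 1) • w a) y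
        = ∑ a, L y a * f (Pi.single a 1) := by
      rw [← QuadraticMap.polarBilin_apply_apply, map_sum, LinearMap.sum_apply]
      apply Finset.sum_congr rfl
      intro a _
      rw [map_smul, LinearMap.smul_apply, smul_eq_mul, mul_comm]
      rfl
    rw [h2, h1]
  have hcoef := Fintype.linearIndependent_iff.1 hli _ hz
  refine LinearMap.ext fun x => ?_
  rw [hexp]
  simp [hcoef]

/-- number of solutions of a system of polar equations -/
theorem card_sys (Q : QuadraticForm F V) (hS : ∀ x, (∀ y, polar Q x y = 0) → x = 0)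
    {m : ℕ} (w : Fin m → V) (hli : LinearIndependent F w) (b : Fin m → F) :
    Nat.card {u : V // ∀ a, polar Q (w a) u = b a} * Fintype.card F ^ m = Nat.card V := by
  have h := card_fiber (LinearMap.pi (fun a => Q.polarBilin (w a))) (surj_polar Q hS w hli) b
  rw [Fintype.card_fun, Fintype.card_fin] at h
  rw [← h]
  congr 1
  apply Nat.card_congr
  exact Equiv.subtypeEquivRight (fun u => by
    constructor
    · intro h; funext a; exact h a
    · intro h a; exact congrFun h a)

/-- each `e`-line of the affine space `B(e, ·) = c ≠ 0` contains exactly one singular point -/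
theorem card_line (Q : QuadraticForm F V) {k : ℕ} (v : Fin k → V) (e : V) (he : Q e = 0)
    (hve : ∀ a, polar Q (v a) e = 0) (c : F) (hc : c ≠ 0) :
    Nat.card {u : V // (Q u = 0 ∧ ∀ a, polar Q (v a) u = 0) ∧ polar Q e u = c} * Fintype.card F
      = Nat.card {u : V // (∀ a, polar Q (v a) u = 0) ∧ polar Q e u = c} := by
  rw [← Nat.card_eq_fintype_card (α := F), ← Nat.card_prod]
  apply Nat.card_congr
  have hee : polar Q e e = 0 := by rw [polar_self, he]; simp
  refine
    { toFun := fun p => ⟨p.1.1 + (-p.2) • e, ?_, ?_⟩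
      invFun := fun u => (⟨u.1 + (-(Q u.1) / c) • e, ⟨?_, ?_⟩, ?_⟩, -(Q u.1) / c)
      left_inv := ?_
      right_inv := ?_ }
  · intro a
    rw [polar_add_smul, p.1.2.1.2 a, hve a]; simp
  · rw [polar_add_smul, p.1.2.2, hee]; simp
  · rw [q_add_smul Q _ _ _ he, u.2.2]
    field_simp
    ring
  · intro a
    rw [polar_add_smul, u.2.1 a, hve a]; simp
  · rw [polar_add_smul, u.2.2, hee]; simp
  · rintro ⟨⟨s, ⟨hs0, hs1⟩, hs2⟩, t⟩
    have hQ : Q (s + (-t) • e) = -t * c := by
      rw [q_add_smul Q _ _ _ he, hs0, hs2]; ring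
    have ht : -(Q (s + (-t) • e)) / c = t := by
      rw [hQ]; field_simp
    refine Prod.ext (Subtype.ext ?_) ?_
    · show s + (-t) • e + (-(Q (s + (-t) • e)) / c) • e = s
      rw [ht, add_assoc, ← add_smul]; simp
    · exact ht
  · rintro ⟨u, hu1, hu2⟩
    apply Subtype.ext
    show u + (-(Q u) / c) • e + (-(-(Q u) / c)) • e = u
    rw [add_assoc, ← add_smul]; simp

/-- the inductive step -/
theorem step (Q : QuadraticForm F V) (hS : ∀ x, (∀ y, polar Q x y = 0) → x = 0)
    {k : ℕ} (w : Fin (k + 1) → V) (hli : LinearIndependent F w)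
    (hq : ∀ a, Q (w a) = 0) (hp : ∀ a b, polar Q (w a) (w b) = 0) (X : ℕ)
    (hX : X * Fintype.card F * Fintype.card F ^ (k + 1) = Nat.card V) :
    Nat.card {u : V // Q u = 0 ∧ ∀ a : Fin k, polar Q (w a.castSucc) u = 0}
      = Nat.card {u : V // Q u = 0 ∧ ∀ a, polar Q (w a) u = 0} + (Fintype.card F - 1) * X := by
  classical
  have hqpos : 0 < Fintype.card F := Fintype.card_pos
  have hT : ∀ c : F, c ≠ 0 →
      Nat.card {u : V // (Q u = 0 ∧ ∀ a : Fin k, polar Q (w a.castSucc) u = 0) ∧
        polar Q (w (Fin.last k)) u = c} = X := by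
    intro c hc
    have h1 := card_line Q (fun a : Fin k => w a.castSucc) (w (Fin.last k)) (hq _)
      (fun a => hp _ _) c hc
    have h2 := card_sys Q hS w hli (Fin.snoc (fun _ => (0 : F)) c)
    have h3 : Nat.card {u : V // (∀ a : Fin k, polar Q (w a.castSucc) u = 0) ∧
          polar Q (w (Fin.last k)) u = c}
        = Nat.card {u : V // ∀ a, polar Q (w a) u
            = (Fin.snoc (fun _ => (0 : F)) c : Fin (k + 1) → F) a} := by
      apply Nat.card_congr
      exact Equiv.subtypeEquivRight (fun u => by
        rw [Fin.forall_fin_succ']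
        simp)
    have h4 : Nat.card {u : V // (Q u = 0 ∧ ∀ a : Fin k, polar Q (w a.castSucc) u = 0) ∧
          polar Q (w (Fin.last k)) u = c} * Fintype.card F * Fintype.card F ^ (k + 1)
        = X * Fintype.card F * Fintype.card F ^ (k + 1) := by
      rw [h1, h3, h2, hX]
    exact Nat.eq_of_mul_eq_mul_right hqpos
      (Nat.eq_of_mul_eq_mul_right (pow_pos hqpos _) h4)
  have hsum : Nat.card {u : V // Q u = 0 ∧ ∀ a : Fin k, polar Q (w a.castSucc) u = 0}
      = ∑ c : F, Nat.card {u : V // (Q u = 0 ∧ ∀ a : Fin k, polar Q (w a.castSucc) u = 0) ∧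
          polar Q (w (Fin.last k)) u = c} := by
    rw [← Nat.card_congr (Equiv.sigmaFiberEquiv
      (fun u : {u : V // Q u = 0 ∧ ∀ a : Fin k, polar Q (w a.castSucc) u = 0} =>
        polar Q (w (Fin.last k)) u.1)), Nat.card_sigma]
    apply Finset.sum_congr rfl
    intro c _
    exact Nat.card_congr (Equiv.subtypeSubtypeEquivSubtypeInter
      (fun u : V => Q u = 0 ∧ ∀ a : Fin k, polar Q (w a.castSucc) u = 0)
      (fun u : V => polar Q (w (Fin.last k)) u = c))
  have h0 : Nat.card {u : V // (Q u = 0 ∧ ∀ a : Fin k, polar Q (w a.castSucc) u = 0) ∧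
        polar Q (w (Fin.last k)) u = 0}
      = Nat.card {u : V // Q u = 0 ∧ ∀ a, polar Q (w a) u = 0} := by
    apply Nat.card_congr
    exact Equiv.subtypeEquivRight (fun u => by
      rw [Fin.forall_fin_succ']
      simp [and_assoc])
  rw [hsum, ← Finset.add_sum_erase Finset.univ _ (Finset.mem_univ (0 : F)), h0]
  congr 1
  rw [Finset.sum_congr rfl (fun c hc => hT c (Finset.ne_of_mem_erase hc)), Finset.sum_const,
    Finset.card_erase_of_mem (Finset.mem_univ _), Finset.card_univ, smul_eq_mul]

end general

section plus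

variable {F : Type u} [Field F] [Fintype F]

/-- base case: the number of singular vectors -/
theorem base (d : ℕ) (hd : 1 ≤ d) :
    Nat.card {u : J d → F // Cfsg.quadFormPlus d F u = 0} =
      Fintype.card F ^ (d - 1) * (Fintype.card F ^ (d - 0) + Fintype.card F - 1) := by
  classical
  have hqpos : 0 < Fintype.card F := Fintype.card_pos
  have hc := Cfsg.Agent.Lib.Helper44.QCount.card_plusForm_mul (F := F) (κ := Fin d) (0 : F)
  rw [if_pos rfl, Fintype.card_fin] at hc
  have h2 : Nat.card {u : J d → F // Cfsg.quadFormPlus d F u = 0}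
      = Nat.card {v : Fin d ⊕ Fin d → F //
          Cfsg.Agent.Lib.Helper44.QCount.plusForm v = 0} := rfl
  rw [h2]
  obtain ⟨d', rfl⟩ := Nat.exists_eq_add_of_le' hd
  obtain ⟨q', hq'⟩ := Nat.exists_eq_add_of_le' hqpos
  apply Nat.eq_of_mul_eq_mul_right hqpos
  rw [hc]
  simp only [Nat.add_sub_cancel, Nat.sub_zero]
  have hA : 1 ≤ Fintype.card F ^ (d' + 1) := Nat.one_le_pow _ _ hqpos
  obtain ⟨A, hAe⟩ := Nat.exists_eq_add_of_le' hA
  have e1 : Fintype.card F ^ (d' + 1 + 1) = Fintype.card F ^ (d' + 1) * Fintype.card F :=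
    pow_succ _ _
  have e2 : Fintype.card F ^ (d' + 1) = Fintype.card F ^ d' * Fintype.card F := pow_succ _ _
  have e3 : Fintype.card F ^ (d' + 1) + Fintype.card F - 1 = Fintype.card F ^ (d' + 1) + q' := by
    omega
  rw [e3, e1]
  rw [hAe] at *
  simp only [Nat.add_sub_cancel]
  rw [hq'] at e2 ⊢
  nlinarith [e2]

theorem count (d : ℕ) (hd : 1 ≤ d) : ∀ (k : ℕ) (w : Fin k → J d → F),
    LinearIndependent F w →
    (∀ a, Cfsg.Agent.Lib.Helper44.NegPairs.plusQ d F (w a) = 0) →
    (∀ a b, polar (Cfsg.Agent.Lib.Helper44.NegPairs.plusQ d F) (w a) (w b) = 0) → k ≤ d →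
    Nat.card {u : J d → F // Cfsg.Agent.Lib.Helper44.NegPairs.plusQ d F u = 0 ∧
        ∀ a, polar (Cfsg.Agent.Lib.Helper44.NegPairs.plusQ d F) (w a) u = 0}
      = Fintype.card F ^ (d - 1) * (Fintype.card F ^ (d - k) + Fintype.card F - 1) := by
  have hS := Cfsg.Agent.Lib.Helper44.NegPairs.sep_plusQ (F := F) d
  have hqpos : 0 < Fintype.card F := Fintype.card_pos
  intro k
  induction k with
  | zero =>
    intro w _ _ _ _
    rw [← base (F := F) d hd]
    apply Nat.card_congr
    exact Equiv.subtypeEquivRight (fun u => by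
      constructor
      · intro h; exact h.1
      · intro h; exact ⟨h, fun a => a.elim0⟩)
  | succ k ih =>
    intro w hli hq hp hk
    have ih' := ih (fun a => w a.castSucc) (hli.comp Fin.castSucc (Fin.castSucc_injective k))
      (fun a => hq _) (fun a b => hp _ _) (by omega)
    have hV : Nat.card (J d → F) = Fintype.card F ^ (2 * d) := by
      rw [Nat.card_eq_fintype_card, Fintype.card_fun]
      congr 1
      simp [Fintype.card_sum]
      omega
    have hX : Fintype.card F ^ (2 * d - (k + 2)) * Fintype.card F * Fintype.card F ^ (k + 1)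
        = Nat.card (J d → F) := by
      rw [hV, ← pow_succ, ← pow_add]
      congr 1
      omega
    have hst := step (Cfsg.Agent.Lib.Helper44.NegPairs.plusQ d F) hS w hli hq hp
      (Fintype.card F ^ (2 * d - (k + 2))) hX
    rw [ih'] at hst
    obtain ⟨q', hq'⟩ := Nat.exists_eq_add_of_le' hqpos
    have e1 : Fintype.card F ^ (d - 1) * Fintype.card F ^ (d - k)
        = Fintype.card F * Fintype.card F ^ (2 * d - (k + 2)) := by
      rw [← pow_add, ← pow_succ']
      congr 1
      omega
    have e2 : Fintype.card F ^ (d - 1) * Fintype.card F ^ (d - (k + 1))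
        = Fintype.card F ^ (2 * d - (k + 2)) := by
      rw [← pow_add]
      congr 1
      omega
    have e3 : Fintype.card F ^ (d - k) + Fintype.card F - 1 = Fintype.card F ^ (d - k) + q' := by
      omega
    have e4 : Fintype.card F ^ (d - (k + 1)) + Fintype.card F - 1
        = Fintype.card F ^ (d - (k + 1)) + q' := by
      omega
    have e5 : Fintype.card F - 1 = q' := by omega
    rw [e3, e5, mul_add, e1] at hst
    rw [e4, mul_add, e2]
    obtain ⟨A, hA⟩ : ∃ A, A = Fintype.card F ^ (2 * d - (k + 2)) := ⟨_, rfl⟩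
    rw [← hA] at hst ⊢
    have h6 : Fintype.card F * A = q' * A + A := by
      rw [hq']
      show (q' + 1) * A = q' * A + A
      ring
    linarith [hst, h6]

end plus

theorem main : SingCnt.{u} := by
  intro F _ _ d j hd hj v
  exact count d hd j v.1 v.2.1 v.2.2.1 v.2.2.2 hj

end Cfsg.Agent.Lib.Helper35.TPSINGCNT
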