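-- A triple cover of the alternating group `A_7`: pairs `(g, P)` with `g ∈ A_7` and `P` a
-- permutation of the 63 points `(duad, residue mod 3)` lying over the action of `g` on the 21
-- duads, commuting with the fibre rotation `z0` and preserving a graph of valency 10.
import Mathlib

set_option autoImplicit false

namespace Cfsg.Agent.Lib.Helper35.TripleA7

open Equiv

/-- A permutation of `Fin 63` given by its table of images and the table of its inverse. -/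
def mkP (t ti : List ℕ) (h0 : ∀ x : Fin 63, t.getD x 0 < 63)
    (h0' : ∀ x : Fin 63, ti.getD x 0 < 63)
    (h1 : ∀ x : Fin 63, ti.getD (t.getD x 0) 0 = x)
    (h2 : ∀ x : Fin 63, t.getD (ti.getD x 0) 0 = x) : Equiv.Perm (Fin 63) where
  toFun x := ⟨t.getD x 0, h0 x⟩
  invFun x := ⟨ti.getD x 0, h0' x⟩
  left_inv x := Fin.ext (h1 x)
  right_inv x := Fin.ext (h2 x)

/-- The 21 duads of `Fin 7`. -/
def duadsT : List (Fin 7 × Fin 7) :=
  [(0, 1), (0, 2), (0, 3), (0, 4), (0, 5), (0, 6), (1, 2), (1, 3), (1, 4), (1, 5), (1, 6), (2, 3), (2, 4), (2, 5), (2, 6), (3, 4), (3, 5), (3, 6), (4, 5), (4, 6), (5, 6)]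

/-- The duad below a point. -/
def bl (x : Fin 63) : Fin 7 × Fin 7 := duadsT.getD (x / 3) (0, 1)

/-- Neighbours in the graph. -/
def nbT : List (List ℕ) :=
  [[33, 38, 40, 42, 46, 50, 51, 54, 57, 60],
   [34, 36, 41, 43, 47, 48, 52, 55, 58, 61],
   [35, 37, 39, 44, 45, 49, 53, 56, 59, 62],
   [21, 25, 29, 30, 47, 49, 51, 54, 59, 61],
   [22, 26, 27, 31, 45, 50, 52, 55, 57, 62],
   [23, 24, 28, 32, 46, 48, 53, 56, 58, 60],
   [18, 26, 28, 30, 37, 41, 42, 54, 58, 62],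
   [19, 24, 29, 31, 38, 39, 43, 55, 59, 60],
   [20, 25, 27, 32, 36, 40, 44, 56, 57, 61],
   [19, 23, 27, 30, 33, 41, 44, 49, 52, 60],
   [20, 21, 28, 31, 34, 39, 42, 50, 53, 61],
   [18, 22, 29, 32, 35, 40, 43, 48, 51, 62],
   [20, 22, 24, 30, 33, 37, 43, 47, 53, 57],
   [18, 23, 25, 31, 34, 38, 44, 45, 51, 58],
   [19, 21, 26, 32, 35, 36, 42, 46, 52, 59],
   [18, 21, 24, 27, 33, 36, 39, 45, 48, 54],
   [19, 22, 25, 28, 34, 37, 40, 46, 49, 55],
   [20, 23, 26, 29, 35, 38, 41, 47, 50, 56],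
   [6, 11, 13, 15, 45, 48, 51, 54, 58, 62],
   [7, 9, 14, 16, 46, 49, 52, 55, 59, 60],
   [8, 10, 12, 17, 47, 50, 53, 56, 57, 61],
   [3, 10, 14, 15, 36, 39, 42, 54, 59, 61],
   [4, 11, 12, 16, 37, 40, 43, 55, 57, 62],
   [5, 9, 13, 17, 38, 41, 44, 56, 58, 60],
   [5, 7, 12, 15, 33, 39, 43, 48, 53, 60],
   [3, 8, 13, 16, 34, 40, 44, 49, 51, 61],
   [4, 6, 14, 17, 35, 41, 42, 50, 52, 62],
   [4, 8, 9, 15, 33, 36, 44, 45, 52, 57],
   [5, 6, 10, 16, 34, 37, 42, 46, 53, 58],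
   [3, 7, 11, 17, 35, 38, 43, 47, 51, 59],
   [3, 6, 9, 12, 33, 37, 41, 47, 49, 54],
   [4, 7, 10, 13, 34, 38, 39, 45, 50, 55],
   [5, 8, 11, 14, 35, 36, 40, 46, 48, 56],
   [0, 9, 12, 15, 24, 27, 30, 54, 57, 60],
   [1, 10, 13, 16, 25, 28, 31, 55, 58, 61],
   [2, 11, 14, 17, 26, 29, 32, 56, 59, 62],
   [1, 8, 14, 15, 21, 27, 32, 48, 52, 61],
   [2, 6, 12, 16, 22, 28, 30, 49, 53, 62],
   [0, 7, 13, 17, 23, 29, 31, 50, 51, 60],
   [2, 7, 10, 15, 21, 24, 31, 45, 53, 59],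
   [0, 8, 11, 16, 22, 25, 32, 46, 51, 57],
   [1, 6, 9, 17, 23, 26, 30, 47, 52, 58],
   [0, 6, 10, 14, 21, 26, 28, 46, 50, 54],
   [1, 7, 11, 12, 22, 24, 29, 47, 48, 55],
   [2, 8, 9, 13, 23, 25, 27, 45, 49, 56],
   [2, 4, 13, 15, 18, 27, 31, 39, 44, 62],
   [0, 5, 14, 16, 19, 28, 32, 40, 42, 60],
   [1, 3, 12, 17, 20, 29, 30, 41, 43, 61],
   [1, 5, 11, 15, 18, 24, 32, 36, 43, 58],
   [2, 3, 9, 16, 19, 25, 30, 37, 44, 59],
   [0, 4, 10, 17, 20, 26, 31, 38, 42, 57],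
   [0, 3, 11, 13, 18, 25, 29, 38, 40, 54],
   [1, 4, 9, 14, 19, 26, 27, 36, 41, 55],
   [2, 5, 10, 12, 20, 24, 28, 37, 39, 56],
   [0, 3, 6, 15, 18, 21, 30, 33, 42, 51],
   [1, 4, 7, 16, 19, 22, 31, 34, 43, 52],
   [2, 5, 8, 17, 20, 23, 32, 35, 44, 53],
   [0, 4, 8, 12, 20, 22, 27, 33, 40, 50],
   [1, 5, 6, 13, 18, 23, 28, 34, 41, 48],
   [2, 3, 7, 14, 19, 21, 29, 35, 39, 49],
   [0, 5, 7, 9, 19, 23, 24, 33, 38, 46],
   [1, 3, 8, 10, 20, 21, 25, 34, 36, 47],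
   [2, 4, 6, 11, 18, 22, 26, 35, 37, 45]]

/-- Adjacency in the graph. -/
def adj (x y : Fin 63) : Bool := (nbT.getD x []).contains (y : ℕ)

/-- Parents in a spanning tree rooted at `0`. -/
def parT : List ℕ := [0, 41, 44, 51, 50, 46, 42, 38, 40, 33, 42, 40, 33, 38, 42, 33, 40, 38, 51, 46, 50, 42, 40, 38, 33, 40, 42, 33, 42, 38, 33, 38, 40, 0, 13, 17, 15, 12, 0, 15, 0, 9, 0, 12, 9, 15, 0, 12, 15, 9, 0, 0, 9, 12, 0, 7, 17, 0, 13, 7, 0, 8, 11]

/-- Depths in the spanning tree. -/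
def depT : List ℕ := [0, 4, 4, 2, 2, 2, 2, 2, 2, 2, 2, 2, 2, 2, 2, 2, 2, 2, 2, 2, 2, 2, 2, 2, 2, 2, 2, 2, 2, 2, 2, 2, 2, 1, 3, 3, 3, 3, 1, 3, 1, 3, 1, 3, 3, 3, 1, 3, 3, 3, 1, 1, 3, 3, 1, 3, 3, 1, 3, 3, 1, 3, 3]

/-- Parent of a vertex. -/
def parF (v : Fin 63) : Fin 63 := ⟨parT.getD v 0 % 63, Nat.mod_lt _ (by norm_num)⟩

/-- Depth of a vertex. -/
def depF (v : Fin 63) : ℕ := depT.getD v 0

/-- The fibre rotation. -/
def z0 : Equiv.Perm (Fin 63) :=
  mkP [1, 2, 0, 4, 5, 3, 7, 8, 6, 10, 11, 9, 13, 14, 12, 16, 17, 15, 19, 20, 18, 22, 23, 21, 25, 26, 24, 28, 29, 27, 31, 32, 30, 34, 35, 33, 37, 38, 36, 40, 41, 39, 43, 44, 42, 46, 47, 45, 49, 50, 48, 52, 53, 51, 55, 56, 54, 58, 59, 57, 61, 62, 60]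
    [2, 0, 1, 5, 3, 4, 8, 6, 7, 11, 9, 10, 14, 12, 13, 17, 15, 16, 20, 18, 19, 23, 21, 22, 26, 24, 25, 29, 27, 28, 32, 30, 31, 35, 33, 34, 38, 36, 37, 41, 39, 40, 44, 42, 43, 47, 45, 46, 50, 48, 49, 53, 51, 52, 56, 54, 55, 59, 57, 58, 62, 60, 61]
    (by decide) (by decide) (by decide) (by decide)

/-- Lift of the 3-cycle `(0 1 2)`. -/
def X1 : Equiv.Perm (Fin 63) :=
  mkP [18, 19, 20, 0, 1, 2, 21, 22, 23, 26, 24, 25, 28, 29, 27, 30, 31, 32, 3, 4, 5, 33, 34, 35, 37, 38, 36, 41, 39, 40, 42, 43, 44, 6, 7, 8, 9, 10, 11, 12, 13, 14, 15, 16, 17, 47, 45, 46, 49, 50, 48, 51, 52, 53, 54, 55, 56, 58, 59, 57, 62, 60, 61]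
    [3, 4, 5, 18, 19, 20, 33, 34, 35, 36, 37, 38, 39, 40, 41, 42, 43, 44, 0, 1, 2, 6, 7, 8, 10, 11, 9, 14, 12, 13, 15, 16, 17, 21, 22, 23, 26, 24, 25, 28, 29, 27, 30, 31, 32, 46, 47, 45, 50, 48, 49, 51, 52, 53, 54, 55, 56, 59, 57, 58, 61, 62, 60]
    (by decide) (by decide) (by decide) (by decide)

/-- Lift of the 3-cycle `(0 1 3)`. -/
def X2 : Equiv.Perm (Fin 63) :=
  mkP [21, 22, 23, 18, 19, 20, 0, 1, 2, 25, 26, 24, 29, 27, 28, 30, 31, 32, 33, 34, 35, 6, 7, 8, 47, 45, 46, 49, 50, 48, 51, 52, 53, 3, 4, 5, 37, 38, 36, 41, 39, 40, 42, 43, 44, 9, 10, 11, 12, 13, 14, 15, 16, 17, 54, 55, 56, 59, 57, 58, 61, 62, 60]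
    [6, 7, 8, 33, 34, 35, 21, 22, 23, 45, 46, 47, 48, 49, 50, 51, 52, 53, 3, 4, 5, 0, 1, 2, 11, 9, 10, 13, 14, 12, 15, 16, 17, 18, 19, 20, 38, 36, 37, 40, 41, 39, 42, 43, 44, 25, 26, 24, 29, 27, 28, 30, 31, 32, 54, 55, 56, 58, 59, 57, 62, 60, 61]
    (by decide) (by decide) (by decide) (by decide)

/-- Lift of the 3-cycle `(0 1 4)`. -/
def X3 : Equiv.Perm (Fin 63) :=
  mkP [24, 25, 26, 20, 18, 19, 22, 23, 21, 0, 1, 2, 27, 28, 29, 30, 31, 32, 37, 38, 36, 47, 45, 46, 9, 10, 11, 54, 55, 56, 57, 58, 59, 33, 34, 35, 3, 4, 5, 41, 39, 40, 43, 44, 42, 6, 7, 8, 49, 50, 48, 53, 51, 52, 12, 13, 14, 15, 16, 17, 60, 61, 62]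
    [9, 10, 11, 36, 37, 38, 45, 46, 47, 24, 25, 26, 54, 55, 56, 57, 58, 59, 4, 5, 3, 8, 6, 7, 0, 1, 2, 12, 13, 14, 15, 16, 17, 33, 34, 35, 20, 18, 19, 40, 41, 39, 44, 42, 43, 22, 23, 21, 50, 48, 49, 52, 53, 51, 27, 28, 29, 30, 31, 32, 60, 61, 62]
    (by decide) (by decide) (by decide) (by decide)

/-- Lift of the 3-cycle `(0 1 5)`. -/
def X4 : Equiv.Perm (Fin 63) :=
  mkP [27, 28, 29, 19, 20, 18, 23, 21, 22, 24, 25, 26, 0, 1, 2, 30, 31, 32, 41, 39, 40, 49, 50, 48, 54, 55, 56, 12, 13, 14, 60, 61, 62, 33, 34, 35, 37, 38, 36, 3, 4, 5, 44, 42, 43, 47, 45, 46, 6, 7, 8, 52, 53, 51, 9, 10, 11, 57, 58, 59, 15, 16, 17]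
    [12, 13, 14, 39, 40, 41, 48, 49, 50, 54, 55, 56, 27, 28, 29, 60, 61, 62, 5, 3, 4, 7, 8, 6, 9, 10, 11, 0, 1, 2, 15, 16, 17, 33, 34, 35, 38, 36, 37, 19, 20, 18, 43, 44, 42, 46, 47, 45, 23, 21, 22, 53, 51, 52, 24, 25, 26, 57, 58, 59, 30, 31, 32]
    (by decide) (by decide) (by decide) (by decide)

/-- Lift of the 3-cycle `(0 1 6)`. -/
def X5 : Equiv.Perm (Fin 63) :=
  mkP [30, 31, 32, 18, 19, 20, 21, 22, 23, 24, 25, 26, 27, 28, 29, 0, 1, 2, 42, 43, 44, 51, 52, 53, 57, 58, 59, 60, 61, 62, 15, 16, 17, 33, 34, 35, 38, 36, 37, 40, 41, 39, 3, 4, 5, 46, 47, 45, 50, 48, 49, 6, 7, 8, 54, 55, 56, 9, 10, 11, 12, 13, 14]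
    [15, 16, 17, 42, 43, 44, 51, 52, 53, 57, 58, 59, 60, 61, 62, 30, 31, 32, 3, 4, 5, 6, 7, 8, 9, 10, 11, 12, 13, 14, 0, 1, 2, 33, 34, 35, 37, 38, 36, 41, 39, 40, 18, 19, 20, 47, 45, 46, 49, 50, 48, 21, 22, 23, 54, 55, 56, 24, 25, 26, 27, 28, 29]
    (by decide) (by decide) (by decide) (by decide)

/-- Lift of the 3-cycle `(3 4 5)`. -/
def Cp : Equiv.Perm (Fin 63) :=
  mkP [2, 0, 1, 3, 4, 5, 9, 10, 11, 12, 13, 14, 6, 7, 8, 16, 17, 15, 19, 20, 18, 25, 26, 24, 28, 29, 27, 22, 23, 21, 30, 31, 32, 37, 38, 36, 40, 41, 39, 34, 35, 33, 44, 42, 43, 55, 56, 54, 46, 47, 45, 59, 57, 58, 49, 50, 48, 62, 60, 61, 53, 51, 52]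
    [1, 2, 0, 3, 4, 5, 12, 13, 14, 6, 7, 8, 9, 10, 11, 17, 15, 16, 20, 18, 19, 29, 27, 28, 23, 21, 22, 26, 24, 25, 30, 31, 32, 41, 39, 40, 35, 33, 34, 38, 36, 37, 43, 44, 42, 50, 48, 49, 56, 54, 55, 61, 62, 60, 47, 45, 46, 52, 53, 51, 58, 59, 57]
    (by decide) (by decide) (by decide) (by decide)

theorem p_apply_inv {α : Type*} (f : Equiv.Perm α) (x : α) : f (f⁻¹ x) = x :=
  Equiv.apply_symm_apply f x

theorem p_inv_apply {α : Type*} (f : Equiv.Perm α) (x : α) : f⁻¹ (f x) = x :=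
  Equiv.symm_apply_apply f x

/-! ### Decidable facts about the configuration -/

theorem z0_bl : ∀ x : Fin 63, bl (z0 x) = bl x := by decide +kernel

theorem z0_adj : ∀ x y : Fin 63, adj (z0 x) (z0 y) = adj x y := by decide +kernel

theorem same_bl : ∀ x y : Fin 63, bl x = bl y → y = x ∨ y = z0 x ∨ y = z0 (z0 x) := by
  decide +kernel

theorem adj_unique : ∀ x y : Fin 63, adj x y = true →
    adj x (z0 y) = false ∧ adj x (z0 (z0 y)) = false := by decide +kernel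

theorem tree : ∀ v : Fin 63, v = 0 ∨ (adj (parF v) v = true ∧ depF (parF v) < depF v) := by
  decide +kernel

theorem bl_lt : ∀ x : Fin 63, (bl x).1 < (bl x).2 := by decide +kernel

/-! ### Block- and graph-preserving permutations -/

/-- `P` fixes every block and preserves the graph. -/
def Pres (P : Equiv.Perm (Fin 63)) : Prop :=
  (∀ x, bl (P x) = bl x) ∧ ∀ x y, adj (P x) (P y) = adj x y

theorem pres_z0 : Pres z0 := ⟨z0_bl, z0_adj⟩

theorem pres_mul {P Q : Equiv.Perm (Fin 63)} (hP : Pres P) (hQ : Pres Q) : Pres (P * Q) := by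
  refine ⟨fun x => ?_, fun x y => ?_⟩
  · rw [Equiv.Perm.mul_apply, hP.1, hQ.1]
  · rw [Equiv.Perm.mul_apply, Equiv.Perm.mul_apply, hP.2, hQ.2]

theorem pres_inv {P : Equiv.Perm (Fin 63)} (hP : Pres P) : Pres P⁻¹ := by
  refine ⟨fun x => ?_, fun x y => ?_⟩
  · have := hP.1 (P⁻¹ x)
    rw [p_apply_inv] at this
    exact this.symm
  · have := hP.2 (P⁻¹ x) (P⁻¹ y)
    rw [p_apply_inv, p_apply_inv] at this
    exact this.symm

/-- A block- and graph-preserving permutation fixing the point `0` is trivial. -/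
theorem fix_all (Q : Equiv.Perm (Fin 63)) (h0 : Q 0 = 0) (hQ : Pres Q) : Q = 1 := by
  have key : ∀ n : ℕ, ∀ v : Fin 63, depF v = n → Q v = v := by
    intro n
    induction n using Nat.strong_induction_on with
    | _ n ih =>
      intro v hv
      rcases tree v with rfl | ⟨h1, h2⟩
      · exact h0
      · have hu : Q (parF v) = parF v := ih (depF (parF v)) (hv ▸ h2) (parF v) rfl
        have h3 : adj (parF v) (Q v) = true := by
          have := hQ.2 (parF v) v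
          rw [hu] at this
          rw [this]
          exact h1
        have h4 := adj_unique (parF v) v h1
        rcases same_bl v (Q v) (hQ.1 v).symm with h | h | h
        · exact h
        · exfalso
          rw [h, h4.1] at h3
          exact Bool.noConfusion h3
        · exfalso
          rw [h, h4.2] at h3
          exact Bool.noConfusion h3
  exact Equiv.ext (fun v => key _ v rfl)

/-- The block- and graph-preserving permutations are the powers of the fibre rotation. -/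
theorem pres_cases (P : Equiv.Perm (Fin 63)) (hP : Pres P) : P = 1 ∨ P = z0 ∨ P = z0 * z0 := by
  rcases same_bl 0 (P 0) (hP.1 0).symm with h | h | h
  · left
    exact fix_all P h hP
  · right; left
    have h1 : z0⁻¹ * P = 1 := by
      apply fix_all _ _ (pres_mul (pres_inv pres_z0) hP)
      rw [Equiv.Perm.mul_apply, h, p_inv_apply]
    calc P = z0 * (z0⁻¹ * P) := by group
      _ = z0 := by rw [h1, mul_one]
  · right; right
    have h1 : (z0 * z0)⁻¹ * P = 1 := by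
      apply fix_all _ _ (pres_mul (pres_inv (pres_mul pres_z0 pres_z0)) hP)
      rw [Equiv.Perm.mul_apply, h, ← Equiv.Perm.mul_apply z0 z0, p_inv_apply]
    calc P = (z0 * z0) * ((z0 * z0)⁻¹ * P) := by group
      _ = z0 * z0 := by rw [h1, mul_one]

theorem z0_cube : z0 * z0 * z0 = 1 := by decide +kernel

theorem z0_ne_one : z0 ≠ 1 := by decide +kernel

/-! ### The group -/

/-- The duad `b` is the image of the duad `a` under `g`. -/
def Compat (g : Equiv.Perm (Fin 7)) (a b : Fin 7 × Fin 7) : Prop :=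
  (g a.1 = b.1 ∧ g a.2 = b.2) ∨ (g a.1 = b.2 ∧ g a.2 = b.1)

instance (g : Equiv.Perm (Fin 7)) (a b : Fin 7 × Fin 7) : Decidable (Compat g a b) := by
  unfold Compat; infer_instance

theorem compat_one (a : Fin 7 × Fin 7) : Compat 1 a a := Or.inl ⟨rfl, rfl⟩

theorem compat_mul {g h : Equiv.Perm (Fin 7)} {a b c : Fin 7 × Fin 7} (h1 : Compat h a b)
    (h2 : Compat g b c) : Compat (g * h) a c := by
  unfold Compat at *
  simp only [Equiv.Perm.mul_apply]
  rcases h1 with ⟨e1, e2⟩ | ⟨e1, e2⟩ <;> rcases h2 with ⟨f1, f2⟩ | ⟨f1, f2⟩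
  · left; rw [e1, e2]; exact ⟨f1, f2⟩
  · right; rw [e1, e2]; exact ⟨f1, f2⟩
  · right; rw [e1, e2]; exact ⟨f2, f1⟩
  · left; rw [e1, e2]; exact ⟨f2, f1⟩

theorem compat_inv {g : Equiv.Perm (Fin 7)} {a b : Fin 7 × Fin 7} (h : Compat g a b) :
    Compat g⁻¹ b a := by
  unfold Compat at *
  rcases h with ⟨e1, e2⟩ | ⟨e1, e2⟩
  · left; rw [← e1, ← e2]; exact ⟨p_inv_apply g _, p_inv_apply g _⟩
  · right; rw [← e1, ← e2]; exact ⟨p_inv_apply g _, p_inv_apply g _⟩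

/-- Membership condition of the triple cover. -/
def Mem (g : Equiv.Perm (Fin 7)) (P : Equiv.Perm (Fin 63)) : Prop :=
  (∀ x, P (z0 x) = z0 (P x)) ∧ (∀ x, Compat g (bl x) (bl (P x))) ∧
    ∀ x y, adj (P x) (P y) = adj x y

instance (g : Equiv.Perm (Fin 7)) (P : Equiv.Perm (Fin 63)) : Decidable (Mem g P) := by
  unfold Mem; infer_instance

theorem mem_one : Mem 1 1 := ⟨fun _ => rfl, fun _ => compat_one _, fun _ _ => rfl⟩

theorem mem_mul {g h : Equiv.Perm (Fin 7)} {P Q : Equiv.Perm (Fin 63)} (h1 : Mem g P)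
    (h2 : Mem h Q) : Mem (g * h) (P * Q) := by
  refine ⟨fun x => ?_, fun x => ?_, fun x y => ?_⟩
  · rw [Equiv.Perm.mul_apply, Equiv.Perm.mul_apply, h2.1, h1.1]
  · rw [Equiv.Perm.mul_apply]
    exact compat_mul (h2.2.1 x) (h1.2.1 (Q x))
  · rw [Equiv.Perm.mul_apply, Equiv.Perm.mul_apply, h1.2.2, h2.2.2]

theorem mem_inv {g : Equiv.Perm (Fin 7)} {P : Equiv.Perm (Fin 63)} (h1 : Mem g P) :
    Mem g⁻¹ P⁻¹ := by
  refine ⟨fun x => ?_, fun x => ?_, fun x y => ?_⟩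
  · have := h1.1 (P⁻¹ x)
    rw [p_apply_inv] at this
    rw [← this, p_inv_apply]
  · have := h1.2.1 (P⁻¹ x)
    rw [p_apply_inv] at this
    exact compat_inv this
  · have := h1.2.2 (P⁻¹ x) (P⁻¹ y)
    rw [p_apply_inv, p_apply_inv] at this
    exact this.symm

/-- The triple cover of `A_7`. -/
def X7 : Subgroup (alternatingGroup (Fin 7) × Equiv.Perm (Fin 63)) where
  carrier := {p | Mem (p.1 : Equiv.Perm (Fin 7)) p.2}
  mul_mem' := fun ha hb => mem_mul ha hb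
  one_mem' := mem_one
  inv_mem' := fun ha => mem_inv ha

theorem mem_X7 {p : alternatingGroup (Fin 7) × Equiv.Perm (Fin 63)} :
    p ∈ X7 ↔ Mem (p.1 : Equiv.Perm (Fin 7)) p.2 := Iff.rfl

/-- The projection onto `A_7`. -/
def proj : ↥X7 →* alternatingGroup (Fin 7) :=
  (MonoidHom.fst _ _).comp X7.subtype

theorem proj_apply (p : ↥X7) : proj p = p.1.1 := rfl

/-- The central element of order three. -/
def zX : ↥X7 := ⟨(1, z0), by
  rw [mem_X7]
  exact ⟨fun _ => rfl, fun x => by rw [z0_bl]; exact compat_one _, z0_adj⟩⟩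

theorem zX_mem_ker : zX ∈ proj.ker := rfl

theorem zX_ne_one : zX ≠ 1 := by
  intro h
  have h1 : (zX : alternatingGroup (Fin 7) × Equiv.Perm (Fin 63)).2 = 1 := by rw [h]; rfl
  exact z0_ne_one h1

theorem zX_pow : zX ^ 3 = 1 := by
  apply Subtype.ext
  apply Prod.ext
  · show (1 : alternatingGroup (Fin 7)) ^ 3 = 1
    exact one_pow 3
  · show z0 ^ 3 = 1
    rw [pow_succ, pow_two]
    exact z0_cube

theorem zX_order : orderOf zX = 3 := orderOf_eq_prime zX_pow zX_ne_one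

/-- The kernel consists of the powers of `zX`. -/
theorem ker_cases (p : ↥X7) (hp : p ∈ proj.ker) : p = 1 ∨ p = zX ∨ p = zX * zX := by
  have h1 : p.1.1 = 1 := hp
  have hm : Mem ((p.1.1 : alternatingGroup (Fin 7)) : Equiv.Perm (Fin 7)) p.1.2 := p.2
  rw [h1] at hm
  have hpres : Pres p.1.2 := by
    refine ⟨fun x => ?_, hm.2.2⟩
    have hc := hm.2.1 x
    have l1 := bl_lt x
    have l2 := bl_lt (p.1.2 x)
    rcases hc with ⟨e1, e2⟩ | ⟨e1, e2⟩
    · exact (Prod.ext e1 e2).symm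
    · exfalso
      have e1' : (bl x).1 = (bl (p.1.2 x)).2 := e1
      have e2' : (bl x).2 = (bl (p.1.2 x)).1 := e2
      rw [e1', e2'] at l1
      exact lt_asymm l1 l2
  rcases pres_cases p.1.2 hpres with h | h | h
  · left
    exact Subtype.ext (Prod.ext h1 h)
  · right; left
    exact Subtype.ext (Prod.ext h1 h)
  · right; right
    exact Subtype.ext (Prod.ext (by rw [h1]; rfl) h)

theorem zX_central (q : ↥X7) : q * zX = zX * q := by
  apply Subtype.ext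
  apply Prod.ext
  · show q.1.1 * 1 = 1 * q.1.1
    rw [mul_one, one_mul]
  · show q.1.2 * z0 = z0 * q.1.2
    exact Equiv.ext (fun x => q.2.1 x)

theorem ker_le_center : proj.ker ≤ Subgroup.center ↥X7 := by
  intro p hp
  rw [Subgroup.mem_center_iff]
  intro q
  rcases ker_cases p hp with rfl | rfl | rfl
  · rw [mul_one, one_mul]
  · exact zX_central q
  · rw [← mul_assoc, zX_central q, mul_assoc, zX_central q, mul_assoc]

/-! ### Generators -/

/-- The 3-cycle `(0 1 k)` for `k ≥ 2`. -/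
def x1 : alternatingGroup (Fin 7) := ⟨swap 0 1 * swap 1 2, by
  rw [Equiv.Perm.mem_alternatingGroup]; decide⟩
def x2 : alternatingGroup (Fin 7) := ⟨swap 0 1 * swap 1 3, by
  rw [Equiv.Perm.mem_alternatingGroup]; decide⟩
def x3 : alternatingGroup (Fin 7) := ⟨swap 0 1 * swap 1 4, by
  rw [Equiv.Perm.mem_alternatingGroup]; decide⟩
def x4 : alternatingGroup (Fin 7) := ⟨swap 0 1 * swap 1 5, by
  rw [Equiv.Perm.mem_alternatingGroup]; decide⟩
def x5 : alternatingGroup (Fin 7) := ⟨swap 0 1 * swap 1 6, by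
  rw [Equiv.Perm.mem_alternatingGroup]; decide⟩
/-- The 3-cycle `(3 4 5)`. -/
def cp : alternatingGroup (Fin 7) := ⟨swap 3 4 * swap 4 5, by
  rw [Equiv.Perm.mem_alternatingGroup]; decide⟩

theorem mem1 : Mem (x1 : Equiv.Perm (Fin 7)) X1 := by decide +kernel
theorem mem2 : Mem (x2 : Equiv.Perm (Fin 7)) X2 := by decide +kernel
theorem mem3 : Mem (x3 : Equiv.Perm (Fin 7)) X3 := by decide +kernel
theorem mem4 : Mem (x4 : Equiv.Perm (Fin 7)) X4 := by decide +kernel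
theorem mem5 : Mem (x5 : Equiv.Perm (Fin 7)) X5 := by decide +kernel
theorem memc : Mem (cp : Equiv.Perm (Fin 7)) Cp := by decide +kernel

/-- The lifted generators. -/
def g1 : ↥X7 := ⟨(x1, X1), mem1⟩
def g2 : ↥X7 := ⟨(x2, X2), mem2⟩
def g3 : ↥X7 := ⟨(x3, X3), mem3⟩
def g4 : ↥X7 := ⟨(x4, X4), mem4⟩
def g5 : ↥X7 := ⟨(x5, X5), mem5⟩
def gc : ↥X7 := ⟨(cp, Cp), memc⟩

open scoped commutatorElement in
theorem comm_eq : ⁅g1, gc⁆ = zX := by
  apply Subtype.ext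
  apply Prod.ext
  · show ⁅x1, cp⁆ = 1
    decide +kernel
  · show ⁅X1, Cp⁆ = z0
    decide +kernel

theorem zX_mem_commutator : zX ∈ commutator ↥X7 := by
  rw [← comm_eq]
  exact Subgroup.commutator_mem_commutator (Subgroup.mem_top _) (Subgroup.mem_top _)

/-! ### Surjectivity -/

/-- A subgroup of `A_7` of index at most 6 is the whole group. -/
theorem eq_top_of_index_le (H : Subgroup (alternatingGroup (Fin 7))) (h : H.index ≤ 6) :
    H = ⊤ := by
  have hs : IsSimpleGroup (alternatingGroup (Fin 7)) :=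
    alternatingGroup.isSimpleGroup (by rw [Nat.card_eq_fintype_card, Fintype.card_fin]; norm_num)
  rcases (H.normalCore_normal).eq_bot_or_eq_top with hb | ht
  · exfalso
    have hker : (MulAction.toPermHom (alternatingGroup (Fin 7))
        (alternatingGroup (Fin 7) ⧸ H)).ker = ⊥ := by
      rw [← Subgroup.normalCore_eq_ker, hb]
    have hinj := (MonoidHom.ker_eq_bot_iff _).mp hker
    have hfin : Finite (alternatingGroup (Fin 7) ⧸ H) := inferInstance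
    have hdvd := Subgroup.card_dvd_of_injective _ hinj
    rw [Nat.card_perm, ← Subgroup.index_eq_card] at hdvd
    have hcard : Nat.card (alternatingGroup (Fin 7)) = 2520 := by
      rw [nat_card_alternatingGroup]; simp [Nat.factorial]
    rw [hcard] at hdvd
    have h2 : (H.index).factorial ∣ (6 : ℕ).factorial := Nat.factorial_dvd_factorial h
    have h3 : 2520 ∣ (6 : ℕ).factorial := dvd_trans hdvd h2
    revert h3
    decide
  · rw [eq_top_iff, ← ht]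
    exact Subgroup.normalCore_le H

theorem proj_surjective : Function.Surjective proj := by
  rw [← MonoidHom.range_eq_top]
  have hcard : Nat.card (alternatingGroup (Fin 7)) = 2520 := by
    rw [nat_card_alternatingGroup]; simp [Nat.factorial]
  have m1 : x1 ∈ proj.range := ⟨g1, rfl⟩
  have m2 : x2 ∈ proj.range := ⟨g2, rfl⟩
  have m3 : x3 ∈ proj.range := ⟨g3, rfl⟩
  have m4 : x4 ∈ proj.range := ⟨g4, rfl⟩
  have m5 : x5 ∈ proj.range := ⟨g5, rfl⟩
  have : Fact (Nat.Prime 5) := ⟨by norm_num⟩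
  have : Fact (Nat.Prime 7) := ⟨by norm_num⟩
  have o3 : orderOf x1 = 3 := orderOf_eq_prime (by decide +kernel) (by decide +kernel)
  have o5 : orderOf (x1 * x2 * x3) = 5 :=
    orderOf_eq_prime (by decide +kernel) (by decide +kernel)
  have o7 : orderOf (x1 * x2 * x3 * x4 * x5) = 7 :=
    orderOf_eq_prime (by decide +kernel) (by decide +kernel)
  have o4 : orderOf (x1 * x1 * x2 * x3 * x4) = 2 ^ 2 :=
    orderOf_eq_prime_pow (p := 2) (n := 1) (by decide +kernel) (by decide +kernel)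
  have d3 : 3 ∣ Nat.card proj.range := by
    have := Subgroup.orderOf_dvd_natCard _ m1
    rwa [o3] at this
  have d5 : 5 ∣ Nat.card proj.range := by
    have := Subgroup.orderOf_dvd_natCard _ (mul_mem (mul_mem m1 m2) m3)
    rwa [o5] at this
  have d7 : 7 ∣ Nat.card proj.range := by
    have := Subgroup.orderOf_dvd_natCard _
      (mul_mem (mul_mem (mul_mem (mul_mem m1 m2) m3) m4) m5)
    rwa [o7] at this
  have d4 : 4 ∣ Nat.card proj.range := by
    have := Subgroup.orderOf_dvd_natCard _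
      (mul_mem (mul_mem (mul_mem (mul_mem m1 m1) m2) m3) m4)
    rwa [o4] at this
  have d420 : 420 ∣ Nat.card proj.range := by
    have e1 : 12 ∣ Nat.card proj.range := Nat.Coprime.mul_dvd_of_dvd_of_dvd (by norm_num) d3 d4
    have e2 : 60 ∣ Nat.card proj.range := Nat.Coprime.mul_dvd_of_dvd_of_dvd (by norm_num) e1 d5
    exact Nat.Coprime.mul_dvd_of_dvd_of_dvd (by norm_num) e2 d7
  have hidx := Subgroup.card_mul_index proj.range
  rw [hcard] at hidx
  obtain ⟨k, hk⟩ := d420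
  rw [hk] at hidx
  have hk6 : k * proj.range.index = 6 := by
    have : 420 * (k * proj.range.index) = 420 * 6 := by rw [← mul_assoc]; exact hidx
    exact Nat.eq_of_mul_eq_mul_left (by norm_num) this
  apply eq_top_of_index_le
  have hk0 : 0 < k := by
    rcases Nat.eq_zero_or_pos k with h | h
    · rw [h, zero_mul] at hk6; omega
    · exact h
  calc proj.range.index ≤ k * proj.range.index := Nat.le_mul_of_pos_left _ hk0
    _ = 6 := hk6

end Cfsg.Agent.Lib.Helper35.TripleA7
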